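import Mathlib
import Cfsg.Agent.MinSimple.DihedOf

/-!
# Theorem E, Step 7: the odd partner of an elementary abelian 2-group

`exists_partner`: `M` finite solvable, `K` normal, `O₂(M/K) = 1`, `B` an elementary abelian 2-subgroup not in `K`:
there are a hyperplane `B1 ≥ B ⊓ K` of `B`, `b ∈ B` and `x` of odd order inverted by `b`, not in `K` and centralizing
`B1` modulo `K`.
-/

set_option autoImplicit false

namespace Cfsg.Agent.MinSimple.EmptyE.CountPartner

open Subgroup

theorem exists_partner {M : Type*} [Group M] [Finite M] (K : Subgroup M) [K.Normal] (hM : Group.IsSolvable M)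
    (ho : ∀ X : Subgroup M, X.Normal → K ≤ X → (∃ k : ℕ, K.relIndex X = 2 ^ k) → X ≤ K)
    (B : Subgroup M) (hB : ∀ b ∈ B, b * b = 1) (hBK : ¬ B ≤ K) :
    ∃ B1 ≤ B, B ⊓ K ≤ B1 ∧ B1.relIndex B = 2 ∧ ∃ b ∈ B, ∃ x : M, Odd (orderOf x) ∧ b * x * b⁻¹ = x⁻¹ ∧
      x ∉ K ∧ ∀ a ∈ B1, a * x * a⁻¹ * x⁻¹ ∈ K := by
  classical
  set π := QuotientGroup.mk' K with hπ
  have hπs : Function.Surjective π := QuotientGroup.mk'_surjective K
  have hker : ∀ g, π g = 1 ↔ g ∈ K := fun g => QuotientGroup.eq_one_iff g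
  have hX : Group.IsSolvable (⊤ : Subgroup (M ⧸ K)) := by
    have h1 : Group.IsSolvable (M ⧸ K) := Group.isSolvable_of_surjective hπs
    infer_instance
  have hXo : ∀ N : Subgroup (M ⧸ K), N ≤ ⊤ → IsPGroup 2 N → ⊤ ≤ normalizer (N : Set (M ⧸ K)) → N = ⊥ := by
    intro N _ hN hnorm
    have hNn : N.Normal := normalizer_eq_top_iff.mp (top_le_iff.mp hnorm)
    have h1 : K ≤ N.comap π := by
      intro g hg
      rw [mem_comap, (hker g).mpr hg]; exact one_mem _
    have h2 : ∃ k : ℕ, K.relIndex (N.comap π) = 2 ^ k := by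
      have h3 : K = (⊥ : Subgroup (M ⧸ K)).comap π := by
        ext g; rw [mem_comap, mem_bot, hker]
      obtain ⟨k, hk⟩ := IsPGroup.iff_card.mp hN
      refine ⟨k, ?_⟩
      rw [congrArg (fun X => X.relIndex (N.comap π)) h3]
      rw [relIndex_comap, map_comap_eq_self_of_surjective hπs, relIndex_bot_left, hk]
    have h3 := ho _ (hNn.comap π) h1 h2
    rw [eq_bot_iff]
    intro q hq
    obtain ⟨g, rfl⟩ := hπs q
    exact mem_bot.mpr ((hker g).mpr (h3 hq))
  obtain ⟨n, c, y, hcard, hcl, hc, -, hyp, hy2, hinv, -, -, hall⟩ :=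
    DihedOf.exists_dihedral_of_solvable (Γ := M ⧸ K) (X := ⊤) (A := B.map π) hX hXo le_top (by
      rintro _ ⟨b, hb, rfl⟩
      rw [← map_mul, hB b hb, map_one])
  have hn : n ≠ 0 := by
    rintro rfl
    apply hBK
    intro b hb
    have h1 : B.map π = ⊥ := by
      rw [← Subgroup.card_eq_one, hcard, pow_zero]
    have h2 : π b ∈ B.map π := ⟨b, hb, rfl⟩
    rw [h1, mem_bot, hker] at h2
    exact h2
  let j : Fin n := ⟨0, Nat.pos_of_ne_zero hn⟩
  obtain ⟨b, hb, hbj⟩ := hc j
  have hbj' : c j = π b := hbj.symm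
  set z := y j with hz
  have hzodd : Odd (orderOf z) := (hyp j).odd_of_ne_two (hy2 j)
  have hz1 : z ≠ z⁻¹ := by
    intro h
    have h1 : z ^ 2 = 1 := by rw [pow_two]; nth_rewrite 2 [h]; exact mul_inv_cancel z
    have h2 := orderOf_dvd_of_pow_eq_one h1
    exact hy2 j ((Nat.prime_dvd_prime_iff_eq (hyp j) Nat.prime_two).mp h2)
  have hbz : π b * z * (π b)⁻¹ = z⁻¹ := by rw [← hbj']; exact hinv j
  set B1 : Subgroup M := B ⊓ (centralizer ({z} : Set (M ⧸ K))).comap π with hB1
  have hmem : ∀ a, a ∈ B1 ↔ a ∈ B ∧ π a * z = z * π a := by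
    intro a
    rw [hB1, mem_inf, mem_comap, mem_centralizer_singleton_iff]
  refine ⟨B1, inf_le_left, ?_, ?_, b, hb, ?_⟩
  · rintro a ⟨ha, haK⟩
    rw [hmem]
    refine ⟨ha, ?_⟩
    rw [(hker a).mpr haK, one_mul, mul_one]
  · rw [relIndex_eq_two_iff]
    refine ⟨b, hb, fun a ha => ?_⟩
    have h1 : π b * z = z⁻¹ * π b := by rw [← hbz]; group
    rcases hall (π a) ⟨a, ha, rfl⟩ j with h2 | h2
    · right
      refine ⟨(hmem a).mpr ⟨ha, h2⟩, fun h3 => ?_⟩
      have h4 := ((hmem _).mp h3).2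
      rw [map_mul] at h4
      apply hz1
      have h5 : π a * π b * z = z⁻¹ * (π a * π b) := by
        rw [mul_assoc, h1, ← mul_assoc, ← mul_assoc]
        congr 1
        rw [← hz] at h2
        have := congrArg (fun t => z⁻¹ * t * z⁻¹) h2
        simpa [mul_assoc] using this.symm
      rw [h5] at h4
      exact (mul_right_cancel h4).symm
    · left
      rw [← hz] at h2
      have h2' : π a * z = z⁻¹ * π a := by rw [← h2]; group
      constructor
      · rw [hmem]
        refine ⟨mul_mem ha hb, ?_⟩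
        rw [map_mul]
        calc π a * π b * z = π a * (π b * z) := by group
          _ = (π a * z)⁻¹⁻¹ * z⁻¹ * z⁻¹ * π b := by rw [h1]; group
          _ = z⁻¹ * (π a * z⁻¹) * z⁻¹ * π b := by rw [h2']; group
          _ = z * (π a * π b) := by
            have h3 : π a * z⁻¹ = z * π a := by
              have h4 : z * π a * z = π a := by rw [mul_assoc, h2']; group
              calc π a * z⁻¹ = (z * π a * z) * z⁻¹ := by rw [h4]
                _ = z * π a := by group
            rw [h3]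
            calc z⁻¹ * (z * π a) * z⁻¹ * π b = (π a * z⁻¹) * π b := by group
              _ = z * (π a * π b) := by rw [h3]; group
      · intro h3
        have h4 := ((hmem _).mp h3).2
        rw [h2'] at h4
        exact hz1 (mul_right_cancel h4).symm
  · obtain ⟨g, hg⟩ := hπs z
    set d := b * g * b⁻¹ * g⁻¹ with hd
    have hbb : b⁻¹ = b := inv_eq_of_mul_eq_one_left (hB b hb)
    have hπd : π d = (z ^ 2)⁻¹ := by
      rw [hd, map_mul, map_mul, map_mul, map_inv, map_inv, hg, hbz, pow_two, mul_inv_rev]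
    have hbd : b * d * b⁻¹ = d⁻¹ := by
      calc b * d * b⁻¹ = (b * b) * g * b⁻¹ * g⁻¹ * b⁻¹ := by rw [hd]; group
        _ = g * b⁻¹ * g⁻¹ * b⁻¹ := by rw [hB b hb]; group
        _ = g * b * g⁻¹ * b⁻¹ := by rw [hbb]
        _ = d⁻¹ := by rw [hd]; group
    obtain ⟨s, m, hm, hsm⟩ := Nat.exists_eq_two_pow_mul_odd (orderOf_pos d).ne'
    have hox : orderOf (d ^ (2 ^ s)) = m := by
      rw [orderOf_pow_of_dvd (by positivity) ⟨m, hsm⟩, hsm]
      exact Nat.mul_div_cancel_left m (by positivity)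
    have hπx : π (d ^ (2 ^ s)) = (z ^ (2 ^ (s + 1)))⁻¹ := by
      rw [map_pow, hπd, inv_pow, ← pow_mul, pow_succ, mul_comm]
    refine ⟨d ^ (2 ^ s), by rw [hox]; exact hm, ?_, ?_, ?_⟩
    · rw [← conj_pow, hbd, inv_pow]
    · intro hxK
      have h1 := (hker _).mpr hxK
      rw [hπx, inv_eq_one] at h1
      have h2 := orderOf_dvd_of_pow_eq_one h1
      have h3 : (orderOf z).Coprime (2 ^ (s + 1)) :=
        Nat.Coprime.pow_right _ (Nat.Coprime.symm (Nat.coprime_two_left.mpr hzodd))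
      have h4 := Nat.Coprime.eq_one_of_dvd h3 h2
      exact (hyp j).ne_one h4
    · intro a ha
      rw [← hker]
      have h1 : Commute (π a) z := ((hmem a).mp ha).2
      have h2 : Commute (π a) (π (d ^ (2 ^ s))) := by
        rw [hπx]; exact (h1.pow_right _).inv_right
      rw [map_mul, map_mul, map_mul, map_inv, map_inv, h2.eq]
      group

end Cfsg.Agent.MinSimple.EmptyE.CountPartner
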