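import Cfsg.Agent.MinSimple.EmptyE.CountPair
import Cfsg.Agent.MinSimple.EmptyE.CountPartner

/-!
# Theorem E, Step 7: the counting argument

`false_of_pts : Pts PP BB → False` (`blueprints/P21-Empty-v2-helper129.md`, section 7).
-/

set_option autoImplicit false

namespace Cfsg.Agent.MinSimple.EmptyE.Count

open Subgroup
open Cfsg.Agent.MinSimple.EmptyE.CountDefs Cfsg.Agent.MinSimple.EmptyE.CountPair
open Cfsg.Agent.MinSimple.Geo (cj mem_cj conj_mem_cj cj_cj cj_one cj_inv_cj cj_cj_inv cj_mono cj_le_iff cj_le_cj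
  cj_eq_of_mem_normalizer mem_normalizer_iff_cj card_cj)

universe u

variable {G : Type u} [Group G] {PP BB : Set (Subgroup G)}

/-- the elements of `W` commuting with `B` modulo `b` -/
def pp (b W B : Subgroup G) : Subgroup G where
  carrier := {w | w ∈ W ∧ w ∈ normalizer (b : Set G) ∧ ∀ a ∈ B, a * w * a⁻¹ * w⁻¹ ∈ b}
  mul_mem' := by
    rintro w v ⟨h1, h2, h3⟩ ⟨k1, k2, k3⟩
    refine ⟨mul_mem h1 k1, mul_mem h2 k2, fun a ha => ?_⟩
    have : a * (w * v) * a⁻¹ * (w * v)⁻¹ = (a * w * a⁻¹ * w⁻¹) * (w * (a * v * a⁻¹ * v⁻¹) * w⁻¹) := by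
      group
    rw [this]
    exact mul_mem (h3 a ha) ((mem_normalizer_iff.mp h2 _).mp (k3 a ha))
  one_mem' := ⟨one_mem _, one_mem _, fun a _ => by simp⟩
  inv_mem' := by
    rintro w ⟨h1, h2, h3⟩
    refine ⟨inv_mem h1, inv_mem h2, fun a ha => ?_⟩
    have : a * w⁻¹ * a⁻¹ * w⁻¹⁻¹ = w⁻¹ * (a * w * a⁻¹ * w⁻¹)⁻¹ * w⁻¹⁻¹ := by group
    rw [this]
    exact (mem_normalizer_iff.mp (inv_mem h2) _).mp (inv_mem (h3 a ha))

theorem mem_pp {b W B : Subgroup G} {w : G} :
    w ∈ pp b W B ↔ w ∈ W ∧ w ∈ normalizer (b : Set G) ∧ ∀ a ∈ B, a * w * a⁻¹ * w⁻¹ ∈ b := Iff.rfl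

theorem pp_le (b W B : Subgroup G) : pp b W B ≤ W := fun _ hw => hw.1

theorem pp_anti {b W B B1 : Subgroup G} (h : B1 ≤ B) : pp b W B ≤ pp b W B1 :=
  fun _ hw => ⟨hw.1, hw.2.1, fun a ha => hw.2.2 a (h ha)⟩

theorem chain [Finite G] {D E : Subgroup G} (f : Subgroup G → ℕ) (hD : 1 ≤ f D)
    (step : ∀ B, D ≤ B → B ≤ E → B ≠ D →
      ∃ B1, D ≤ B1 ∧ B1 ≤ B ∧ B1.relIndex B = 2 ∧ 4 * f B1 ≤ f B) :
    ∀ B, D ≤ B → B ≤ E → (D.relIndex B) ^ 2 ≤ f B := by
  intro B
  induction hn : Nat.card B using Nat.strong_induction_on generalizing B with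
  | _ n ih =>
    intro hDB hBE
    by_cases hB : B = D
    · subst hB; rw [relIndex_self]; simpa using hD
    · obtain ⟨B1, h1, h2, h3, h4⟩ := step B hDB hBE hB
      have hc := relIndex_mul_relIndex ⊥ B1 B bot_le h2
      rw [relIndex_bot_left, relIndex_bot_left, h3] at hc
      have hpos : 0 < Nat.card B1 := Nat.card_pos
      have h5 := ih _ (by omega) B1 rfl h1 (h2.trans hBE)
      have h6 := relIndex_mul_relIndex D B1 B h1 h2
      rw [h3] at h6
      rw [← h6]
      calc (D.relIndex B1 * 2) ^ 2 = 4 * (D.relIndex B1) ^ 2 := by ring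
        _ ≤ 4 * f B1 := by omega
        _ ≤ f B := h4

theorem rne [Finite G] (H K : Subgroup G) : H.relIndex K ≠ 0 := by
  rw [relIndex]; exact index_ne_zero_of_finite

theorem four_le [Finite G] {H K U b : Subgroup G} (hb : Nat.card b = 4) (hU : Nat.card U = 16)
    (h : H ⊓ U ≤ b) (hUK : U ≤ K) : 4 ≤ H.relIndex K := by
  refine le_trans ?_ (relIndex_le_of_le_right hUK (rne _ _))
  have h1 := relIndex_mul_relIndex ⊥ (H ⊓ U) U bot_le inf_le_right
  rw [relIndex_bot_left, relIndex_bot_left, inf_relIndex_right, hU] at h1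
  have h2 : Nat.card (H ⊓ U : Subgroup G) ≤ 4 := by
    rw [← hb]; exact Nat.card_le_card_of_injective _ (inclusion_injective h)
  by_contra h3
  have h4 : H.relIndex U ≤ 3 := by omega
  have : Nat.card (H ⊓ U : Subgroup G) * H.relIndex U ≤ 4 * 3 := Nat.mul_le_mul h2 h4
  omega

theorem centralizer_le_kk {b V : Subgroup G} (hV : V ∈ BB) (hbV : b ≤ V) :
    centralizer (ww BB b : Set G) ≤ kk BB b := by
  intro g hg
  rw [mem_kk]
  have h1 : ∀ U ∈ BB, b ≤ U → g ∈ centralizer (U : Set G) := fun U hU hbU =>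
    centralizer_le (le_ww hU hbU) hg
  refine ⟨?_, fun U hU hbU => centralizer_le_normalizer' U (h1 U hU hbU)⟩
  exact centralizer_le_normalizer' b (centralizer_le hbV (h1 V hV hbV))

theorem le_cent {b b' V : Subgroup G} (hs : Side PP BB b b' V) : ww BB b ≤ centralizer (V : Set G) := by
  rw [CountPair.le_centralizer_iff]; exact hs.comm

theorem le_cent' {b b' V : Subgroup G} (hs : Side PP BB b b' V) : ww BB b ≤ centralizer (b' : Set G) :=
  (le_cent hs).trans (centralizer_le hs.le)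

theorem le_norm {b b' V : Subgroup G} (hs : Side PP BB b b' V) : ww BB b ≤ normalizer (b' : Set G) :=
  (le_cent hs).trans ((centralizer_le hs.le).trans (centralizer_le_normalizer' b'))

/-- (7.3) -/
theorem step3 [Finite G] (h : WPts PP BB) {b b' V : Subgroup G} (hs : Side PP BB b b' V) :
    ((ww BB b ⊓ centralizer (ww BB b' : Set G)).relIndex (ww BB b ⊓ kk BB b')) ^ 2 ≤
      (centralizer ((ww BB b ⊓ kk BB b' : Subgroup G) : Set G)).relIndex (ww BB b') := by
  refine chain (D := ww BB b ⊓ centralizer (ww BB b' : Set G)) (E := ww BB b ⊓ kk BB b')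
    (fun B => (centralizer (B : Set G)).relIndex (ww BB b')) ?_ ?_ _ ?_ le_rfl
  · exact Nat.one_le_iff_ne_zero.mpr (rne _ _)
  · intro B hDB hBE hne
    obtain ⟨e, he, heW⟩ : ∃ e ∈ B, e ∉ centralizer (ww BB b' : Set G) := by
      by_contra hcon
      push Not at hcon
      exact hne (le_antisymm (fun e he => ⟨(hBE he).1, hcon e he⟩) hDB)
    obtain ⟨U, hU, hbU, v, hv, hev⟩ : ∃ U ∈ BB, b' ≤ U ∧ ∃ v ∈ U, e * v ≠ v * e := by
      by_contra hcon
      push Not at hcon
      apply heW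
      have h1 : ww BB b' ≤ centralizer ({e} : Set G) := by
        refine sSup_le ?_
        rintro U ⟨hU, hbU⟩ v hv
        rw [mem_centralizer_singleton_iff]
        exact (hcon U hU hbU v hv).symm
      rw [mem_centralizer_iff]
      intro w hw
      exact mem_centralizer_singleton_iff.mp (h1 hw)
    have hBn : ∀ a ∈ B, a ∈ centralizer (b' : Set G) ∧ a ∈ normalizer (U : Set G) := by
      intro a ha
      have := mem_kk.mp (hBE ha).2
      exact ⟨le_cent' hs (hBE ha).1, this.2 U hU hbU⟩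
    have hBs : ∀ a ∈ B, a * a = 1 := fun a ha => ww_sq h hs.hb a (hBE ha).1
    have heU : e ∉ centralizer (U : Set G) := fun h1 =>
      hev (mem_centralizer_iff.mp h1 v hv).symm
    refine ⟨B ⊓ centralizer (U : Set G), ?_, inf_le_left, ?_, ?_⟩
    · exact le_inf hDB (inf_le_right.trans (centralizer_le (le_ww hU hbU)))
    · rw [relIndex_eq_two_iff]
      refine ⟨e, he, fun f hf => ?_⟩
      by_cases hfU : f ∈ centralizer (U : Set G)
      · right
        refine ⟨⟨hf, hfU⟩, fun h1 => heU ?_⟩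
        have := mul_mem (inv_mem hfU) h1.2
        rwa [inv_mul_cancel_left] at this
      · left
        refine ⟨⟨mul_mem hf he, ?_⟩, fun h1 => hfU h1.2⟩
        have h1 : ∃ v ∈ U, f * v ≠ v * f := by
          by_contra hcon
          push Not at hcon
          exact hfU (mem_centralizer_iff.mpr fun v hv => (hcon v hv).symm)
        have h2 := h.uniq b' hs.hb' U hU hbU f (hBn f hf).1 (hBn f hf).2 e (hBn e he).1 (hBn e he).2
          (hBs f hf) (hBs e he) (ww_comm h hs.hb f (hBE hf).1 e (hBE he).1) h1 ⟨v, hv, hev⟩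
        exact mem_centralizer_iff.mpr fun v hv => (h2 v hv).symm
    · change 4 * (centralizer ((B ⊓ centralizer (U : Set G) : Subgroup G) : Set G)).relIndex (ww BB b') ≤
        (centralizer (B : Set G)).relIndex (ww BB b')
      rw [← inf_relIndex_right (centralizer (B : Set G)), ← inf_relIndex_right
        (centralizer ((B ⊓ centralizer (U : Set G) : Subgroup G) : Set G)),
        ← relIndex_mul_relIndex (centralizer (B : Set G) ⊓ ww BB b')
          (centralizer ((B ⊓ centralizer (U : Set G) : Subgroup G) : Set G) ⊓ ww BB b') (ww BB b')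
          (inf_le_inf_right _ (centralizer_le inf_le_left)) inf_le_right]
      refine Nat.mul_le_mul_right _ (four_le (h.cardP b' hs.hb') (h.cardB U hU) (U := U) ?_ ?_)
      · rintro u ⟨⟨huB, -⟩, huU⟩
        rcases h.act b' hs.hb' U hU hbU e (hBn e he).1 (hBn e he).2 (hBs e he) with h1 | ⟨-, h1⟩
        · exact absurd (h1 v hv) hev
        · exact h1 u huU (mem_centralizer_iff.mp huB e he)
      · refine le_inf ?_ (le_ww hU hbU)
        rw [Subgroup.le_centralizer_iff]
        exact inf_le_right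
  · exact le_inf inf_le_left (inf_le_right.trans (centralizer_le_kk hs.hV hs.le))

/-- the odd partner in the normalizer of a point -/
theorem partner [Finite G] (h : WPts PP BB) {b' : Subgroup G} (hb' : b' ∈ PP) {B : Subgroup G}
    (hBn : B ≤ normalizer (b' : Set G)) (hB : ∀ a ∈ B, a * a = 1) (hBK : ¬ B ≤ kk BB b') :
    ∃ B1 ≤ B, B ⊓ kk BB b' ≤ B1 ∧ B1.relIndex B = 2 ∧ ∃ a ∈ B, ∃ x ∈ normalizer (b' : Set G),
      Odd (orderOf x) ∧ a * x * a⁻¹ = x⁻¹ ∧ x ∉ kk BB b' ∧ ∀ c ∈ B1, c * x * c⁻¹ * x⁻¹ ∈ kk BB b' := by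
  set N : Subgroup G := normalizer (b' : Set G) with hN
  have hkN : kk BB b' ≤ N := inf_le_left
  have hKn : ((kk BB b').subgroupOf N).Normal := by
    rw [normal_subgroupOf_iff_le_normalizer hkN]
    intro g hg
    have hg' : cj g b' = b' := cj_eq_of_mem_normalizer hg
    have hg'' : cj g⁻¹ b' = b' := cj_eq_of_mem_normalizer (inv_mem hg)
    have key : ∀ g : G, g ∈ N → cj g b' = b' → ∀ x ∈ kk BB b', g * x * g⁻¹ ∈ kk BB b' := by
      intro g hg hgb x hx
      rw [mem_kk] at hx ⊢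
      refine ⟨mul_mem (mul_mem hg hx.1) (inv_mem hg), fun U hU hbU => ?_⟩
      have h1 : b' ≤ cj g⁻¹ U := by
        rw [← cj_le_iff, hgb]; exact hbU
      have h2 := hx.2 _ (h.cjB g⁻¹ U hU) h1
      rw [mem_normalizer_iff_cj] at h2 ⊢
      have h3 := congrArg (cj g) h2
      rw [cj_cj, cj_cj, cj_cj_inv] at h3
      exact h3
    rw [mem_normalizer_iff]
    intro x
    refine ⟨fun hx => key g hg hg' x hx, fun hx => ?_⟩
    have := key g⁻¹ (inv_mem hg) hg'' _ hx
    have h4 : g⁻¹ * (g * x * g⁻¹) * g⁻¹⁻¹ = x := by group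
    rwa [h4] at this
  obtain ⟨B1, hB1, hKB1, hind, a, ha, x, hx, hax, hxK, hcx⟩ :=
    CountPartner.exists_partner (M := N) ((kk BB b').subgroupOf N) (h.solv b' hb')
      (by
        intro X hXn hKX hk
        have h1 : kk BB b' ≤ X.map N.subtype := by
          rw [← map_subgroupOf_eq_of_le hkN]; exact map_mono hKX
        have h2 : (kk BB b').relIndex (X.map N.subtype) = ((kk BB b').subgroupOf N).relIndex X := by
          rw [subgroupOf, relIndex_comap]
        have h3 := h.o2 b' hb' (X.map N.subtype) h1 (map_subtype_le X)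
          (OddOrderLocal.FitAux.le_normalizer_map_subtype hXn) (by rw [h2]; exact hk)
        intro y hy
        exact mem_subgroupOf.mpr (h3 ⟨y, hy, rfl⟩))
      (B.subgroupOf N) (by
        intro y hy
        exact Subtype.ext (hB y hy))
      (by
        intro hle
        apply hBK
        intro y hy
        exact hle (show (⟨y, hBn hy⟩ : N) ∈ B.subgroupOf N from hy))
  refine ⟨B1.map N.subtype, ?_, ?_, ?_, a, ha, x, x.2, ?_, ?_, hxK, ?_⟩
  · rw [← map_subgroupOf_eq_of_le hBn]; exact map_mono hB1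
  · rintro y ⟨hy, hyK⟩
    exact ⟨⟨y, hBn hy⟩, hKB1 ⟨hy, hyK⟩, rfl⟩
  · have h1 : (B.subgroupOf N).map N.subtype = B := map_subgroupOf_eq_of_le hBn
    rw [← hind, ← relIndex_map_map_of_injective B1 (B.subgroupOf N) N.subtype_injective, h1]
  · rwa [Subgroup.orderOf_coe]
  · exact congrArg Subtype.val hax
  · rintro _ ⟨c, hc, rfl⟩
    exact hcx c hc

/-- (7.4) -/
theorem step4 [Finite G] (h : WPts PP BB) {b b' V : Subgroup G} (hs : Side PP BB b b' V) :
    ((ww BB b ⊓ kk BB b').relIndex (ww BB b)) ^ 2 ≤ (pp b' (ww BB b') (ww BB b)).relIndex (ww BB b') := by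
  refine chain (D := ww BB b ⊓ kk BB b') (E := ww BB b)
    (fun B => (pp b' (ww BB b') B).relIndex (ww BB b')) ?_ ?_ _ inf_le_left le_rfl
  · exact Nat.one_le_iff_ne_zero.mpr (rne _ _)
  · intro B hDB hBE hne
    have hW : ww BB b ≤ normalizer (b' : Set G) := le_norm hs
    have hBK : ¬ B ≤ kk BB b' := fun hle => hne (le_antisymm (le_inf hBE hle) hDB)
    obtain ⟨B1, hB1, hKB1, hind, a, ha, x, hxN, hxo, hax, hxK, hcx⟩ :=
      partner h hs.hb' (hBE.trans hW) (fun a ha => ww_sq h hs.hb a (hBE ha)) hBK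
    refine ⟨B1, ?_, hB1, hind, ?_⟩
    · exact le_trans (le_inf hDB inf_le_right) hKB1
    obtain ⟨T, hT, hWT, hCT⟩ := hs.T
    have haW := hBE ha
    have haa : a * a = 1 := ww_sq h hs.hb a haW
    have haC := le_cent hs haW
    -- `x` is a power of `x * x`
    have hpow : ∀ H : Subgroup G, x * x ∈ H → x ∈ H := by
      intro H hH
      obtain ⟨k, hk⟩ := hxo
      have h1 : (x * x) ^ (k + 1) = x := by
        rw [← pow_two, ← pow_mul]
        have : 2 * (k + 1) = orderOf x + 1 := by omega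
        rw [this, pow_succ, pow_orderOf_eq_one, one_mul]
      rw [← h1]; exact pow_mem hH _
    have hxx : ∀ H : Subgroup G, a ∈ H → x ∈ normalizer (H : Set G) → x ∈ H := by
      intro H haH hxH
      apply hpow
      have h1 : x * a⁻¹ * x⁻¹ ∈ H := (mem_normalizer_iff.mp hxH _).mp (inv_mem haH)
      have h2 : a * (x * a⁻¹ * x⁻¹) ∈ H := mul_mem haH h1
      have h3 : a * (x * a⁻¹ * x⁻¹) = (x * x)⁻¹ := by
        calc a * (x * a⁻¹ * x⁻¹) = (a * x * a⁻¹) * x⁻¹ := by group
          _ = (x * x)⁻¹ := by rw [hax]; group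
      rw [h3] at h2
      exact (inv_mem_iff).mp h2
    have hxV : x ∉ normalizer (V : Set G) := by
      intro hxV
      have h1 : x ∈ centralizer (V : Set G) := by
        apply hxx _ haC
        rw [mem_normalizer_iff_cj]
        have h2 : cj x (centralizer (V : Set G)) = centralizer ((cj x V : Subgroup G) : Set G) := by
          ext y
          rw [mem_cj, mem_centralizer_iff, mem_centralizer_iff]
          constructor
          · intro hy v hv
            have := hy _ (mem_cj.mp hv)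
            have h5 := congrArg (fun t => x * t * x⁻¹) this
            calc v * y = x * (x⁻¹ * v * x * (x⁻¹ * y * x)) * x⁻¹ := by group
              _ = x * (x⁻¹ * y * x * (x⁻¹ * v * x)) * x⁻¹ := h5
              _ = y * v := by group
          · intro hy v hv
            have := hy _ (conj_mem_cj (g := x) hv)
            have h5 := congrArg (fun t => x⁻¹ * t * x) this
            calc v * (x⁻¹ * y * x) = x⁻¹ * (x * v * x⁻¹ * y) * x := by group
              _ = x⁻¹ * (y * (x * v * x⁻¹)) * x := h5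
              _ = x⁻¹ * y * x * v := by group
        rw [h2, cj_eq_of_mem_normalizer hxV]
      have h2 : x ∈ T := hxx _ (hWT haW) (hCT h1)
      obtain ⟨k, hk⟩ := hT ⟨x, h2⟩
      have h3 : x ^ 2 ^ k = 1 := congrArg Subtype.val hk
      have h4 : orderOf x ∣ 2 ^ k := orderOf_dvd_of_pow_eq_one h3
      have h5 : (orderOf x).Coprime (2 ^ k) :=
        Nat.Coprime.pow_right _ (Nat.Coprime.symm (Nat.coprime_two_left.mpr hxo))
      have h6 := Nat.Coprime.eq_one_of_dvd h5 h4
      rw [orderOf_eq_one_iff] at h6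
      exact hxK (h6 ▸ one_mem _)
    -- the block `V ^ x`
    have hUB : cj x V ∈ BB := h.cjB x V hs.hV
    have hbU : b' ≤ cj x V := by
      have := cj_mono (g := x) hs.le
      rwa [cj_eq_of_mem_normalizer hxN] at this
    have hbU' : b' ≤ cj x⁻¹ V := by
      have := cj_mono (g := x⁻¹) hs.le
      rwa [cj_eq_of_mem_normalizer (inv_mem hxN)] at this
    have hne' : cj x V ≠ cj x⁻¹ V := by
      intro he
      apply hxV
      apply hpow
      rw [mem_normalizer_iff_cj, ← cj_cj, he, cj_cj_inv]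
    have hB1n : ∀ c ∈ B1, c ∈ normalizer ((cj x V : Subgroup G) : Set G) := by
      intro c hc
      have hcV : cj c V = V := cj_eq_of_mem_normalizer
        (centralizer_le_normalizer' V (le_cent hs (hBE (hB1 hc))))
      have h1 := (mem_kk.mp (hcx c hc)).2 _ hUB hbU
      have h2 : c * x = (c * x * c⁻¹ * x⁻¹) * x * c := by group
      rw [mem_normalizer_iff_cj, cj_cj, h2, ← cj_cj, ← cj_cj, hcV]
      exact cj_eq_of_mem_normalizer h1
    change 4 * (pp b' (ww BB b') B1).relIndex (ww BB b') ≤ (pp b' (ww BB b') B).relIndex (ww BB b')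
    rw [← relIndex_mul_relIndex (pp b' (ww BB b') B) (pp b' (ww BB b') B1) (ww BB b') (pp_anti hB1)
      (pp_le _ _ _)]
    refine Nat.mul_le_mul_right _ (four_le (h.cardP b' hs.hb') (h.cardB _ hUB) (U := cj x V) ?_ ?_)
    · rintro u ⟨huB, huU⟩
      have h1 := (mem_pp.mp huB).2.2 a ha
      have h2 : a * u * a⁻¹ ∈ cj x V := by
        have := mul_mem (hbU h1) huU
        rwa [inv_mul_cancel_right] at this
      have h3 : a * u * a⁻¹ ∈ cj x⁻¹ V := by
        have h4 := conj_mem_cj (g := a) huU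
        have h5 : cj a V = V := cj_eq_of_mem_normalizer (centralizer_le_normalizer' V haC)
        have h6 : a * x = x⁻¹ * a := by rw [← hax]; group
        rwa [cj_cj, h6, ← cj_cj, h5] at h4
      have h4 := h.interB b' hs.hb' _ hUB _ (h.cjB x⁻¹ V hs.hV) hbU hbU' hne' ⟨h2, h3⟩
      have h5 := mul_mem (inv_mem h1) h4
      have h6 : (a * u * a⁻¹ * u⁻¹)⁻¹ * (a * u * a⁻¹) = u := by group
      rwa [h6] at h5
    · intro v hv
      have hvW : v ∈ ww BB b' := le_ww hUB hbU hv
      refine mem_pp.mpr ⟨hvW, ?_, fun c hc => ?_⟩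
      · refine centralizer_le_normalizer' b' (mem_centralizer_iff.mpr fun y hy => ?_)
        exact ww_comm h hs.hb' y (le_ww hUB hbU (hbU hy)) v hvW
      · rcases h.act b' hs.hb' _ hUB hbU c (le_cent' hs (hBE (hB1 hc))) (hB1n c hc)
          (ww_sq h hs.hb c (hBE (hB1 hc))) with h1 | ⟨h1, -⟩
        · rw [h1 v hv]
          have : v * c * c⁻¹ * v⁻¹ = 1 := by group
          rw [this]; exact one_mem _
        · exact h1 v hv

/-- (7.2) -/
theorem step2 (h : WPts PP BB) {b b' V V' : Subgroup G} (hs : Side PP BB b b' V)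
    (hs' : Side PP BB b' b V') (hne : b ⊓ b' = ⊥) :
    ww BB b' ⊓ kk BB b ≤ centralizer ((ww BB b ⊓ kk BB b' : Subgroup G) : Set G) := by
  have key : ∀ {b b' V : Subgroup G}, Side PP BB b b' V → ∀ w ∈ ww BB b ⊓ kk BB b', ∀ v ∈ ww BB b',
      w * v * w⁻¹ * v⁻¹ ∈ b' := by
    intro b b' V hs w hw
    have hww := ww_sq h hs.hb w hw.1
    have hwk := mem_kk.mp hw.2
    have hle : ww BB b' ≤ pp b' (ww BB b') (zpowers w) := by
      refine sSup_le ?_
      rintro U ⟨hU, hbU⟩ v hv
      have hvW : v ∈ ww BB b' := le_ww hU hbU hv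
      refine mem_pp.mpr ⟨hvW, ?_, ?_⟩
      · refine centralizer_le_normalizer' b' (mem_centralizer_iff.mpr fun y hy => ?_)
        exact ww_comm h hs.hb' y (le_ww hU hbU (hbU hy)) v hvW
      · intro c hc
        have hcs : c * c = 1 := ww_sq h hs.hb c ((zpowers_le (H := ww BB b)).mpr hw.1 hc)
        have hck := mem_kk.mp ((zpowers_le (H := kk BB b')).mpr hw.2 hc)
        have hcc : c ∈ centralizer (b' : Set G) :=
          le_cent' hs ((zpowers_le (H := ww BB b)).mpr hw.1 hc)
        rcases h.act b' hs.hb' U hU hbU c hcc (hck.2 U hU hbU) hcs with h1 | ⟨h1, -⟩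
        · rw [h1 v hv]
          have : v * c * c⁻¹ * v⁻¹ = 1 := by group
          rw [this]; exact one_mem _
        · exact h1 v hv
    intro v hv
    exact (mem_pp.mp (hle hv)).2.2 w (mem_zpowers w)
  intro v hv
  rw [mem_centralizer_iff]
  intro w hw
  have h1 := key hs w hw v hv.1
  have h2 := key hs' v hv w hw.1
  have h3 : w * v * w⁻¹ * v⁻¹ ∈ b := by
    have := inv_mem h2
    have h4 : (v * w * v⁻¹ * w⁻¹)⁻¹ = w * v * w⁻¹ * v⁻¹ := by group
    rwa [h4] at this
  have h4 : w * v * w⁻¹ * v⁻¹ ∈ b ⊓ b' := ⟨h3, h1⟩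
  rw [hne, mem_bot] at h4
  calc w * v = (w * v * w⁻¹ * v⁻¹) * (v * w) := by group
    _ = v * w := by rw [h4, one_mul]

theorem false_of_wpts [Finite G] (h : WPts PP BB) : False := by
  obtain ⟨b, b', V, V', hs, hs', w, hw, w', hw', hww⟩ := exists_pair h
  have hne : b ⊓ b' = ⊥ := by
    have hne : b ≠ b' := by
      rintro rfl
      exact hww (ww_comm h hs.hb w hw w' hw')
    rcases h.inter b hs.hb b' hs.hb' hne with h1 | h1
    · exact h1
    · exfalso
      apply hww
      have h2 : ww BB b ≤ centralizer (ww BB b' : Set G) := by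
        refine sSup_le ?_
        rintro U ⟨hU, hbU⟩
        rw [Subgroup.le_centralizer_iff]
        refine sSup_le ?_
        rintro U' ⟨hU', hbU'⟩
        rw [CountPair.le_centralizer_iff]
        exact fun a ha c hc => (h1 U hU hbU U' hU' hbU' c hc a ha).symm
      exact (mem_centralizer_iff.mp (h2 hw) w' hw').symm
  have hne' : b' ⊓ b = ⊥ := by rw [inf_comm]; exact hne
  set W := ww BB b with hWdef
  set W' := ww BB b' with hWdef'
  have e3 := step3 h hs
  have e3' := step3 h hs'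
  have e4 := step4 h hs
  have e4' := step4 h hs'
  rw [← hWdef, ← hWdef'] at e3 e3' e4 e4'
  -- (7.2)
  have f3 : (centralizer ((W ⊓ kk BB b' : Subgroup G) : Set G)).relIndex W' ≤ (W' ⊓ kk BB b).relIndex W' :=
    relIndex_le_of_le_left (step2 h hs hs' hne) (rne _ _)
  have f3' : (centralizer ((W' ⊓ kk BB b : Subgroup G) : Set G)).relIndex W ≤ (W ⊓ kk BB b').relIndex W :=
    relIndex_le_of_le_left (step2 h hs' hs hne') (rne _ _)
  have hpp : ∀ {b b' V : Subgroup G}, Side PP BB b b' V →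
      (pp b' (ww BB b') (ww BB b)).relIndex (ww BB b') ≤
        (ww BB b' ⊓ centralizer (ww BB b : Set G)).relIndex (ww BB b') := by
    intro b b' V hs
    refine relIndex_le_of_le_left ?_ (rne _ _)
    rintro v ⟨hv, hvC⟩
    refine mem_pp.mpr ⟨hv, ?_, fun a ha => ?_⟩
    · refine centralizer_le_normalizer' b' (mem_centralizer_iff.mpr fun y hy => ?_)
      exact ww_comm h hs.hb' y (le_ww hs.hV hs.le (hs.le hy)) v hv
    · rw [mem_centralizer_iff.mp hvC a ha]
      have : v * a * a⁻¹ * v⁻¹ = 1 := by group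
      rw [this]; exact one_mem _
  have f4 := hpp hs
  have f4' := hpp hs'
  have hprod : (W' ⊓ centralizer (W : Set G)).relIndex (W' ⊓ kk BB b) * (W' ⊓ kk BB b).relIndex W' =
      (W' ⊓ centralizer (W : Set G)).relIndex W' :=
    relIndex_mul_relIndex _ _ _ (inf_le_inf_left _ (centralizer_le_kk hs'.hV hs'.le)) inf_le_left
  have hprod' : (W ⊓ centralizer (W' : Set G)).relIndex (W ⊓ kk BB b') * (W ⊓ kk BB b').relIndex W =
      (W ⊓ centralizer (W' : Set G)).relIndex W :=
    relIndex_mul_relIndex _ _ _ (inf_le_inf_left _ (centralizer_le_kk hs.hV hs.le)) inf_le_left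
  rw [← hWdef, ← hWdef'] at f4 f4'
  rw [← hprod] at f4
  rw [← hprod'] at f4'
  have posA : 0 < (W ⊓ kk BB b').relIndex W := Nat.pos_of_ne_zero (rne _ _)
  have posB : 0 < (W' ⊓ kk BB b).relIndex W' := Nat.pos_of_ne_zero (rne _ _)
  have posA0 : 0 < (W ⊓ centralizer (W' : Set G)).relIndex (W ⊓ kk BB b') :=
    Nat.pos_of_ne_zero (rne _ _)
  have posB0 : 0 < (W' ⊓ centralizer (W : Set G)).relIndex (W' ⊓ kk BB b) :=
    Nat.pos_of_ne_zero (rne _ _)
  have g1 := e3.trans f3
  have g1' := e3'.trans f3'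
  have g2 := e4.trans f4
  have g2' := e4'.trans f4'
  generalize (W ⊓ kk BB b').relIndex W = A at *
  generalize (W' ⊓ kk BB b).relIndex W' = B at *
  generalize (W ⊓ centralizer (W' : Set G)).relIndex (W ⊓ kk BB b') = A0 at *
  generalize (W' ⊓ centralizer (W : Set G)).relIndex (W' ⊓ kk BB b) = B0 at *
  -- `A0² ≤ B`, `B0² ≤ A`, `A² ≤ B0 B`, `B² ≤ A0 A`
  have k1 : A ^ 3 ≤ B ^ 2 := by
    have : A * A ^ 3 ≤ A * B ^ 2 := by
      calc A * A ^ 3 = (A ^ 2) ^ 2 := by ring
        _ ≤ (B0 * B) ^ 2 := Nat.pow_le_pow_left g2 2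
        _ = B0 ^ 2 * B ^ 2 := by ring
        _ ≤ A * B ^ 2 := Nat.mul_le_mul_right _ g1'
    exact Nat.le_of_mul_le_mul_left this posA
  have k2 : B ^ 3 ≤ A ^ 2 := by
    have : B * B ^ 3 ≤ B * A ^ 2 := by
      calc B * B ^ 3 = (B ^ 2) ^ 2 := by ring
        _ ≤ (A0 * A) ^ 2 := Nat.pow_le_pow_left g2' 2
        _ = A0 ^ 2 * A ^ 2 := by ring
        _ ≤ B * A ^ 2 := Nat.mul_le_mul_right _ g1
    exact Nat.le_of_mul_le_mul_left this posB
  have kA : A = 1 := by
    by_contra hA
    have h2 : 2 ≤ A := by omega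
    have h3 : A ^ 9 ≤ A ^ 4 := by
      calc A ^ 9 = (A ^ 3) ^ 3 := by ring
        _ ≤ (B ^ 2) ^ 3 := Nat.pow_le_pow_left k1 3
        _ = (B ^ 3) ^ 2 := by ring
        _ ≤ (A ^ 2) ^ 2 := Nat.pow_le_pow_left k2 2
        _ = A ^ 4 := by ring
    have h4 : A ^ 4 < A ^ 9 := Nat.pow_lt_pow_right h2 (by norm_num)
    omega
  subst kA
  have kB : B = 1 := by
    by_contra hB
    have h2 : 2 ≤ B := by omega
    have : 2 ^ 3 ≤ B ^ 3 := Nat.pow_le_pow_left h2 3
    omega
  subst kB
  have kB0 : B0 = 1 := by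
    by_contra hB
    have h2 : 2 ≤ B0 := by omega
    have : 2 ^ 2 ≤ B0 ^ 2 := Nat.pow_le_pow_left h2 2
    omega
  subst kB0
  have hfin : W' ≤ W' ⊓ centralizer (W : Set G) := by
    rw [← relIndex_eq_one, ← hprod]
  exact hww (mem_centralizer_iff.mp (hfin hw').2 w hw)

theorem false_of_pts [Finite G] (h : Pts PP BB) : False := false_of_wpts h.weak

end Cfsg.Agent.MinSimple.EmptyE.Count
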