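import Cfsg.Agent.MinSimple.EmptyE.Hyper

/-!
# The case (Empty): a count for step 2 (Lemma Q of `blueprints/P21-Empty-X-helper420.md`)

`quad` : in step 2 of Theorem E, if all conjugates of `V` under `P` commute with `V`, then
`|V|² ≤ 2 |E : C_E(V)| |H| |D|`, `H = C_V(x)`, `D = {v ∈ V : [v, E] ≤ H}`.
-/

set_option autoImplicit false

namespace Cfsg.Agent.MinSimple.EmptyE.Quad

open Subgroup Cfsg Cfsg.Agent.ZN Cfsg.Agent.ZN.ChoiceSit
open Cfsg.Agent.ZN.ChoiceBase (cj mem_cj cj_cj cj_one cj_inv_cj cj_cj_inv cj_mono cj_le_iff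
  mem_normalizer_iff_cj cj_inf cj_normalizer card_cj cj_eq_of_mem_normalizer AA mm_eq
  isElementaryAbelian_cj)
open Cfsg.Agent.MinSimple.EmptyTI Cfsg.Agent.MinSimple.EmptySix
open Cfsg.Agent.MinSimple.MinParabolic (IsMinPar)
open Cfsg.Agent.MinSimple.EmptyE.Closed
open Cfsg.Agent.PLocal.ThompsonJ
open Cfsg.Agent.PLocal.ElemAbSup
open Cfsg.Agent.MinSimple.EmptyE.Hyper (card_mul_relIndex')

universe u

variable {G : Type u} [Group G]

/-- The abstract situation. -/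
structure QD (V A B Q : Subgroup G) (x a : G) : Prop where
  Vel : IsElementaryAbelian 2 V
  Ael : IsElementaryAbelian 2 A
  max : ∀ X : Subgroup G, IsElementaryAbelian 2 X → Nat.card X ≤ Nat.card A
  BA : B ≤ A
  idx : B.relIndex A = 2
  aA : a ∈ A
  AV : A ≤ centralizer (V : Set G)
  VQ : ∀ j : ℤ, Q ≤ normalizer ((cj (x ^ j) V : Subgroup G) : Set G)
  xQ : x ∈ normalizer (Q : Set G)
  xB : ∀ b ∈ B, x * b * x⁻¹ * b⁻¹ ∈ Q
  xa : a * x * a⁻¹ * x ∈ Q
  gen : x ∈ A ⊔ cj x A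
  odd : Odd (orderOf x)
  comm : ∀ j : ℤ, ∀ v ∈ V, ∀ w ∈ cj (x ^ j) V, v * w = w * v

/-- `{v ∈ V : [v, E] ≤ H}` -/
def dset (V E H : Subgroup G) : Set G := {v | v ∈ V ∧ ∀ e ∈ E, e * v * e⁻¹ * v⁻¹ ∈ H}

/-- `{v ∈ V : [v, E] ≤ H}`, as a subgroup. -/
def dd (V E H : Subgroup G) : Subgroup G := closure (dset V E H)

theorem mem_dd {V E H : Subgroup G} (hV : ∀ v ∈ V, ∀ w ∈ V, v * w = w * v) (hHV : H ≤ V)
    {v : G} : v ∈ dd V E H ↔ v ∈ V ∧ ∀ e ∈ E, e * v * e⁻¹ * v⁻¹ ∈ H := by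
  constructor
  · intro hv
    induction hv using closure_induction with
    | mem x hx => exact hx
    | one => exact ⟨one_mem _, fun e _ => by simp⟩
    | mul x y _ _ hx hy =>
      refine ⟨mul_mem hx.1 hy.1, fun e he => ?_⟩
      have h1 := hy.2 e he
      have h2 : x * (e * y * e⁻¹ * y⁻¹) * x⁻¹ = e * y * e⁻¹ * y⁻¹ := by
        rw [hV x hx.1 _ (hHV h1)]; group
      have e1 : e * (x * y) * e⁻¹ * (x * y)⁻¹ =
          (e * x * e⁻¹ * x⁻¹) * (x * (e * y * e⁻¹ * y⁻¹) * x⁻¹) := by group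
      rw [e1, h2]
      exact mul_mem (hx.2 e he) h1
    | inv x _ hx =>
      refine ⟨inv_mem hx.1, fun e he => ?_⟩
      have h1 := inv_mem (hx.2 e he)
      have h2 : x⁻¹ * (e * x * e⁻¹ * x⁻¹)⁻¹ * x = (e * x * e⁻¹ * x⁻¹)⁻¹ := by
        rw [hV x⁻¹ (inv_mem hx.1) _ (hHV h1)]; group
      have e1 : e * x⁻¹ * e⁻¹ * x⁻¹⁻¹ = x⁻¹ * (e * x * e⁻¹ * x⁻¹)⁻¹ * x := by group
      rw [e1, h2]
      exact h1
  · intro hv
    exact subset_closure hv

namespace QD

variable {V A B Q : Subgroup G} {x a : G}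

theorem zero (h : QD V A B Q x a) : Q ≤ normalizer (V : Set G) := by
  have := h.VQ 0
  rwa [zpow_zero, cj_one] at this

theorem one (h : QD V A B Q x a) : Q ≤ normalizer ((cj x V : Subgroup G) : Set G) := by
  have := h.VQ 1
  rwa [zpow_one] at this

theorem cj_A (h : QD V A B Q x a) {b : G} (hb : b ∈ A) : cj b V = V :=
  cj_eq_of_mem_normalizer (centralizer_le_normalizer _ (h.AV hb))

theorem b_neg (h : QD V A B Q x a) {b : G} (hb : b ∈ B) : cj b (cj x⁻¹ V) = cj x⁻¹ V := by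
  have h1 := h.xB b hb
  have e : b * x⁻¹ = x⁻¹ * (x * b * x⁻¹ * b⁻¹) * b := by group
  rw [cj_cj, e, ← cj_cj, h.cj_A (h.BA hb), ← cj_cj, cj_eq_of_mem_normalizer (h.zero h1)]

theorem b_pos (h : QD V A B Q x a) {b : G} (hb : b ∈ B) : cj b (cj x V) = cj x V := by
  have h1 := h.xB b hb
  have e : b * x = (x * b * x⁻¹ * b⁻¹)⁻¹ * x * b := by group
  rw [cj_cj, e, ← cj_cj, h.cj_A (h.BA hb), ← cj_cj, cj_eq_of_mem_normalizer (h.one (inv_mem h1))]

theorem a_neg (h : QD V A B Q x a) : cj a (cj x⁻¹ V) = cj x V := by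
  have e : a * x⁻¹ = (x * (a * x * a⁻¹ * x)⁻¹ * x⁻¹) * x * a := by group
  have h1 : x * (a * x * a⁻¹ * x)⁻¹ * x⁻¹ ∈ Q := (mem_normalizer_iff.1 h.xQ _).1 (inv_mem h.xa)
  rw [cj_cj, e, ← cj_cj, h.cj_A h.aA, ← cj_cj, cj_eq_of_mem_normalizer (h.one h1)]

theorem a_two (h : QD V A B Q x a) :
    cj a (cj (x ^ (2 : ℤ)) V) = cj (x ^ (-2 : ℤ)) V := by
  have h1 : x⁻¹ * (a * x * a⁻¹ * x) * x ∈ Q := (mem_normalizer_iff''.1 h.xQ _).1 h.xa
  have h2 := mul_mem h.xa h1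
  have e : a * x ^ (2 : ℤ) =
      ((a * x * a⁻¹ * x) * (x⁻¹ * (a * x * a⁻¹ * x) * x)) * x ^ (-2 : ℤ) * a := by
    have e1 : x ^ (2 : ℤ) = x * x := zpow_two x
    rw [zpow_neg, e1]
    group
  have h3 := h.VQ (-2)
  rw [cj_cj, e, ← cj_cj, h.cj_A h.aA, ← cj_cj, cj_eq_of_mem_normalizer (h3 h2)]

/-- `V ∩ V^(x²)` is centralised by `x`. -/
theorem inf_two (h : QD V A B Q x a) :
    V ⊓ cj (x ^ (2 : ℤ)) V ≤ centralizer ({x} : Set G) := by
  obtain ⟨D, hD⟩ : ∃ D, D = V ⊓ cj (x ^ (2 : ℤ)) V := ⟨_, rfl⟩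
  rw [← hD]
  have hDV : D ≤ V := hD ▸ inf_le_left
  have h1 : D = V ⊓ cj (x ^ (-2 : ℤ)) V := by
    have h2 : cj a D = D := by
      refine cj_eq_of_mem_normalizer (centralizer_le_normalizer _ ?_)
      exact (h.AV.trans (centralizer_le hDV)) h.aA
    rw [← h2, hD, cj_inf, h.a_two, h.cj_A h.aA]
  have h2 : cj (x ^ (2 : ℤ)) D = D := by
    conv_lhs => rw [h1, cj_inf, cj_cj]
    rw [← zpow_add, show (2 : ℤ) + -2 = 0 by norm_num, zpow_zero, cj_one, inf_comm, ← hD]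
  have h3 : x ^ (2 : ℤ) ∈ normalizer (D : Set G) := mem_normalizer_iff_cj.2 h2
  have h4 : x ∈ normalizer (D : Set G) := by
    obtain ⟨k, hk⟩ := h.odd
    have h5 : x = (x ^ (2 : ℤ)) ^ (k + 1) := by
      have e1 : (x ^ (2 : ℤ)) ^ (k + 1) = x ^ (2 * k + 1) * x := by
        rw [zpow_ofNat, ← pow_mul, ← pow_succ]
        congr 1
      rw [e1, ← hk, pow_orderOf_eq_one, one_mul]
    rw [h5]
    exact pow_mem h3 _
  have h6 : A ⊔ cj x A ≤ centralizer (D : Set G) := by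
    refine sup_le (h.AV.trans (centralizer_le hDV)) ?_
    have h7 := cj_mono x (h.AV.trans (centralizer_le hDV))
    rwa [ChoiceBase.cj_centralizer, cj_eq_of_mem_normalizer h4] at h7
  intro d hd
  rw [mem_centralizer_singleton_iff]
  exact mem_centralizer_iff.1 (h6 h.gen) d hd

/-- `V^(x⁻¹) ∩ V^x ≤ C_V(x)` -/
theorem inf_le (h : QD V A B Q x a) : cj x⁻¹ V ⊓ cj x V ≤ V ⊓ centralizer ({x} : Set G) := by
  intro y hy
  have h0 : x * y * x⁻¹ ∈ V := by
    have := mem_cj.1 (mem_inf.1 hy).1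
    rwa [inv_inv] at this
  have h1 : x * y * x⁻¹ ∈ V ⊓ cj (x ^ (2 : ℤ)) V := by
    refine mem_inf.2 ⟨h0, ?_⟩
    rw [mem_cj]
    have h2 := mem_cj.1 (mem_inf.1 hy).2
    have e : (x ^ (2 : ℤ))⁻¹ * (x * y * x⁻¹) * x ^ (2 : ℤ) = x⁻¹ * y * x := by
      rw [zpow_two]; group
    rwa [e]
  have h2 := h.inf_two h1
  rw [mem_centralizer_singleton_iff] at h2
  have e : x * y * x⁻¹ = y := by
    calc x * y * x⁻¹ = x⁻¹ * (x * (x * y * x⁻¹)) := by group
      _ = x⁻¹ * (x * y * x⁻¹ * x) := by rw [h2]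
      _ = y := by group
  rw [e] at h2 h0
  exact mem_inf.2 ⟨h0, by rw [mem_centralizer_singleton_iff]; exact h2⟩

/-- `V^(x⁻¹)` and `V^x` commute. -/
theorem cc (h : QD V A B Q x a) : cj x V ≤ centralizer ((cj x⁻¹ V : Subgroup G) : Set G) := by
  intro w hw
  rw [mem_centralizer_iff]
  intro v hv
  have hv1 : x * v * x⁻¹ ∈ V := by
    have := mem_cj.1 hv
    rwa [inv_inv] at this
  have hw1 : x * w * x⁻¹ ∈ cj (x ^ (2 : ℤ)) V := by
    rw [mem_cj]
    have e : (x ^ (2 : ℤ))⁻¹ * (x * w * x⁻¹) * x ^ (2 : ℤ) = x⁻¹ * w * x := by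
      rw [zpow_two]; group
    rw [e]
    exact mem_cj.1 hw
  have h1 := h.comm 2 _ hv1 _ hw1
  calc v * w = x⁻¹ * (x * v * x⁻¹ * (x * w * x⁻¹)) * x := by group
    _ = x⁻¹ * (x * w * x⁻¹ * (x * v * x⁻¹)) * x := by rw [h1]
    _ = w * v := by group

/-- `H ≤ V^x` for `H = C_V(x)` -/
theorem H_le (V : Subgroup G) {x g : G} (hg : g ∈ zpowers x) :
    V ⊓ centralizer ({x} : Set G) ≤ cj g V := by
  intro y hy
  obtain ⟨hyV, hyx⟩ := mem_inf.1 hy
  rw [mem_centralizer_singleton_iff] at hyx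
  rw [mem_cj]
  have h1 : g * y = y * g := by
    obtain ⟨k, rfl⟩ := mem_zpowers_iff.1 hg
    have h2 : Commute x y := hyx.symm
    exact (h2.zpow_left k).eq
  have e : g⁻¹ * y * g = y := by rw [mul_assoc, ← h1]; group
  rwa [e]

theorem centB_le (h : QD V A B Q x a) :
    B ⊓ centralizer ((cj x⁻¹ V : Subgroup G) : Set G) ≤
      A ⊓ centralizer ((cj x⁻¹ V ⊔ cj x V : Subgroup G) : Set G) := by
  intro b hb
  obtain ⟨hbB, hbc⟩ := mem_inf.1 hb
  refine mem_inf.2 ⟨h.BA hbB, ?_⟩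
  have h1 : cj x⁻¹ V ⊔ cj x V ≤ centralizer ({b} : Set G) := by
    refine sup_le (fun v hv => ?_) (fun w hw => ?_)
    · rw [mem_centralizer_singleton_iff]
      exact mem_centralizer_iff.1 hbc v hv
    · rw [mem_centralizer_singleton_iff]
      rw [← h.a_neg] at hw
      have h2 := mem_centralizer_iff.1 hbc _ (mem_cj.1 hw)
      have h3 := isElementaryAbelian_comm h.Ael h.aA (h.BA hbB)
      calc w * b = a * (a⁻¹ * w * a) * a⁻¹ * b := by group
        _ = a * (a⁻¹ * w * a) * (a⁻¹ * (b * a)) * a⁻¹ := by group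
        _ = a * (a⁻¹ * w * a) * (a⁻¹ * (a * b)) * a⁻¹ := by rw [h3]
        _ = a * (a⁻¹ * w * a * b) * a⁻¹ := by group
        _ = a * (b * (a⁻¹ * w * a)) * a⁻¹ := by rw [h2]
        _ = (a * b) * a⁻¹ * w := by group
        _ = (b * a) * a⁻¹ * w := by rw [h3]
        _ = b * w := by group
  rw [mem_centralizer_iff]
  intro v hv
  exact mem_centralizer_singleton_iff.1 (h1 hv)

/-- `V^x ∩ A ≤ C_V(x)` -/
theorem pos_inf_le (h : QD V A B Q x a) : cj x V ⊓ A ≤ V ⊓ centralizer ({x} : Set G) := by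
  intro w hw
  obtain ⟨hwV, hwA⟩ := mem_inf.1 hw
  apply h.inf_le
  refine mem_inf.2 ⟨?_, hwV⟩
  have h1 := isElementaryAbelian_comm h.Ael h.aA hwA
  have h2 : a * w * a⁻¹ = w := by rw [h1, mul_inv_cancel_right]
  rw [← h.a_neg, mem_cj] at hwV
  have h3 : a⁻¹ * w * a = w := by rw [mul_assoc, ← h1, inv_mul_cancel_left]
  rwa [h3] at hwV

theorem cj_dd_le (x : G) :
    cj x (dd (cj x⁻¹ V) B (V ⊓ centralizer ({x} : Set G))) ≤
      dd V (cj x B) (V ⊓ centralizer ({x} : Set G)) := by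
  rw [dd, cj, MonoidHom.map_closure, closure_le]
  rintro _ ⟨v, ⟨hv, hv'⟩, rfl⟩
  refine subset_closure ⟨?_, ?_⟩
  · have := mem_cj.1 hv
    rwa [inv_inv] at this
  · rintro _ ⟨b, hb, rfl⟩
    have h1 := hv' b hb
    have h2 := mem_centralizer_singleton_iff.1 (mem_inf.1 h1).2
    change x * b * x⁻¹ * (x * v * x⁻¹) * (x * b * x⁻¹)⁻¹ * (x * v * x⁻¹)⁻¹ ∈ _
    have e : x * b * x⁻¹ * (x * v * x⁻¹) * (x * b * x⁻¹)⁻¹ * (x * v * x⁻¹)⁻¹ =
        b * v * b⁻¹ * v⁻¹ := by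
      calc x * b * x⁻¹ * (x * v * x⁻¹) * (x * b * x⁻¹)⁻¹ * (x * v * x⁻¹)⁻¹
          = x * (b * v * b⁻¹ * v⁻¹) * x⁻¹ := by group
        _ = b * v * b⁻¹ * v⁻¹ := by rw [← h2, mul_inv_cancel_right]
    rw [e]
    exact h1

theorem el_cj (h : QD V A B Q x a) (g : G) : IsElementaryAbelian 2 (cj g V) :=
  isElementaryAbelian_cj g h.Vel

/-- `|V^(x⁻¹) V^x ∩ A| ≤ |D|` -/
theorem card_inf_le [Finite G] (h : QD V A B Q x a) :
    Nat.card ((cj x⁻¹ V ⊔ cj x V) ⊓ A : Subgroup G) ≤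
      Nat.card (dd V (cj x B) (V ⊓ centralizer ({x} : Set G))) := by
  obtain ⟨H, hH⟩ : ∃ H, H = V ⊓ centralizer ({x} : Set G) := ⟨_, rfl⟩
  obtain ⟨D, hD⟩ : ∃ D, D = dd (cj x⁻¹ V) B H := ⟨_, rfl⟩
  obtain ⟨R, hR⟩ : ∃ R, R = (cj x⁻¹ V ⊔ cj x V) ⊓ A := ⟨_, rfl⟩
  rw [← hR, ← hH]
  have hHn : H ≤ cj x⁻¹ V := hH ▸ H_le V (inv_mem (mem_zpowers x))
  have hHp : H ≤ cj x V := hH ▸ H_le V (mem_zpowers x)
  have hDV : D ≤ cj x⁻¹ V := by
    rw [hD, dd, closure_le]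
    exact fun v hv => hv.1
  have hHD : H ≤ D := by
    intro v hv
    rw [hD]
    refine subset_closure ⟨hHn hv, fun b hb => ?_⟩
    have h1 : v ∈ V := by rw [hH] at hv; exact hv.1
    have h2 := mem_centralizer_iff.1 (h.AV (h.BA hb)) v h1
    have e : b * v * b⁻¹ * v⁻¹ = 1 := by rw [← h2]; group
    rw [e]
    exact one_mem _
  have hDcard : Nat.card D ≤ Nat.card (dd V (cj x B) H) := by
    rw [← card_cj x D, hD, hH]
    exact Subgroup.card_le_of_le (cj_dd_le x)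
  refine le_trans ?_ hDcard
  have hc := h.cc
  have hYc : ∀ {X : Subgroup G}, X ≤ cj x⁻¹ V ⊔ cj x V →
      cj x V ≤ centralizer (X : Set G) := by
    intro X hX
    have h1 : cj x⁻¹ V ⊔ cj x V ≤ centralizer ((cj x V : Subgroup G) : Set G) := by
      refine sup_le ?_ ?_
      · intro v hv
        rw [mem_centralizer_iff]
        intro w hw
        exact (mem_centralizer_iff.1 (hc hw) v hv).symm
      · intro v hv
        rw [mem_centralizer_iff]
        intro w hw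
        exact isElementaryAbelian_comm (h.el_cj x) hw hv
    intro w hw
    rw [mem_centralizer_iff]
    intro r hr
    exact (mem_centralizer_iff.1 (h1 (hX hr)) w hw).symm
  have hRY : R ≤ cj x⁻¹ V ⊔ cj x V := hR ▸ inf_le_left
  have k1 := PLocal.ElemAbSup.card_sup_mul_card_inf (hYc hRY)
  have k2 := PLocal.ElemAbSup.card_sup_mul_card_inf (hYc (hDV.trans le_sup_left))
  have k3 : R ⊔ cj x V ≤ D ⊔ cj x V := by
    refine sup_le ?_ le_sup_right
    intro r hr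
    have hrY := hRY hr
    have h2 : (r : G) ∈ ((cj x⁻¹ V ⊔ cj x V : Subgroup G) : Set G) := hrY
    rw [coe_sup_of_le_centralizer hc] at h2
    obtain ⟨v, hv, w, hw, rfl⟩ := h2
    refine mul_mem (mem_sup_left ?_) (mem_sup_right hw)
    rw [hD]
    refine subset_closure ⟨hv, fun b hb => ?_⟩
    have hrA : v * w ∈ A := by rw [hR] at hr; exact hr.2
    have h3 := isElementaryAbelian_comm h.Ael (h.BA hb) hrA
    have hbv : b * v * b⁻¹ ∈ cj x⁻¹ V := by
      have : b * v * b⁻¹ ∈ cj b (cj x⁻¹ V) := by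
        rw [mem_cj]
        have e : b⁻¹ * (b * v * b⁻¹) * b = v := by group
        rw [e]
        exact hv
      rwa [h.b_neg hb] at this
    have hbw : b * w * b⁻¹ ∈ cj x V := by
      have : b * w * b⁻¹ ∈ cj b (cj x V) := by
        rw [mem_cj]
        have e : b⁻¹ * (b * w * b⁻¹) * b = w := by group
        rw [e]
        exact hw
      rwa [h.b_pos hb] at this
    have h4 : (b * v * b⁻¹) * v⁻¹ = (b * w * b⁻¹)⁻¹ * w := by
      have h5 : v * w = (b * v * b⁻¹) * (b * w * b⁻¹) := by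
        calc v * w = b * (v * w) * b⁻¹ := by rw [h3, mul_inv_cancel_right]
          _ = _ := by group
      have h6 : (b * v * b⁻¹)⁻¹ * v = (b * w * b⁻¹) * w⁻¹ := by
        calc (b * v * b⁻¹)⁻¹ * v = (b * v * b⁻¹)⁻¹ * (v * w) * w⁻¹ := by group
          _ = (b * v * b⁻¹)⁻¹ * ((b * v * b⁻¹) * (b * w * b⁻¹)) * w⁻¹ := by rw [← h5]
          _ = _ := by group
      have h7 := isElementaryAbelian_comm (h.el_cj x⁻¹) (inv_mem hbv) hv
      have h8 := isElementaryAbelian_comm (h.el_cj x) hbw (inv_mem hw)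
      calc (b * v * b⁻¹) * v⁻¹ = (v * (b * v * b⁻¹)⁻¹)⁻¹ := by group
        _ = ((b * v * b⁻¹)⁻¹ * v)⁻¹ := by rw [h7]
        _ = ((b * w * b⁻¹) * w⁻¹)⁻¹ := by rw [h6]
        _ = (w⁻¹ * (b * w * b⁻¹))⁻¹ := by rw [h8]
        _ = _ := by group
    rw [hH]
    apply h.inf_le
    refine mem_inf.2 ⟨mul_mem hbv (inv_mem hv), ?_⟩
    rw [h4]
    exact mul_mem (inv_mem hbw) hw
  have k4 : R ⊓ cj x V ≤ D ⊓ cj x V := by
    refine le_trans ?_ (le_inf hHD hHp)
    intro w hw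
    rw [hH]
    apply h.pos_inf_le
    have h1 := (mem_inf.1 hw).1
    rw [hR] at h1
    exact mem_inf.2 ⟨(mem_inf.1 hw).2, (mem_inf.1 h1).2⟩
  have k5 : Nat.card R * Nat.card (cj x V) ≤ Nat.card D * Nat.card (cj x V) := by
    rw [← k1, ← k2]
    exact Nat.mul_le_mul (Subgroup.card_le_of_le k3) (Subgroup.card_le_of_le k4)
  exact Nat.le_of_mul_le_mul_right k5 Nat.card_pos

/-- **Lemma Q.** -/
theorem quad [Finite G] (h : QD V A B Q x a) :
    Nat.card V * Nat.card V ≤ 2 * (centralizer (V : Set G)).relIndex (cj x B) *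
      Nat.card (V ⊓ centralizer ({x} : Set G) : Subgroup G) *
        Nat.card (dd V (cj x B) (V ⊓ centralizer ({x} : Set G))) := by
  obtain ⟨Y, hY⟩ : ∃ Y, Y = cj x⁻¹ V ⊔ cj x V := ⟨_, rfl⟩
  obtain ⟨A₀, hA₀⟩ : ∃ A₀, A₀ = A ⊓ centralizer (Y : Set G) := ⟨_, rfl⟩
  obtain ⟨e, he⟩ : ∃ e, e = (centralizer (V : Set G)).relIndex (cj x B) := ⟨_, rfl⟩
  have hY1 : IsElementaryAbelian 2 Y := by
    rw [hY]
    exact isElementaryAbelian_sup (h.el_cj _) (h.el_cj _) h.cc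
  have c1 := PLocal.ElemAbSup.card_sup_mul_card_inf h.cc
  rw [← hY, card_cj, card_cj] at c1
  have c3 : Nat.card A ≤ 2 * e * Nat.card A₀ := by
    have h1 : Nat.card (B ⊓ centralizer ((cj x⁻¹ V : Subgroup G) : Set G) : Subgroup G) ≤
        Nat.card A₀ := by
      rw [hA₀, hY]
      exact Subgroup.card_le_of_le h.centB_le
    have h2 : Nat.card (B ⊓ centralizer ((cj x⁻¹ V : Subgroup G) : Set G) : Subgroup G) * e =
        Nat.card B := by
      have h3 : Nat.card (cj x (B ⊓ centralizer ((cj x⁻¹ V : Subgroup G) : Set G))) * e =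
          Nat.card (cj x B) := by
        rw [cj_inf, ChoiceBase.cj_centralizer, cj_cj_inv, inf_comm, he]
        have h4 := card_mul_relIndex'
          (inf_le_right : centralizer (V : Set G) ⊓ cj x B ≤ cj x B)
        rwa [inf_relIndex_right] at h4
      rwa [card_cj, card_cj] at h3
    have h5 : Nat.card B * B.relIndex A = Nat.card A := card_mul_relIndex' h.BA
    rw [h.idx] at h5
    calc Nat.card A = 2 * (Nat.card (B ⊓ centralizer ((cj x⁻¹ V : Subgroup G) : Set G) :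
          Subgroup G) * e) := by rw [h2, ← h5, mul_comm]
      _ ≤ 2 * (Nat.card A₀ * e) := Nat.mul_le_mul_left _ (Nat.mul_le_mul_right _ h1)
      _ = 2 * e * Nat.card A₀ := by ring
  have hA₀c : A₀ ≤ centralizer (Y : Set G) := hA₀ ▸ inf_le_right
  have hA₀A : A₀ ≤ A := hA₀ ▸ inf_le_left
  have c5 := PLocal.ElemAbSup.card_sup_mul_card_inf hA₀c
  have c6 : Nat.card (Y ⊔ A₀ : Subgroup G) ≤ Nat.card A :=
    h.max _ (isElementaryAbelian_sup hY1 (isElementaryAbelian_mono h.Ael hA₀A) hA₀c)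
  have c7 : Nat.card (Y ⊓ A₀ : Subgroup G) ≤ Nat.card (Y ⊓ A : Subgroup G) :=
    Subgroup.card_le_of_le (inf_le_inf_left _ hA₀A)
  have c8 : Nat.card Y ≤ 2 * e * Nat.card (Y ⊓ A : Subgroup G) := by
    refine Nat.le_of_mul_le_mul_right (c := Nat.card A₀) ?_ Nat.card_pos
    calc Nat.card Y * Nat.card A₀ = Nat.card (Y ⊔ A₀ : Subgroup G) *
          Nat.card (Y ⊓ A₀ : Subgroup G) := c5.symm
      _ ≤ (2 * e * Nat.card A₀) * Nat.card (Y ⊓ A : Subgroup G) :=
          Nat.mul_le_mul (c6.trans c3) c7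
      _ = 2 * e * Nat.card (Y ⊓ A : Subgroup G) * Nat.card A₀ := by ring
  have c9 := h.card_inf_le
  rw [← hY] at c9
  rw [← c1, ← he]
  calc Nat.card Y * Nat.card (cj x⁻¹ V ⊓ cj x V : Subgroup G)
      ≤ (2 * e * Nat.card (dd V (cj x B) (V ⊓ centralizer ({x} : Set G)))) *
        Nat.card (V ⊓ centralizer ({x} : Set G) : Subgroup G) :=
        Nat.mul_le_mul (c8.trans (Nat.mul_le_mul_left _ c9)) (Subgroup.card_le_of_le h.inf_le)
    _ = _ := by ring

end QD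

/-! ### Step 2 with the count -/

section Step

open Cfsg.Agent.MinSimple.EmptyE.Hyper

variable [Finite G] {S : Sylow 2 G} {P : Subgroup G}

/-- **Step 2 of Theorem E**, with the additional count if all conjugates of `V` under `P` commute
with `V`. -/
theorem hyper_quad (h : ESit S) (hP : IsMinPar (S : Subgroup G) P) (hPC : P ≤ CC (S : Subgroup G))
    (hPL : ¬ P ≤ LL (S : Subgroup G))
    (hab : ∀ c ∈ P, ∀ v ∈ vv (S : Subgroup G), ∀ w ∈ cj c (vv (S : Subgroup G)), v * w = w * v) :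
    ∃ x ∈ P, Odd (orderOf x) ∧ x ∉ LL (S : Subgroup G) ∧ (S : Subgroup G) ⊔ zpowers x = P ∧
      zc (S : Subgroup G) ≤ hh (S : Subgroup G) x ∧ hh (S : Subgroup G) x ≠ vv (S : Subgroup G) ∧
      (∀ u ∈ hh (S : Subgroup G) x, u ≠ 1 → cl (S : Subgroup G) u ≤ hh (S : Subgroup G) x) ∧
      ∃ E : Subgroup G, E ≤ (S : Subgroup G) ∧ IsElementaryAbelian 2 E ∧
        E ≤ centralizer (hh (S : Subgroup G) x : Set G) ∧
        Nat.card (vv (S : Subgroup G)) ≤ 2 * Nat.card (hh (S : Subgroup G) x) *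
          (centralizer (vv (S : Subgroup G) : Set G)).relIndex E ∧
        Nat.card (vv (S : Subgroup G)) * Nat.card (vv (S : Subgroup G)) ≤
          2 * (centralizer (vv (S : Subgroup G) : Set G)).relIndex E *
            Nat.card (hh (S : Subgroup G) x) *
            Nat.card (dd (vv (S : Subgroup G)) E (hh (S : Subgroup G) x)) := by
  have hf : Fact (Nat.Prime 2) := ⟨Nat.prime_two⟩
  have hSyl := Basic.not_dvd_relIndex S hP.le
  have hsol := solvable_CC h hPC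
  -- `J ≰ O₂(P)`
  have hJ : ¬ jj (S : Subgroup G) ≤ o2 P := fun h0 =>
    hPL (((Basic.le_normalizer_jj_iff hP.le S.isPGroup' hSyl).2 h0).trans h.normalizer_le_LL)
  obtain ⟨A, hA, hAQ⟩ : ∃ A ∈ AA (S : Subgroup G), ¬ A ≤ o2 P := by
    by_contra hcon
    push Not at hcon
    apply hJ
    rw [ChoiceBase.jj_eq]
    exact sSup_le hcon
  obtain ⟨b, hb, hbQ⟩ := SetLike.not_le_iff_exists.1 hAQ
  obtain ⟨B, hBA, hBidx, hbB, hAQB, x, hxP, hxo, hxgen, hxB, hxb, hxA⟩ :=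
    exists_minPar_lift hP S.isPGroup' hSyl hsol hA.1 hA.2.1 hb hbQ
  have hQS : o2 P ≤ (S : Subgroup G) := VModule.o2_le_of_sylow S.isPGroup' hSyl
  have hxL : x ∉ LL (S : Subgroup G) := fun h0 => hPL (by
    rw [← hxgen]
    exact sup_le h.le_LL (by rw [zpowers_le]; exact h0))
  have hAV : A ≤ centralizer (vv (S : Subgroup G) : Set G) := (ChoiceBase.le_jj hA).trans jj_le_centralizer_vv
  -- `H = C_V(A^x)`
  have hH : hh (S : Subgroup G) x =
      vv (S : Subgroup G) ⊓ centralizer ((cj x A : Subgroup G) : Set G) := by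
    apply le_antisymm
    · intro v hv
      obtain ⟨hvV, hxv⟩ := mem_hh.1 hv
      refine mem_inf.2 ⟨hvV, ?_⟩
      rw [mem_centralizer_iff]
      rintro _ ⟨a, ha, rfl⟩
      have h1 : v * a = a * v := mem_centralizer_iff.1 (hAV ha) v hvV
      change x * a * x⁻¹ * v = v * (x * a * x⁻¹)
      have h2 : x⁻¹ * v = v * x⁻¹ := by
        rw [inv_mul_eq_iff_eq_mul, ← mul_assoc, eq_mul_inv_iff_mul_eq, hxv]
      calc x * a * x⁻¹ * v = x * a * (x⁻¹ * v) := by group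
        _ = x * (a * v) * x⁻¹ := by rw [h2]; group
        _ = x * v * a * x⁻¹ := by rw [← h1]; group
        _ = v * (x * a * x⁻¹) := by rw [hxv]; group
    · rintro v ⟨hvV, hvx⟩
      refine mem_hh.2 ⟨hvV, ?_⟩
      have h1 : A ⊔ cj x A ≤ centralizer ({v} : Set G) := by
        refine sup_le (fun a ha => ?_) (fun a ha => ?_)
        · rw [mem_centralizer_singleton_iff]
          exact (mem_centralizer_iff.1 (hAV ha) v hvV).symm
        · rw [mem_centralizer_singleton_iff]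
          exact mem_centralizer_iff.1 hvx a ha
      exact mem_centralizer_singleton_iff.1 (h1 hxA)
  have hEA : cj x B ≤ cj x A := cj_mono x hBA
  have hE : IsElementaryAbelian 2 (cj x B) := isElementaryAbelian_cj x
    (isElementaryAbelian_mono hA.1 hBA)
  refine ⟨x, hxP, hxo, hxL, hxgen, ?_, ?_, ?_, cj x B, ?_, hE, ?_, ?_, ?_⟩
  · intro z hz
    exact mem_hh.2 ⟨zc_le_vv _ hz, (mem_centralizer_iff.1 (hPC hxP) z hz).symm⟩
  · intro h0
    apply hxL
    apply h.centralizer_vv_le_LL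
    rw [mem_centralizer_iff]
    intro v hv
    rw [← h0] at hv
    exact (mem_hh.1 hv).2.symm
  · intro u hu _
    rw [hH] at hu ⊢
    exact cl_le_inf_centralizer hu.1 hA hu.2
  · rintro _ ⟨a, ha, rfl⟩
    change x * a * x⁻¹ ∈ (S : Subgroup G)
    have e : x * a * x⁻¹ = (x * a * x⁻¹ * a⁻¹) * a := by group
    rw [e]
    exact mul_mem (hQS (hxB a ha)) (hA.2.1 (hBA ha))
  · rw [hH]
    intro e he
    rw [mem_centralizer_iff]
    rintro v ⟨-, hv⟩
    exact (mem_centralizer_iff.1 hv e (hEA he)).symm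
  · obtain ⟨E₀, hE₀⟩ : ∃ E₀ : Subgroup G, E₀ = centralizer (vv (S : Subgroup G) : Set G) ⊓ cj x B :=
      ⟨_, rfl⟩
    have hE₀c : E₀ ≤ centralizer (vv (S : Subgroup G) : Set G) := hE₀ ▸ inf_le_left
    have hE₀B : E₀ ≤ cj x B := hE₀ ▸ inf_le_right
    have h1 : IsElementaryAbelian 2 (vv (S : Subgroup G) ⊔ E₀ : Subgroup G) :=
      PLocal.ElemAbSup.isElementaryAbelian_sup vv_isElementaryAbelian
        (isElementaryAbelian_mono hE hE₀B) hE₀c
    have h2 := PLocal.ElemAbSup.card_sup_mul_card_inf hE₀c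
    have h3 : Nat.card (vv (S : Subgroup G) ⊔ E₀ : Subgroup G) ≤ 2 * Nat.card (cj x B) := by
      have h4 := card_le_mm' S h1
      rw [mm_eq hA] at h4
      have h5 : Nat.card B * B.relIndex A = Nat.card A := card_mul_relIndex' hBA
      rw [card_cj]
      rw [hBidx] at h5
      omega
    have h4 : vv (S : Subgroup G) ⊓ E₀ ≤ hh (S : Subgroup G) x := by
      rw [hH]
      rintro v ⟨hv, hvE⟩
      refine mem_inf.2 ⟨hv, ?_⟩
      rw [mem_centralizer_iff]
      intro a ha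
      exact isElementaryAbelian_comm (isElementaryAbelian_cj x hA.1) ha (hEA (hE₀B hvE))
    have h5 : Nat.card (vv (S : Subgroup G) ⊓ E₀ : Subgroup G) ≤ Nat.card (hh (S : Subgroup G) x) :=
      Subgroup.card_le_of_le h4
    have h6 : Nat.card E₀ * (centralizer (vv (S : Subgroup G) : Set G)).relIndex (cj x B) =
        Nat.card (cj x B) := by
      have h7 : E₀.relIndex (cj x B) =
          (centralizer (vv (S : Subgroup G) : Set G)).relIndex (cj x B) := by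
        rw [hE₀, inf_relIndex_right]
      rw [← h7]
      exact card_mul_relIndex' hE₀B
    have h8 : 0 < Nat.card E₀ := Nat.card_pos
    refine Nat.le_of_mul_le_mul_right (c := Nat.card E₀) ?_ h8
    calc Nat.card (vv (S : Subgroup G)) * Nat.card E₀
        = Nat.card (vv (S : Subgroup G) ⊔ E₀ : Subgroup G) *
            Nat.card (vv (S : Subgroup G) ⊓ E₀ : Subgroup G) := h2.symm
      _ ≤ 2 * Nat.card (cj x B) * Nat.card (hh (S : Subgroup G) x) := Nat.mul_le_mul h3 h5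
      _ = 2 * Nat.card (hh (S : Subgroup G) x) *
            (centralizer (vv (S : Subgroup G) : Set G)).relIndex (cj x B) * Nat.card E₀ := by
          rw [← h6]; ring
  · have hQn : P ≤ normalizer (o2 P : Set G) := le_normalizer_o2 P
    refine (⟨vv_isElementaryAbelian, hA.1, ?_, hBA, hBidx, hb, hAV, ?_, hQn hxP, hxB, hxb, hxA,
      hxo, ?_⟩ : QD (vv (S : Subgroup G)) A B (o2 P) x b).quad
    · intro X hX
      rw [← mm_eq hA]
      exact card_le_mm' S hX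
    · intro j
      have h1 : cj (x ^ j) (o2 P) = o2 P := cj_eq_of_mem_normalizer (zpow_mem (hQn hxP) j)
      rw [← cj_normalizer, ← h1]
      exact cj_mono _ (hQS.trans (h.le_LL))
    · intro j
      exact hab _ (zpow_mem hxP j)

end Step

end Cfsg.Agent.MinSimple.EmptyE.Quad
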