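import Mathlib
import Cfsg.Agent.MinSimple.Geo

/-!
# Theorem E, Step 7: the points/blocks geometry (interface between Step 6 and Step 7)

`PP` = the conjugates of `Y` (points), `BB` = the conjugates of `V` (blocks); for a point `Y` its group is
`normalizer Y`, `ww BB Y` is generated by the blocks through `Y` and `kk BB Y` is the kernel of
`normalizer Y` on the blocks through `Y`.  (`blueprints/P21-Empty-v2-helper129.md`, section 7)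
-/

set_option autoImplicit false

namespace Cfsg.Agent.MinSimple.EmptyE.CountDefs

open Subgroup
open Cfsg.Agent.MinSimple.Geo (cj)

universe u

variable {G : Type u} [Group G]

/-- `W_Y`: generated by the blocks through the point `Y` -/
def ww (BB : Set (Subgroup G)) (Y : Subgroup G) : Subgroup G := sSup {V | V ∈ BB ∧ Y ≤ V}

/-- `K_Y`: the kernel of `N(Y)` on the blocks through the point `Y` -/
def kk (BB : Set (Subgroup G)) (Y : Subgroup G) : Subgroup G :=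
  normalizer (Y : Set G) ⊓ sInf {X | ∃ V ∈ BB, Y ≤ V ∧ X = normalizer (V : Set G)}

theorem mem_kk {BB : Set (Subgroup G)} {Y : Subgroup G} {g : G} :
    g ∈ kk BB Y ↔ g ∈ normalizer (Y : Set G) ∧ ∀ V ∈ BB, Y ≤ V → g ∈ normalizer (V : Set G) := by
  rw [kk, mem_inf, mem_sInf]
  constructor
  · rintro ⟨h1, h2⟩
    exact ⟨h1, fun V hV hY => h2 _ ⟨V, hV, hY, rfl⟩⟩
  · rintro ⟨h1, h2⟩
    refine ⟨h1, ?_⟩
    rintro _ ⟨V, hV, hY, rfl⟩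
    exact h2 V hV hY

/-- The output of Step 6, the input of Step 7. -/
structure Pts (PP BB : Set (Subgroup G)) : Prop where
  cjP : ∀ g : G, ∀ Y ∈ PP, cj g Y ∈ PP
  cjB : ∀ g : G, ∀ V ∈ BB, cj g V ∈ BB
  cardP : ∀ Y ∈ PP, Nat.card Y = 4
  cardB : ∀ V ∈ BB, Nat.card V = 16
  sq : ∀ V ∈ BB, ∀ v ∈ V, v * v = 1
  /-- points are TI -/
  inter : ∀ Y ∈ PP, ∀ Y' ∈ PP, Y ≠ Y' → Y ⊓ Y' = ⊥
  /-- two blocks through `Y` meet in `Y` -/
  interB : ∀ Y ∈ PP, ∀ V ∈ BB, ∀ V' ∈ BB, Y ≤ V → Y ≤ V' → V ≠ V' → V ⊓ V' ≤ Y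
  comm : ∀ Y ∈ PP, ∀ V ∈ BB, ∀ V' ∈ BB, Y ≤ V → Y ≤ V' → ∀ v ∈ V, ∀ v' ∈ V', v * v' = v' * v
  /-- an involution of `N(Y) ∩ N(V)` acts on `V` trivially or with `[V, e] ≤ Y = C_V(e)` -/
  act : ∀ Y ∈ PP, ∀ V ∈ BB, Y ≤ V → ∀ e ∈ normalizer (Y : Set G), e ∈ normalizer (V : Set G) → e * e = 1 →
    (∀ v ∈ V, e * v = v * e) ∨ ((∀ v ∈ V, e * v * e⁻¹ * v⁻¹ ∈ Y) ∧ ∀ v ∈ V, e * v = v * e → v ∈ Y)
  /-- two commuting involutions of `N(Y) ∩ N(V)` not centralizing `V` agree on `V` -/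
  uniq : ∀ Y ∈ PP, ∀ V ∈ BB, Y ≤ V → ∀ e ∈ normalizer (Y : Set G), e ∈ normalizer (V : Set G) →
    ∀ f ∈ normalizer (Y : Set G), f ∈ normalizer (V : Set G) → e * e = 1 → f * f = 1 → e * f = f * e →
    (∃ v ∈ V, e * v ≠ v * e) → (∃ v ∈ V, f * v ≠ v * f) → ∀ v ∈ V, e * f * v = v * (e * f)
  solv : ∀ Y ∈ PP, Group.IsSolvable (normalizer (Y : Set G))
  /-- `O₂(N(Y)/K_Y) = 1` -/
  o2 : ∀ Y ∈ PP, ∀ X : Subgroup G, kk BB Y ≤ X → X ≤ normalizer (Y : Set G) →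
    normalizer (Y : Set G) ≤ normalizer (X : Set G) → (∃ k : ℕ, (kk BB Y).relIndex X = 2 ^ k) → X ≤ kk BB Y
  /-- `⟨N(Y), N(V)⟩` is not 2-local -/
  core : ∃ Y ∈ PP, ∃ V ∈ BB, Y ≤ V ∧ ∀ X : Subgroup G, IsPGroup 2 X →
    normalizer (Y : Set G) ≤ normalizer (X : Set G) → normalizer (V : Set G) ≤ normalizer (X : Set G) → X = ⊥

/-- Weaker form, sufficient for the count: points with nontrivial intersection need only have commuting blocks, and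
`act`, `uniq` are only required for elements centralizing `Y`. -/
structure WPts (PP BB : Set (Subgroup G)) : Prop where
  cjP : ∀ g : G, ∀ Y ∈ PP, cj g Y ∈ PP
  cjB : ∀ g : G, ∀ V ∈ BB, cj g V ∈ BB
  cardP : ∀ Y ∈ PP, Nat.card Y = 4
  cardB : ∀ V ∈ BB, Nat.card V = 16
  sq : ∀ V ∈ BB, ∀ v ∈ V, v * v = 1
  inter : ∀ Y ∈ PP, ∀ Y' ∈ PP, Y ≠ Y' → Y ⊓ Y' = ⊥ ∨
    ∀ V ∈ BB, Y ≤ V → ∀ V' ∈ BB, Y' ≤ V' → ∀ v ∈ V, ∀ v' ∈ V', v * v' = v' * v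
  interB : ∀ Y ∈ PP, ∀ V ∈ BB, ∀ V' ∈ BB, Y ≤ V → Y ≤ V' → V ≠ V' → V ⊓ V' ≤ Y
  comm : ∀ Y ∈ PP, ∀ V ∈ BB, ∀ V' ∈ BB, Y ≤ V → Y ≤ V' → ∀ v ∈ V, ∀ v' ∈ V', v * v' = v' * v
  act : ∀ Y ∈ PP, ∀ V ∈ BB, Y ≤ V → ∀ e ∈ centralizer (Y : Set G), e ∈ normalizer (V : Set G) → e * e = 1 →
    (∀ v ∈ V, e * v = v * e) ∨ ((∀ v ∈ V, e * v * e⁻¹ * v⁻¹ ∈ Y) ∧ ∀ v ∈ V, e * v = v * e → v ∈ Y)
  uniq : ∀ Y ∈ PP, ∀ V ∈ BB, Y ≤ V → ∀ e ∈ centralizer (Y : Set G), e ∈ normalizer (V : Set G) →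
    ∀ f ∈ centralizer (Y : Set G), f ∈ normalizer (V : Set G) → e * e = 1 → f * f = 1 → e * f = f * e →
    (∃ v ∈ V, e * v ≠ v * e) → (∃ v ∈ V, f * v ≠ v * f) → ∀ v ∈ V, e * f * v = v * (e * f)
  solv : ∀ Y ∈ PP, Group.IsSolvable (normalizer (Y : Set G))
  o2 : ∀ Y ∈ PP, ∀ X : Subgroup G, kk BB Y ≤ X → X ≤ normalizer (Y : Set G) →
    normalizer (Y : Set G) ≤ normalizer (X : Set G) → (∃ k : ℕ, (kk BB Y).relIndex X = 2 ^ k) → X ≤ kk BB Y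
  core : ∃ Y ∈ PP, ∃ V ∈ BB, Y ≤ V ∧ ∀ X : Subgroup G, IsPGroup 2 X →
    normalizer (Y : Set G) ≤ normalizer (X : Set G) → normalizer (V : Set G) ≤ normalizer (X : Set G) → X = ⊥

theorem cent_le_norm_aux (H : Subgroup G) :
    centralizer (H : Set G) ≤ normalizer (H : Set G) := by
  intro g hg
  rw [mem_normalizer_iff]
  intro x
  constructor
  · intro hx
    rw [← mem_centralizer_iff.mp hg x hx, mul_inv_cancel_right]
    exact hx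
  · intro hx
    have h1 := mem_centralizer_iff.mp hg _ hx
    have h2 : g * x * g⁻¹ = x := by
      have h3 : g * (g * x * g⁻¹) = g * x := by rw [← h1]; group
      exact mul_left_cancel h3
    rw [h2] at hx; exact hx

theorem Pts.weak {PP BB : Set (Subgroup G)} (h : Pts PP BB) : WPts PP BB where
  cjP := h.cjP
  cjB := h.cjB
  cardP := h.cardP
  cardB := h.cardB
  sq := h.sq
  inter := fun Y hY Y' hY' hne => Or.inl (h.inter Y hY Y' hY' hne)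
  interB := h.interB
  comm := h.comm
  act := fun Y hY V hV hYV e he => h.act Y hY V hV hYV e (cent_le_norm_aux Y he)
  uniq := fun Y hY V hV hYV e he heV f hf =>
    h.uniq Y hY V hV hYV e (cent_le_norm_aux Y he) heV f (cent_le_norm_aux Y hf)
  solv := h.solv
  o2 := h.o2
  core := h.core

end Cfsg.Agent.MinSimple.EmptyE.CountDefs
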