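import Cfsg.Agent.MinSimple.EmptyE.YBlock
import Cfsg.Agent.MinSimple.EmptyE.CountDefs

/-!
# The case "(Empty)", Theorem E, Step 6: output

`pts` : the points/blocks geometry (`CountDefs.Pts`) from `YBlock.YDat` and `V ≤ O₂(N_G(Y))`.
-/

set_option autoImplicit false

namespace Cfsg.Agent.MinSimple.EmptyE.YPts

open Subgroup Cfsg Cfsg.Agent.ZN Cfsg.Agent.ZN.ChoiceBase Cfsg.Agent.ZN.ChoiceSit
open Cfsg.Agent.MinSimple.EmptyTI Cfsg.Agent.MinSimple.EmptySix
open Cfsg.Agent.MinSimple.EmptyE.YSet Cfsg.Agent.MinSimple.EmptyE.YBlock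
open Cfsg.Agent.MinSimple.EmptyE.CountDefs (Pts kk mem_kk)

universe u

variable {G : Type u} [Group G]

/-- The conjugates of `H`. -/
def cjs (H : Subgroup G) : Set (Subgroup G) := {K | ∃ g : G, K = cj g H}

theorem cjs_self (H : Subgroup G) : H ∈ cjs H := ⟨1, (cj_one H).symm⟩

theorem cj_mem_cjs {H K : Subgroup G} (g : G) (hK : K ∈ cjs H) : cj g K ∈ cjs H := by
  obtain ⟨a, rfl⟩ := hK
  exact ⟨g * a, cj_cj _ _ _⟩

theorem cj_bot (g : G) : cj g (⊥ : Subgroup G) = ⊥ := Subgroup.map_bot _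

theorem cj_injective {g : G} {H K : Subgroup G} (h : cj g H = cj g K) : H = K := by
  have := congrArg (cj g⁻¹) h
  rwa [cj_inv_cj, cj_inv_cj] at this

section

variable [Finite G] {S : Sylow 2 G} {V Y : Subgroup G}

/-- Reduction to `Y' = Y`, `V' = V`. -/
theorem exists_cj_pair (h : YIn S V Y) {Y' V' : Subgroup G} (hY' : Y' ∈ cjs Y) (hV' : V' ∈ cjs V)
    (hle : Y' ≤ V') : ∃ g : G, Y' = cj g Y ∧ V' = cj g V := by
  obtain ⟨a, rfl⟩ := hY'
  obtain ⟨b, rfl⟩ := hV'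
  have h1 := cj_le_iff.1 hle
  rw [cj_cj] at h1
  obtain ⟨m, hm, hmV⟩ := exists_cj_V h h1
  refine ⟨a * m, ?_, ?_⟩
  · rw [← cj_cj, cj_eq_of_mem_normalizer hm]
  · rw [← cj_cj, ← hmV, cj_cj, mul_inv_cancel_left]

theorem kk_eq (h : YIn S V Y) : kk (cjs V) Y = ker V Y := by
  ext x
  rw [mem_kk, mem_ker]
  refine and_congr_right fun _ => ⟨fun h1 m hm => h1 _ ⟨m, rfl⟩ ?_, fun h1 V' hV' hY => ?_⟩
  · have h2 := cj_mono m h.Y_le
    rwa [cj_eq_of_mem_normalizer hm] at h2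
  · obtain ⟨g, rfl⟩ := hV'
    obtain ⟨m, hm, hmV⟩ := exists_cj_V h hY
    rw [hmV]
    exact h1 m hm

omit [Finite G] in
theorem kk_cj (V Y : Subgroup G) (g : G) : kk (cjs V) (cj g Y) = cj g (kk (cjs V) Y) := by
  have key : ∀ (g : G) (Y : Subgroup G), cj g (kk (cjs V) Y) ≤ kk (cjs V) (cj g Y) := by
    intro g Y x hx
    obtain ⟨h1, h2⟩ := mem_kk.1 (mem_cj.1 hx)
    refine mem_kk.2 ⟨?_, fun V' hV' hY => ?_⟩
    · rw [← cj_normalizer]
      exact mem_cj.2 h1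
    · have h3 := h2 (cj g⁻¹ V') (cj_mem_cjs _ hV') (cj_le_iff.1 hY)
      rw [← cj_normalizer, mem_cj, inv_inv] at h3
      have e : g * (g⁻¹ * x * g) * g⁻¹ = x := by group
      rwa [e] at h3
  refine le_antisymm ?_ (key g Y)
  have h1 := cj_mono g (key g⁻¹ (cj g Y))
  rwa [cj_cj_inv, cj_inv_cj] at h1

omit [Finite G] in
theorem relIndex_cj (g : G) (H K : Subgroup G) : (cj g H).relIndex (cj g K) = H.relIndex K :=
  Subgroup.relIndex_map_map_of_injective _ _ (MulAut.conj g).injective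

/-- **Step 6 of Theorem E.** -/
theorem pts (h : YDat S V Y) (hQ : V ≤ o2 (normalizer (Y : Set G)))
    (hcore : ∀ X : Subgroup G, IsPGroup 2 X → normalizer (Y : Set G) ≤ normalizer (X : Set G) →
      normalizer (V : Set G) ≤ normalizer (X : Set G) → X = ⊥) : Pts (cjs Y) (cjs V) := by
  have hY := h.toYIn
  -- transport of involutions
  have htr : ∀ g e : G, e ∈ normalizer ((cj g Y : Subgroup G) : Set G) →
      e ∈ normalizer ((cj g V : Subgroup G) : Set G) → e * e = 1 →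
      g⁻¹ * e * g ∈ normalizer (Y : Set G) ⊓ normalizer (V : Set G) ∧
        g⁻¹ * e * g * (g⁻¹ * e * g) = 1 := by
    intro g e h1 h2 h3
    rw [← cj_normalizer, mem_cj] at h1 h2
    refine ⟨⟨h1, h2⟩, ?_⟩
    have e1 : g⁻¹ * e * g * (g⁻¹ * e * g) = g⁻¹ * (e * e) * g := by group
    rw [e1, h3]
    group
  have hcent : ∀ g e : G, (∀ v ∈ cj g V, e * v = v * e) ↔
      g⁻¹ * e * g ∈ centralizer (V : Set G) := by
    intro g e
    have h1 : g⁻¹ * e * g ∈ centralizer (V : Set G) ↔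
        e ∈ centralizer ((cj g V : Subgroup G) : Set G) := by
      rw [← cj_centralizer, mem_cj]
    rw [h1, mem_centralizer_iff]
    exact ⟨fun h2 v hv => (h2 v hv).symm, fun h2 v hv => (h2 v hv).symm⟩
  refine
    { cjP := fun g Y' hY' => cj_mem_cjs g hY'
      cjB := fun g V' hV' => cj_mem_cjs g hV'
      cardP := ?_, cardB := ?_, sq := ?_, inter := ?_, interB := ?_, comm := ?_, act := ?_,
      uniq := ?_, solv := ?_, o2 := ?_, core := ?_ }
  · rintro _ ⟨g, rfl⟩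
    rw [card_cj, hY.card_Y]
  · rintro _ ⟨g, rfl⟩
    rw [card_cj, hY.card_V]
  · rintro _ ⟨g, rfl⟩ v hv
    have h1 := hY.sq (mem_cj.1 hv)
    have e : v * v = g * (g⁻¹ * v * g) ^ 2 * g⁻¹ := by rw [pow_two]; group
    rw [e, h1]
    group
  · rintro _ ⟨a, rfl⟩ _ ⟨b, rfl⟩ hab
    have h2 : cj (a⁻¹ * b) Y ≠ Y := by
      intro h0
      have h2 := congrArg (cj a) h0
      rw [cj_cj, mul_inv_cancel_left] at h2
      exact hab h2.symm
    have h4 := congrArg (cj a) (hY.inf_eq_bot h2)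
    rwa [cj_inf, cj_cj, mul_inv_cancel_left, cj_bot] at h4
  · intro Y' hY' V₁ hV₁ V₂ hV₂ h1 h2 h12
    obtain ⟨g, rfl, rfl⟩ := exists_cj_pair hY hY' hV₁ h1
    obtain ⟨b, rfl⟩ := hV₂
    have h3 := cj_le_iff.1 h2
    rw [cj_cj] at h3
    have h4 : cj (g⁻¹ * b) V ≠ V := by
      intro h0
      have h5 := congrArg (cj g) h0
      rw [cj_cj, mul_inv_cancel_left] at h5
      exact h12 h5.symm
    have h5 := congrArg (cj g) (inf_eq hY h3 h4)
    rw [cj_inf, cj_cj, mul_inv_cancel_left] at h5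
    exact h5.le
  · intro Y' hY' V₁ hV₁ V₂ hV₂ h1 h2 v hv w hw
    obtain ⟨g, rfl, rfl⟩ := exists_cj_pair hY hY' hV₁ h1
    obtain ⟨b, rfl⟩ := hV₂
    have h3 := cj_le_iff.1 h2
    rw [cj_cj] at h3
    obtain ⟨m, hm, hmV⟩ := exists_cj_V hY h3
    have h4 := cj_mono g (h.cj_le_centralizer hQ hm)
    rw [← hmV, cj_cj, mul_inv_cancel_left, cj_centralizer] at h4
    exact mem_centralizer_iff.1 (h4 hw) v hv
  · intro Y' hY' V' hV' hYV e he1 he2 hee
    obtain ⟨g, rfl, rfl⟩ := exists_cj_pair hY hY' hV' hYV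
    obtain ⟨h1, h2⟩ := htr g e he1 he2 hee
    have hp : IsPGroup 2 (zpowers (g⁻¹ * e * g)) := Basic.isPGroup_zpowers (by rw [pow_two, h2])
    have hle : zpowers (g⁻¹ * e * g) ≤ normalizer (Y : Set G) ⊓ normalizer (V : Set G) := by
      rwa [zpowers_le]
    have hsq : g⁻¹ * e * g * (g⁻¹ * e * g) ∈ centralizer (V : Set G) := by
      rw [h2]
      exact one_mem _
    by_cases hc : g⁻¹ * e * g ∈ centralizer (V : Set G)
    · exact Or.inl ((hcent g e).2 hc)
    · right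
      refine ⟨fun v hv => ?_, fun v hv hev => ?_⟩
      · have h3 := h.act_comm hp hle (mem_zpowers _) hsq hc (mem_cj.1 hv)
        rw [mem_cj]
        have e1 : g⁻¹ * (e * v * e⁻¹ * v⁻¹) * g =
            g⁻¹ * e * g * (g⁻¹ * v * g) * (g⁻¹ * e * g)⁻¹ * (g⁻¹ * v * g)⁻¹ := by group
        rwa [e1]
      · rw [mem_cj]
        refine (h.act_iff hp hle (mem_zpowers _) hsq hc (mem_cj.1 hv)).1 ?_
        have e1 : g⁻¹ * e * g * (g⁻¹ * v * g) = g⁻¹ * (e * v) * g := by group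
        have e2 : g⁻¹ * v * g * (g⁻¹ * e * g) = g⁻¹ * (v * e) * g := by group
        rw [e1, e2, hev]
  · intro Y' hY' V' hV' hYV e he1 he2 f hf1 hf2 hee hff hef hev hfv
    obtain ⟨g, rfl, rfl⟩ := exists_cj_pair hY hY' hV' hYV
    obtain ⟨h1, h2⟩ := htr g e he1 he2 hee
    obtain ⟨h3, h4⟩ := htr g f hf1 hf2 hff
    have hp1 : IsPGroup 2 (zpowers (g⁻¹ * e * g)) := Basic.isPGroup_zpowers (by rw [pow_two, h2])
    have hp2 : IsPGroup 2 (zpowers (g⁻¹ * f * g)) := Basic.isPGroup_zpowers (by rw [pow_two, h4])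
    have hnor : zpowers (g⁻¹ * e * g) ≤ normalizer ((zpowers (g⁻¹ * f * g) : Subgroup G) : Set G) := by
      refine le_trans ?_ (centralizer_le_normalizer _)
      rw [zpowers_le, mem_centralizer_iff]
      rintro _ ⟨k, rfl⟩
      have hcomm : Commute (g⁻¹ * e * g) (g⁻¹ * f * g) := by
        change g⁻¹ * e * g * (g⁻¹ * f * g) = g⁻¹ * f * g * (g⁻¹ * e * g)
        have e1 : g⁻¹ * e * g * (g⁻¹ * f * g) = g⁻¹ * (e * f) * g := by group
        have e2 : g⁻¹ * f * g * (g⁻¹ * e * g) = g⁻¹ * (f * e) * g := by group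
        rw [e1, e2, hef]
      exact ((hcomm.zpow_right k).eq).symm
    have hp : IsPGroup 2 (zpowers (g⁻¹ * e * g) ⊔ zpowers (g⁻¹ * f * g) : Subgroup G) :=
      IsPGroup.to_sup_of_normal_right' hp1 hp2 hnor
    have hle : zpowers (g⁻¹ * e * g) ⊔ zpowers (g⁻¹ * f * g) ≤
        normalizer (Y : Set G) ⊓ normalizer (V : Set G) :=
      sup_le (by rwa [zpowers_le]) (by rwa [zpowers_le])
    have hce : g⁻¹ * e * g ∉ centralizer (V : Set G) := by
      rw [← hcent]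
      push Not
      exact hev
    have hcf : g⁻¹ * f * g ∉ centralizer (V : Set G) := by
      rw [← hcent]
      push Not
      exact hfv
    have h5 := h.act_mul hp hle (mem_sup_left (mem_zpowers _)) (by rw [h2]; exact one_mem _) hce
      (mem_sup_right (mem_zpowers _)) (by rw [h4]; exact one_mem _) hcf
    have e1 : g⁻¹ * e * g * (g⁻¹ * f * g) = g⁻¹ * (e * f) * g := by group
    rw [e1, ← hcent] at h5
    exact h5
  · rintro _ ⟨g, rfl⟩
    rw [← cj_normalizer]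
    have h1 := h.solv
    exact Group.isSolvable_of_surjective
      ((MulAut.conj g).toMonoidHom.subgroupMap_surjective (normalizer (Y : Set G)))
  · rintro _ ⟨g, rfl⟩ X hKX hX hXn ⟨k, hk⟩
    have h1 : cj g⁻¹ X ≤ ker V Y := by
      refine le_ker h.S_le h.S_le_V (k := k) ?_ ?_ ?_ ?_
      · rw [cj_le_iff, inv_inv, cj_normalizer]
        exact hX
      · have h2 := cj_mono g⁻¹ hXn
        rwa [cj_normalizer, cj_normalizer, cj_inv_cj] at h2
      · rw [← kk_eq hY]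
        have h2 := cj_mono g⁻¹ hKX
        rwa [kk_cj, cj_inv_cj] at h2
      · rw [← kk_eq hY, ← hk, kk_cj, ← relIndex_cj g⁻¹ (cj g (kk (cjs V) Y)) X, cj_inv_cj]
    rw [kk_cj, kk_eq hY]
    rwa [cj_le_iff, inv_inv] at h1
  · exact ⟨Y, cjs_self Y, V, cjs_self V, hY.Y_le, hcore⟩

end

end Cfsg.Agent.MinSimple.EmptyE.YPts
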