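import Cfsg.Agent.MinSimple.EmptyE.XLem
import Cfsg.Agent.MinSimple.EmptyE.Quad
import Cfsg.Agent.MinSimple.EmptyE.YPts
import Cfsg.Agent.MinSimple.EmptyE.Count

/-!
# The case "(Empty)": case (X) is impossible

`false_of_x : ESit S → XIn S V z → False` (`blueprints/P21-Empty-X-helper420.md`).
-/

set_option autoImplicit false

namespace Cfsg.Agent.MinSimple.EmptyE.XFalse

open Subgroup Cfsg Cfsg.Agent.ZN Cfsg.Agent.ZN.ChoiceSit
open Cfsg.Agent.ZN.ChoiceBase (cj mem_cj cj_cj cj_one cj_inv_cj cj_cj_inv cj_mono cj_le_iff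
  mem_normalizer_iff_cj cj_inf cj_normalizer cj_centralizer card_cj cj_eq_of_mem_normalizer
  mem_normalizer_of_cj_le)
open Cfsg.Agent.MinSimple.EmptyTI Cfsg.Agent.MinSimple.EmptySix
open Cfsg.Agent.MinSimple.EmptyE.Closed
open Cfsg.Agent.MinSimple.EmptyE.Hyper (hh)
open Cfsg.Agent.MinSimple.EmptyE.ToOm (Pre V_le eq_of_mem norm_of_fix fix_all mem_of_mem uc vv_le_o2
  le_LL_of_le vv_le_cl)
open Cfsg.Agent.MinSimple.EmptyE.XDefs (XIn)
open Cfsg.Agent.MinSimple.EmptyE.XLem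
open Cfsg.Agent.MinSimple.EmptyE.YBlock (ker mem_ker le_ker)
open Cfsg.Agent.MinSimple.EmptyE.YPts (cjs cjs_self cj_mem_cjs cj_bot kk_cj relIndex_cj)
open Cfsg.Agent.MinSimple.EmptyE.CountDefs (WPts kk mem_kk)

universe u

variable {G : Type u} [Group G] [Finite G] {S : Sylow 2 G} {V : Fin 2 → Subgroup G} {z : G}

/-! ### Blocks -/

/-- (*) -/
theorem star (h : ESit S) (o : Pre (S : Subgroup G) V z) {g : G}
    (hne : vv (S : Subgroup G) ⊓ cj g (vv (S : Subgroup G)) ≠ ⊥) :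
    ∀ v ∈ vv (S : Subgroup G), ∀ w ∈ cj g (vv (S : Subgroup G)), v * w = w * v := by
  obtain ⟨⟨u, hu⟩, hu1⟩ := Subgroup.ne_bot_iff_exists_ne_one.1 hne
  have hu1' : u ≠ 1 := fun h0 => hu1 (Subtype.ext h0)
  obtain ⟨huV, hug⟩ := mem_inf.1 hu
  by_cases hi : ∃ i, u ∈ V i
  · obtain ⟨i, hi⟩ := hi
    have hg := mem_of_mem h o hi hu1' hug
    intro v hv w hw
    rw [cj_vv hg] at hw
    exact vv_comm hv hw
  push Not at hi
  obtain ⟨l, hl, hlz⟩ := conj_z o huV (hi 0) (hi 1)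
  have hzg : z ∈ cj (l⁻¹ * g) (vv (S : Subgroup G)) := by
    rw [← cj_cj, mem_cj, inv_inv, hlz]
    exact hug
  have h1 : jj (S : Subgroup G) ≤ centralizer ({z} : Set G) :=
    jj_le_centralizer (vv_le_zj _ (zc_le_vv _ o.z_mem))
  have h2 : cj (l⁻¹ * g) (jj (S : Subgroup G)) ≤ centralizer ({z} : Set G) := by
    have h3 := cj_mono (l⁻¹ * g) (jj_le_centralizer (vv_le_zj _ (mem_cj.1 hzg)))
    rw [centralizer_cj] at h3
    have e : (l⁻¹ * g) * ((l⁻¹ * g)⁻¹ * z * (l⁻¹ * g)) * (l⁻¹ * g)⁻¹ = z := by group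
    rwa [e] at h3
  obtain ⟨c, hc, hcg⟩ := exists_conj_jj S h1 h2
  have h4 : c⁻¹ * (l⁻¹ * g) ∈ normalizer (jj (S : Subgroup G) : Set G) := by
    rw [mem_normalizer_iff_cj, ← cj_cj, ← hcg, cj_inv_cj]
  have h5 : cj (l⁻¹ * g) (vv (S : Subgroup G)) = cj c (vv (S : Subgroup G)) := by
    have := congrArg (cj c) (cj_vv (h.normalizer_le_LL h4))
    rwa [cj_cj, mul_inv_cancel_left] at this
  intro v hv w hw
  have hv' : l⁻¹ * v * l ∈ vv (S : Subgroup G) := by
    have := conj_mem_vv (inv_mem hl) hv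
    rwa [inv_inv] at this
  have hw' : l⁻¹ * w * l ∈ cj c (vv (S : Subgroup G)) := by
    rw [← h5, ← cj_cj, mem_cj, inv_inv]
    have e : l * (l⁻¹ * w * l) * l⁻¹ = w := by group
    rwa [e]
  have h6 := uc h o (vv_le_o2 h o) hc hv' hw'
  calc v * w = l * (l⁻¹ * v * l * (l⁻¹ * w * l)) * l⁻¹ := by group
    _ = l * (l⁻¹ * w * l * (l⁻¹ * v * l)) * l⁻¹ := by rw [h6]
    _ = w * v := by group

theorem star' (h : ESit S) (o : Pre (S : Subgroup G) V z) {a b : G}
    (hne : cj a (vv (S : Subgroup G)) ⊓ cj b (vv (S : Subgroup G)) ≠ ⊥) :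
    ∀ v ∈ cj a (vv (S : Subgroup G)), ∀ w ∈ cj b (vv (S : Subgroup G)), v * w = w * v := by
  have h1 : vv (S : Subgroup G) ⊓ cj (a⁻¹ * b) (vv (S : Subgroup G)) ≠ ⊥ := by
    intro h0
    apply hne
    have h2 := congrArg (cj a) h0
    rwa [cj_inf, cj_cj, mul_inv_cancel_left, cj_bot] at h2
  intro v hv w hw
  have hw' : a⁻¹ * w * a ∈ cj (a⁻¹ * b) (vv (S : Subgroup G)) := by
    rw [← cj_cj, mem_cj, inv_inv]
    have e : a * (a⁻¹ * w * a) * a⁻¹ = w := by group
    rwa [e]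
  have h3 := star h o h1 _ (mem_cj.1 hv) _ hw'
  calc v * w = a * (a⁻¹ * v * a * (a⁻¹ * w * a)) * a⁻¹ := by group
    _ = a * (a⁻¹ * w * a * (a⁻¹ * v * a)) * a⁻¹ := by rw [h3]
    _ = w * v := by group

/-- The blocks through `H` are conjugate in `C_G(H)`. -/
theorem exists_cent (h : ESit S) {H : Subgroup G} (hH : H ≤ vv (S : Subgroup G)) {g : G}
    (hg : H ≤ cj g (vv (S : Subgroup G))) :
    ∃ c ∈ centralizer (H : Set G), cj g (vv (S : Subgroup G)) = cj c (vv (S : Subgroup G)) := by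
  have h1 : jj (S : Subgroup G) ≤ centralizer (H : Set G) :=
    jj_le_centralizer_vv.trans (centralizer_le hH)
  have h2 : cj g (jj (S : Subgroup G)) ≤ centralizer (H : Set G) := by
    refine (cj_mono g jj_le_centralizer_vv).trans ?_
    rw [cj_centralizer]
    exact centralizer_le hg
  obtain ⟨c, hc, hcg⟩ := exists_conj_jj S h1 h2
  refine ⟨c, hc, ?_⟩
  have h4 : c⁻¹ * g ∈ normalizer (jj (S : Subgroup G) : Set G) := by
    rw [mem_normalizer_iff_cj, ← cj_cj, ← hcg, cj_inv_cj]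
  have := congrArg (cj c) (cj_vv (h.normalizer_le_LL h4))
  rwa [cj_cj, mul_inv_cancel_left] at this

/-- `H` is a line through `z`, normal in `S`, with a centralizer not contained in `L`. -/
structure XH (S : Sylow 2 G) (V : Fin 2 → Subgroup G) (H : Subgroup G) : Prop where
  le : H ≤ vv (S : Subgroup G)
  card : Nat.card H = 4
  inf : ∀ i, H ⊓ V i = ⊥
  S_le : (S : Subgroup G) ≤ normalizer (H : Set G)
  x : ∃ x ∈ centralizer (H : Set G), x ∉ LL (S : Subgroup G)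

theorem exists_pair (h : ESit S) {H : Subgroup G} (hH : H ≤ vv (S : Subgroup G)) {Y' V' : Subgroup G}
    (hY' : Y' ∈ cjs H) (hV' : V' ∈ cjs (vv (S : Subgroup G))) (hle : Y' ≤ V') :
    ∃ g : G, Y' = cj g H ∧ V' = cj g (vv (S : Subgroup G)) := by
  obtain ⟨a, rfl⟩ := hY'
  obtain ⟨b, rfl⟩ := hV'
  have h1 := cj_le_iff.1 hle
  rw [cj_cj] at h1
  obtain ⟨m, hm, hmV⟩ := exists_cent h hH h1
  refine ⟨a * m, ?_, ?_⟩
  · rw [← cj_cj, cj_eq_of_mem_normalizer (centralizer_le_normalizer _ hm)]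
  · rw [← cj_cj, ← hmV, cj_cj, mul_inv_cancel_left]

theorem kk_eq (h : ESit S) {H : Subgroup G} (hH : H ≤ vv (S : Subgroup G)) :
    kk (cjs (vv (S : Subgroup G))) H = ker (vv (S : Subgroup G)) H := by
  ext x
  rw [mem_kk, mem_ker]
  refine and_congr_right fun _ => ⟨fun h1 m hm => h1 _ ⟨m, rfl⟩ ?_, fun h1 V' hV' hY => ?_⟩
  · have h2 := cj_mono m hH
    rwa [cj_eq_of_mem_normalizer hm] at h2
  · obtain ⟨g, rfl⟩ := hV'
    obtain ⟨m, hm, hmV⟩ := exists_cent h hH hY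
    rw [hmV]
    exact h1 m (centralizer_le_normalizer _ hm)

/-- Two blocks through `H` meet in `H`. -/
theorem inf_le_H (h : ESit S) (o : Pre (S : Subgroup G) V z) {H : Subgroup G} (hH : XH S V H) {g : G}
    (hg : H ≤ cj g (vv (S : Subgroup G))) (hne : cj g (vv (S : Subgroup G)) ≠ vv (S : Subgroup G)) :
    vv (S : Subgroup G) ⊓ cj g (vv (S : Subgroup G)) ≤ H := by
  have hgL : g ∉ LL (S : Subgroup G) := fun h0 => hne (cj_vv h0)
  obtain ⟨X, hX⟩ : ∃ X, X = vv (S : Subgroup G) ⊓ cj g (vv (S : Subgroup G)) := ⟨_, rfl⟩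
  have hXV : X ≤ vv (S : Subgroup G) := hX ▸ inf_le_left
  have h1 : X ⊓ V 0 = ⊥ := by
    rw [eq_bot_iff, ← ToOm.inter h o hgL 0, hX]
    rintro v ⟨⟨-, hv⟩, hv0⟩
    exact ⟨hv0, hv⟩
  have h2 := card_mul X (V 0) hXV (V_le o 0)
  rw [h1, card_bot, mul_one, o.card] at h2
  have h3 : Nat.card (X ⊔ V 0 : Subgroup G) ≤ 16 := by
    rw [← card_vv o]
    exact Subgroup.card_le_of_le (sup_le hXV (V_le o 0))
  have h5 : H = X := Subgroup.eq_of_le_of_card_ge (hX ▸ le_inf hH.le hg) (by rw [hH.card]; omega)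
  rw [← hX, ← h5]

/-- **The geometry.** -/
theorem wpts (h : ESit S) (o : Pre (S : Subgroup G) V z) {H : Subgroup G} (hH : XH S V H) :
    WPts (cjs H) (cjs (vv (S : Subgroup G))) := by
  have hp2 : Fact (Nat.Prime 2) := ⟨Nat.prime_two⟩
  have hH1 : H ≠ ⊥ := by
    rintro rfl
    have := hH.card
    rw [card_bot] at this
    omega
  have hH2 : IsPGroup 2 H := isPGroup_vv.to_le hH.le
  have hY4 : ∀ g : G, cj g H ≠ ⊥ := by
    intro g h0
    apply hH1
    have := congrArg (cj g⁻¹) h0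
    rwa [cj_inv_cj, cj_bot] at this
  -- transport
  have htr : ∀ g e : G, e ∈ centralizer ((cj g H : Subgroup G) : Set G) →
      e ∈ normalizer ((cj g (vv (S : Subgroup G)) : Subgroup G) : Set G) →
      g⁻¹ * e * g ∈ centralizer (H : Set G) ∧ g⁻¹ * e * g ∈ LL (S : Subgroup G) := by
    intro g e h1 h2
    rw [← cj_centralizer, mem_cj] at h1
    rw [← cj_normalizer, mem_cj] at h2
    exact ⟨h1, h2⟩
  have hcent : ∀ g e : G, (∀ v ∈ cj g (vv (S : Subgroup G)), e * v = v * e) ↔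
      g⁻¹ * e * g ∈ centralizer (vv (S : Subgroup G) : Set G) := by
    intro g e
    have h1 : g⁻¹ * e * g ∈ centralizer (vv (S : Subgroup G) : Set G) ↔
        e ∈ centralizer ((cj g (vv (S : Subgroup G)) : Subgroup G) : Set G) := by
      rw [← cj_centralizer, mem_cj]
    rw [h1, mem_centralizer_iff]
    exact ⟨fun h2 v hv => (h2 v hv).symm, fun h2 v hv => (h2 v hv).symm⟩
  refine
    { cjP := fun g Y' hY' => cj_mem_cjs g hY'
      cjB := fun g V' hV' => cj_mem_cjs g hV'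
      cardP := ?_, cardB := ?_, sq := ?_, inter := ?_, interB := ?_, comm := ?_, act := ?_,
      uniq := ?_, solv := ?_, o2 := ?_, core := ?_ }
  · rintro _ ⟨g, rfl⟩
    rw [card_cj, hH.card]
  · rintro _ ⟨g, rfl⟩
    rw [card_cj, card_vv o]
  · rintro _ ⟨g, rfl⟩ v hv
    have h1 := vv_mul_self (mem_cj.1 hv)
    have e : v * v = g * ((g⁻¹ * v * g) * (g⁻¹ * v * g)) * g⁻¹ := by group
    rw [e, h1]
    group
  · rintro Y hY Y' hY' -
    by_cases hne : Y ⊓ Y' = ⊥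
    · exact Or.inl hne
    · right
      rintro _ ⟨a, rfl⟩ h1 _ ⟨b, rfl⟩ h2
      refine star' h o fun h0 => hne ?_
      rw [eq_bot_iff, ← h0]
      exact inf_le_inf h1 h2
  · intro Y' hY' V₁ hV₁ V₂ hV₂ h1 h2 h12
    obtain ⟨g, rfl, rfl⟩ := exists_pair h hH.le hY' hV₁ h1
    obtain ⟨b, rfl⟩ := hV₂
    have h3 := cj_le_iff.1 h2
    rw [cj_cj] at h3
    have h4 : cj (g⁻¹ * b) (vv (S : Subgroup G)) ≠ vv (S : Subgroup G) := by
      intro h0
      have h5 := congrArg (cj g) h0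
      rw [cj_cj, mul_inv_cancel_left] at h5
      exact h12 h5.symm
    have h5 := cj_mono g (inf_le_H h o hH h3 h4)
    rwa [cj_inf, cj_cj, mul_inv_cancel_left] at h5
  · rintro _ ⟨a, rfl⟩ _ ⟨b, rfl⟩ _ ⟨c, rfl⟩ h1 h2
    refine star' h o fun h0 => hY4 a ?_
    rw [eq_bot_iff, ← h0]
    exact le_inf h1 h2
  · intro Y' hY' V' hV' hYV e he1 he2 _
    obtain ⟨g, rfl, rfl⟩ := exists_pair h hH.le hY' hV' hYV
    obtain ⟨h1, h2⟩ := htr g e he1 he2
    rcases dich o h2 with h3 | h3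
    · exact Or.inl ((hcent g e).2 (act_fix o hH.le hH.card hH.inf h1 h3))
    · right
      refine ⟨fun v hv => ?_, fun v hv hev => ?_⟩
      · have h4 := (act_swap o hH.le hH.card hH.inf h1 h3 (mem_cj.1 hv)).1
        rw [mem_cj]
        have e1 : g⁻¹ * (e * v * e⁻¹ * v⁻¹) * g =
            g⁻¹ * e * g * (g⁻¹ * v * g) * (g⁻¹ * e * g)⁻¹ * (g⁻¹ * v * g)⁻¹ := by group
        rwa [e1]
      · rw [mem_cj]
        refine (act_swap o hH.le hH.card hH.inf h1 h3 (mem_cj.1 hv)).2 ?_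
        have e1 : g⁻¹ * e * g * (g⁻¹ * v * g) = g⁻¹ * (e * v) * g := by group
        have e2 : g⁻¹ * v * g * (g⁻¹ * e * g) = g⁻¹ * (v * e) * g := by group
        rw [e1, e2, hev]
  · intro Y' hY' V' hV' hYV e he1 he2 f hf1 hf2 _ _ _ hev hfv
    obtain ⟨g, rfl, rfl⟩ := exists_pair h hH.le hY' hV' hYV
    obtain ⟨h1, h2⟩ := htr g e he1 he2
    obtain ⟨h3, h4⟩ := htr g f hf1 hf2
    have hce : g⁻¹ * e * g ∉ centralizer (vv (S : Subgroup G) : Set G) := by
      rw [← hcent]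
      push Not
      exact hev
    have hcf : g⁻¹ * f * g ∉ centralizer (vv (S : Subgroup G) : Set G) := by
      rw [← hcent]
      push Not
      exact hfv
    have e1 : g⁻¹ * e * g * (g⁻¹ * f * g) = g⁻¹ * (e * f) * g := by group
    rw [hcent, ← e1]
    rcases dich o h2 with h5 | h5
    · exact absurd (act_fix o hH.le hH.card hH.inf h1 h5) hce
    rcases dich o h4 with h6 | h6
    · exact absurd (act_fix o hH.le hH.card hH.inf h3 h6) hcf
    refine act_fix o hH.le hH.card hH.inf (mul_mem h1 h3) fun i => ?_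
    obtain ⟨j, hij⟩ := ToOm.exists_ne i
    rw [← cj_cj, h6 i j hij, h5 j i hij.symm]
  · rintro _ ⟨g, rfl⟩
    rw [← cj_normalizer]
    have h1 : Group.IsSolvable (normalizer (H : Set G)) :=
      h.solv _ (Basic.isTwoLocal_normalizer hH2 hH1)
    exact Group.isSolvable_of_surjective
      ((MulAut.conj g).toMonoidHom.subgroupMap_surjective (normalizer (H : Set G)))
  · rintro _ ⟨g, rfl⟩ X hKX hX hXn ⟨k, hk⟩
    have h1 : cj g⁻¹ X ≤ ker (vv (S : Subgroup G)) H := by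
      refine le_ker hH.S_le h.le_LL (k := k) ?_ ?_ ?_ ?_
      · rw [cj_le_iff, inv_inv, cj_normalizer]
        exact hX
      · have h2 := cj_mono g⁻¹ hXn
        rwa [cj_normalizer, cj_normalizer, cj_inv_cj] at h2
      · rw [← kk_eq h hH.le]
        have h2 := cj_mono g⁻¹ hKX
        rwa [kk_cj, cj_inv_cj] at h2
      · rw [← kk_eq h hH.le, ← hk, kk_cj,
          ← relIndex_cj g⁻¹ (cj g (kk (cjs (vv (S : Subgroup G))) H)) X, cj_inv_cj]
    rw [kk_cj, kk_eq h hH.le]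
    rwa [cj_le_iff, inv_inv] at h1
  · refine ⟨H, cjs_self H, vv (S : Subgroup G), cjs_self _, hH.le, fun X hX hNH hNV => ?_⟩
    by_contra hX1
    obtain ⟨x, hx, hxL⟩ := hH.x
    exact hxL (le_LL_of_le h ⟨X, hX, hX1, rfl⟩ hNV (hNH (centralizer_le_normalizer _ hx)))

theorem false_of_xh (h : ESit S) (o : Pre (S : Subgroup G) V z) {H : Subgroup G} (hH : XH S V H) :
    False := Count.false_of_wpts (wpts h o hH)

/-! ### The end -/

/-- `|V| ≤ |H| |C_V(e)|` if `[V, e] ≤ H`. -/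
theorem card_le {H : Subgroup G} {e : G} (he : e ∈ LL (S : Subgroup G))
    (hc : ∀ v ∈ vv (S : Subgroup G), e * v * e⁻¹ * v⁻¹ ∈ H) :
    Nat.card (vv (S : Subgroup G)) ≤
      Nat.card H * Nat.card (vv (S : Subgroup G) ⊓ centralizer ({e} : Set G) : Subgroup G) := by
  let f : vv (S : Subgroup G) →* G := MonoidHom.mk' (fun v => e * v * e⁻¹ * (v : G)⁻¹) (by
    rintro ⟨v, hv⟩ ⟨w, hw⟩
    change e * (v * w) * e⁻¹ * (v * w)⁻¹ = (e * v * e⁻¹ * v⁻¹) * (e * w * e⁻¹ * w⁻¹)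
    have h1 := vv_comm (conj_mem_vv he hw) (inv_mem hv)
    have h2 := vv_comm (inv_mem hv) (inv_mem hw)
    calc e * (v * w) * e⁻¹ * (v * w)⁻¹ = (e * v * e⁻¹) * (e * w * e⁻¹) * (w⁻¹ * v⁻¹) := by group
      _ = (e * v * e⁻¹) * (e * w * e⁻¹) * (v⁻¹ * w⁻¹) := by rw [h2]
      _ = (e * v * e⁻¹) * (e * w * e⁻¹ * v⁻¹) * w⁻¹ := by group
      _ = (e * v * e⁻¹) * (v⁻¹ * (e * w * e⁻¹)) * w⁻¹ := by rw [h1]
      _ = (e * v * e⁻¹ * v⁻¹) * (e * w * e⁻¹ * w⁻¹) := by group)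
  have h1 : Nat.card f.ker * f.ker.index = Nat.card (vv (S : Subgroup G)) := f.ker.card_mul_index
  rw [Subgroup.index_ker] at h1
  have h2 : Nat.card f.range ≤ Nat.card H := by
    refine Subgroup.card_le_of_le ?_
    rintro _ ⟨⟨v, hv⟩, rfl⟩
    exact hc v hv
  have h3 : Nat.card f.ker ≤
      Nat.card (vv (S : Subgroup G) ⊓ centralizer ({e} : Set G) : Subgroup G) := by
    have h4 : Nat.card f.ker = Nat.card (f.ker.map (vv (S : Subgroup G)).subtype) :=
      (Nat.card_congr (f.ker.equivMapOfInjective _ (subtype_injective _)).toEquiv)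
    rw [h4]
    refine Subgroup.card_le_of_le ?_
    rintro _ ⟨⟨v, hv⟩, hk, rfl⟩
    refine mem_inf.2 ⟨hv, ?_⟩
    rw [mem_centralizer_singleton_iff]
    have h5 : e * v * e⁻¹ * v⁻¹ = 1 := hk
    exact (Four.conj_eq_iff_comm.1 (mul_inv_eq_one.1 h5)).symm
  rw [← h1, mul_comm]
  exact Nat.mul_le_mul h2 h3

/-- **Case (X) is impossible.** -/
theorem false_of_x (h : ESit S) (o : XIn (S : Subgroup G) V z) : False := by
  have p : Pre (S : Subgroup G) V z := o.toPre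
  obtain ⟨P, hP, hPC, hPL⟩ := Hyper.exists_minPar h
  have hz : ∀ c ∈ P, c ∈ centralizer ({z} : Set G) := fun c hc => by
    rw [mem_centralizer_singleton_iff]
    exact (mem_centralizer_iff.1 (hPC hc) z p.z_mem).symm
  obtain ⟨x, hxP, hxo, hxL, hxgen, hzH, hHV, hcl, E, hES, hE, hEH, hcard, hquad⟩ :=
    Quad.hyper_quad h hP hPC hPL (fun c hc v hv w hw => uc h p (vv_le_o2 h p) (hz c hc) hv hw)
  obtain ⟨H, hHdef⟩ : ∃ H, H = hh (S : Subgroup G) x := ⟨_, rfl⟩
  rw [← hHdef] at hzH hHV hcl hEH hcard hquad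
  have hHle : H ≤ vv (S : Subgroup G) := hHdef ▸ inf_le_left
  have hzz : z ∈ H := hzH p.z_mem
  have hinf : ∀ i, H ⊓ V i = ⊥ := by
    intro i
    rw [eq_bot_iff]
    rintro u ⟨hu, hui⟩
    rw [mem_bot]
    by_contra hu1
    exact hHV (le_antisymm hHle ((vv_le_cl h p hui hu1).trans (hcl u hu hu1)))
  have hV16 := card_vv p
  have h1 := card_mul H (V 0) hHle (V_le p 0)
  rw [hinf 0, card_bot, mul_one, p.card] at h1
  have h2 : Nat.card (H ⊔ V 0 : Subgroup G) ≤ 16 := by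
    rw [← hV16]
    exact Subgroup.card_le_of_le (sup_le hHle (V_le p 0))
  have hHd : Nat.card H ∣ 16 := by
    rw [← hV16]
    exact Subgroup.card_dvd_of_le hHle
  have hHne : Nat.card H ≠ 1 := by
    intro h0
    rw [Subgroup.card_eq_one] at h0
    rw [h0, mem_bot] at hzz
    exact p.z_ne hzz
  have he : (centralizer (vv (S : Subgroup G) : Set G)).relIndex E ≤ 4 :=
    (relIndex_le_of_le_right hES (Count.rne _ _)).trans o.idx
  by_cases h4 : Nat.card H = 4
  · refine false_of_xh h p (H := H) ⟨hHle, h4, hinf, ?_, x, ?_, hxL⟩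
    · intro s hs
      refine mem_normalizer_of_cj_le ?_
      rintro _ ⟨v, hv, rfl⟩
      exact conj_line h o hHle hzz hinf hs hv
    · rw [mem_centralizer_iff]
      intro v hv
      rw [hHdef] at hv
      exact (Hyper.mem_hh.1 hv).2.symm
  · have h2' : Nat.card H = 2 := by
      have h5 : Nat.card H ≤ 4 := by omega
      have h6 : 0 < Nat.card H := Nat.card_pos
      have h7 : Nat.card H ≠ 3 := by
        intro h0
        rw [h0] at hHd
        omega
      omega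
    obtain ⟨D, hD⟩ : ∃ D, D = Quad.dd (vv (S : Subgroup G)) E H := ⟨_, rfl⟩
    rw [← hD, h2', hV16] at hquad
    have hDV : D ≤ vv (S : Subgroup G) := by
      rw [hD, Quad.dd, closure_le]
      exact fun v hv => hv.1
    have h5 : 16 ≤ Nat.card D := by
      by_contra h6
      push Not at h6
      have h7 : 2 * (centralizer (vv (S : Subgroup G) : Set G)).relIndex E * 2 * Nat.card D ≤
          2 * 4 * 2 * 15 := by
        refine Nat.mul_le_mul (Nat.mul_le_mul_right _ (Nat.mul_le_mul_left _ he)) (by omega)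
      omega
    have h6 : D = vv (S : Subgroup G) := Subgroup.eq_of_le_of_card_ge hDV (by rw [hV16]; exact h5)
    have h7 : ¬ E ≤ centralizer (vv (S : Subgroup G) : Set G) := by
      intro h0
      rw [← relIndex_eq_one] at h0
      rw [h0, h2', hV16] at hcard
      omega
    obtain ⟨e, heE, hec⟩ := SetLike.not_le_iff_exists.1 h7
    have h8 := card_le (S := S) (H := H) (h.le_LL (hES heE)) (by
      intro v hv
      rw [← h6, hD, Quad.mem_dd (fun v hv w hw => vv_comm hv hw) hHle] at hv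
      exact hv.2 e heE)
    have h9 := o.ntv e (hES heE) hec
    rw [h2', hV16] at h8
    omega

end Cfsg.Agent.MinSimple.EmptyE.XFalse
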