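import Cfsg.Agent.MinSimple.EmptySix

/-!
# The case (Empty), Theorem E: setting and closedness

Source: helper41's Theorem E (team board P21, row 4821), with the intrinsic closure of helper361.

`V = vv S = ⟨Ω₁(Z(S))^{N(J)}⟩`, `L = LL S = N_G(V)`, `C = C_G(Ω₁(Z(S)))`.  `cl S u = C_V(⟨J^{C_G(u)}⟩)` is the
intersection of the `C_V(A')`, `A'` a conjugate of a member of `AA S` contained in `C_G(u)`.

* `ESit S` : the setting (characteristic 2 type, solvable 2-locals, C2, (Empty));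
* `ESit.inf_centralizer_le` : `C_V(T) ≤ cl u` for a Sylow 2-subgroup `T` of `C_L(u)`;
* `cl_le_centralizer` : `cl u` centralises every conjugate `A'` of a member of `AA S` centralising `u`;
* `centralizer_le_of_cl_eq` : `C_G(u) ≤ L` if `cl u = V`.
-/

set_option autoImplicit false

namespace Cfsg.Agent.MinSimple.EmptyE.Closed

open Subgroup Cfsg Cfsg.Agent.ZN Cfsg.Agent.ZN.ChoiceBase Cfsg.Agent.ZN.ChoiceSit
open Cfsg.Agent.MinSimple.EmptyTI Cfsg.Agent.MinSimple.EmptySix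
open Cfsg.Agent.MinSimple.MinParabolic (IsMinPar)
open Cfsg.Agent.PLocal.ThompsonJ

universe u

variable {G : Type u} [Group G]

/-- The setting of Theorem E: `G` of characteristic 2 type with solvable 2-local subgroups, no 2-local
subgroup contains all 2-local subgroups over the Sylow 2-subgroup `S`, case (Empty). -/
structure ESit (S : Sylow 2 G) : Prop where
  char2 : IsCharacteristicTwoType G
  solv : ∀ N : Subgroup G, IsTwoLocal N → Group.IsSolvable N
  nu : ∀ M : Subgroup G, IsTwoLocal M → (S : Subgroup G) ≤ M →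
    ∃ X : Subgroup G, IsTwoLocal X ∧ (S : Subgroup G) ≤ X ∧ ¬ X ≤ M
  empty : EmptyTI.IsEmpty (S : Subgroup G)

/-- `L = N_G(V)` -/
abbrev LL (S : Subgroup G) : Subgroup G := normalizer (vv S : Set G)

/-- `C = C_G(Ω₁(Z(S)))` -/
abbrev CC (S : Subgroup G) : Subgroup G := centralizer (zc S : Set G)

/-! ### General facts on `AA`, `vv` -/

section General

variable [Finite G] {S : Sylow 2 G}

theorem vv_comm {x y : G} (hx : x ∈ vv (S : Subgroup G)) (hy : y ∈ vv (S : Subgroup G)) :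
    x * y = y * x := zj_comm' (vv_le_zj _ hx) (vv_le_zj _ hy)

theorem vv_sq {x : G} (hx : x ∈ vv (S : Subgroup G)) : x ^ 2 = 1 :=
  (mem_zj.1 (vv_le_zj _ hx)).2.1

theorem vv_mul_self {x : G} (hx : x ∈ vv (S : Subgroup G)) : x * x = 1 := by
  rw [← pow_two, vv_sq hx]

theorem vv_inv {x : G} (hx : x ∈ vv (S : Subgroup G)) : x⁻¹ = x :=
  inv_eq_of_mul_eq_one_left (vv_mul_self hx)

theorem isPGroup_vv : IsPGroup 2 (vv (S : Subgroup G)) := (isPGroup_zj S.isPGroup').to_le (vv_le_zj _)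

theorem vv_le_jj : vv (S : Subgroup G) ≤ jj (S : Subgroup G) := (vv_le_zj _).trans (zj_le_jj _)

theorem vv_le : vv (S : Subgroup G) ≤ (S : Subgroup G) := vv_le_jj.trans (ChoiceBase.jj_le _)

theorem jj_le_centralizer_vv : jj (S : Subgroup G) ≤ centralizer (vv (S : Subgroup G) : Set G) := by
  intro j hj
  rw [mem_centralizer_iff]
  intro v hv
  exact ((mem_zj.1 (vv_le_zj _ hv)).2.2 j hj).symm

theorem vv_isElementaryAbelian : IsElementaryAbelian 2 (vv (S : Subgroup G)) :=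
  isElementaryAbelian_iff.2 ⟨fun _ ha _ hb => vv_comm ha hb, fun _ ha => vv_sq ha⟩

theorem bau_le_centralizer_vv : bau (S : Subgroup G) ≤ centralizer (vv (S : Subgroup G) : Set G) := by
  intro j hj
  rw [mem_centralizer_iff]
  intro v hv
  exact (mem_bau.1 hj).2 v (vv_le_zj _ hv)

/-- `mm T ≤ mm S` for every 2-subgroup `T`. -/
theorem mm_le (S : Sylow 2 G) {T : Subgroup G} (hT : IsPGroup 2 T) : mm T ≤ mm (S : Subgroup G) := by
  obtain ⟨S', hS'⟩ := hT.exists_le_sylow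
  obtain ⟨g, hg⟩ := MulAction.exists_smul_eq G S S'
  have hg2 : (S' : Subgroup G) = cj g (S : Subgroup G) := by
    rw [← hg, Sylow.coe_subgroup_smul]
    rfl
  have hmm : mm (S' : Subgroup G) = mm (S : Subgroup G) := by rw [hg2, mm_cj]
  exact (mm_mono hS').trans hmm.le

/-- An elementary abelian 2-group has order at most `mm S`. -/
theorem card_le_mm' (S : Sylow 2 G) {A : Subgroup G} (hA : IsElementaryAbelian 2 A) :
    Nat.card A ≤ mm (S : Subgroup G) := by
  have hp : IsPGroup 2 A := by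
    intro a
    exact ⟨1, Subtype.ext (by simpa using hA.2 a a.2)⟩
  exact (card_le_mm hA le_rfl).trans (mm_le S hp)

/-- A conjugate of a member of `AA S` centralising `u ∈ Z_J` lies in `⟨J^{C_G(u)}⟩`. -/
theorem cj_le_jy {u : G} (hu : u ∈ zj (S : Subgroup G)) {A : Subgroup G}
    (hA : A ∈ AA (S : Subgroup G)) {g : G} (hg : cj g A ≤ centralizer ({u} : Set G)) :
    cj g A ≤ jy (S : Subgroup G) u := by
  have hpA : IsPGroup 2 A := S.isPGroup'.to_le hA.2.1
  obtain ⟨T₁, hT₁, hAT⟩ := exists_syl (isPGroup_cj g hpA) hg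
  obtain ⟨T₀, hT₀, hJT⟩ := exists_syl (S.isPGroup'.to_le (ChoiceBase.jj_le _)) (jj_le_centralizer hu)
  obtain ⟨x, hx, rfl⟩ := syl_conj hT₀ hT₁
  have h0 : jj T₀ = jj (S : Subgroup G) := EmptyTI.jj_eq S hT₀.2.1 hJT
  have h1 : cj g A ≤ jj (cj x T₀) := by
    refine le_jj (mem_AA_iff.2 ⟨isElementaryAbelian_cj g hA.1, hAT, ?_⟩)
    rw [mm_cj, card_cj, ← mm_eq hA]
    exact mm_le S hT₀.2.1
  rw [jj_cj, h0] at h1
  exact h1.trans (cj_le_jcl hx)

end General

/-! ### The closure -/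

/-- `cl u = C_V(⟨J^{C_G(u)}⟩)` -/
def cl (S : Subgroup G) (u : G) : Subgroup G := vv S ⊓ centralizer ((jy S u : Subgroup G) : Set G)

section Cl

variable [Finite G] {S : Sylow 2 G} {u w g : G}

omit [Finite G] in
theorem cl_le (S : Subgroup G) (u : G) : cl S u ≤ vv S := inf_le_left

omit [Finite G] in
theorem mem_cl {S : Subgroup G} {u x : G} : x ∈ cl S u ↔ x ∈ vv S ∧ ∀ j ∈ jy S u, j * x = x * j := by
  rw [cl, mem_inf, mem_centralizer_iff]
  rfl

theorem cl_eq (S : Sylow 2 G) (u : G) :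
    cl (S : Subgroup G) u = vv (S : Subgroup G) ⊓ iy (S : Subgroup G) u := by
  rw [cl, iy, icl, ← inf_assoc, inf_eq_left.2 (vv_le_zj (S : Subgroup G))]

theorem self_mem_cl (hu : u ∈ vv (S : Subgroup G)) : u ∈ cl (S : Subgroup G) u := by
  rw [cl_eq]
  exact ⟨hu, mem_iy (vv_le_zj _ hu)⟩

theorem cl_le_cl (hu : u ∈ vv (S : Subgroup G)) (hw : w ∈ cl (S : Subgroup G) u) :
    cl (S : Subgroup G) w ≤ cl (S : Subgroup G) u := by
  rw [cl_eq] at hw
  rw [cl_eq, cl_eq]
  exact inf_le_inf_left _ (iy_le_iy (vv_le_zj _ hu) hw.2)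

theorem cj_vv (hg : g ∈ LL (S : Subgroup G)) : cj g (vv (S : Subgroup G)) = vv (S : Subgroup G) :=
  cj_eq_of_mem_normalizer hg

omit [Finite G] in
theorem conj_mem_vv {S : Subgroup G} {g u : G} (hg : g ∈ LL S) (hu : u ∈ vv S) :
    g * u * g⁻¹ ∈ vv S := (mem_normalizer_iff.1 hg u).1 hu

theorem cj_cl (hg : g ∈ LL (S : Subgroup G)) (hu : u ∈ vv (S : Subgroup G)) :
    cj g (cl (S : Subgroup G) u) = cl (S : Subgroup G) (g * u * g⁻¹) := by
  rw [cl_eq, cl_eq, cj_inf, cj_vv hg, cj_iy (vv_le_zj _ hu) (vv_le_zj _ (conj_mem_vv hg hu))]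

/-- `cl u` centralises every conjugate of a member of `AA S` that centralises `u`. -/
theorem cl_le_centralizer (hu : u ∈ vv (S : Subgroup G)) {A : Subgroup G}
    (hA : A ∈ AA (S : Subgroup G)) (hg : cj g A ≤ centralizer ({u} : Set G)) :
    cl (S : Subgroup G) u ≤ centralizer ((cj g A : Subgroup G) : Set G) :=
  inf_le_right.trans (centralizer_le (cj_le_jy (vv_le_zj _ hu) hA hg))

/-- `C_V(A')` is closed. -/
theorem cl_le_inf_centralizer (hu : u ∈ vv (S : Subgroup G)) {A : Subgroup G}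
    (hA : A ∈ AA (S : Subgroup G)) (hg : u ∈ centralizer ((cj g A : Subgroup G) : Set G)) :
    cl (S : Subgroup G) u ≤ vv (S : Subgroup G) ⊓ centralizer ((cj g A : Subgroup G) : Set G) := by
  refine le_inf (cl_le _ _) (cl_le_centralizer hu hA fun x hx => ?_)
  rw [mem_centralizer_singleton_iff]
  exact mem_centralizer_iff.1 hg x hx

end Cl

/-! ### The setting -/

namespace ESit

variable [Finite G] {S : Sylow 2 G}

omit [Finite G] in
theorem ne_bot [Finite G] (h : ESit S) : (S : Subgroup G) ≠ ⊥ := fun h0 => by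
  have hf : Fact (Nat.Prime 2) := ⟨Nat.prime_two⟩
  have h1 := S.not_dvd_index
  rw [h0, index_bot] at h1
  exact h1 h.char2.1.two_dvd

theorem zc_ne_bot (h : ESit S) : zc (S : Subgroup G) ≠ ⊥ := Basic.zc_ne_bot S.isPGroup' h.ne_bot

theorem vv_ne_bot (h : ESit S) : vv (S : Subgroup G) ≠ ⊥ := fun h0 =>
  h.zc_ne_bot (le_bot_iff.1 ((zc_le_vv _).trans h0.le))

theorem isTwoLocal_LL (h : ESit S) : IsTwoLocal (LL (S : Subgroup G)) :=
  ⟨_, isPGroup_vv, h.vv_ne_bot, rfl⟩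

theorem normalizer_le_LL (_h : ESit S) :
    normalizer (jj (S : Subgroup G) : Set G) ≤ LL (S : Subgroup G) := normalizer_jj_le_vv _

theorem le_normalizer_jj (_h : ESit S) :
    (S : Subgroup G) ≤ normalizer (jj (S : Subgroup G) : Set G) :=
  le_normalizer.trans (Basic.normalizer_le_normalizer_jj _)

theorem le_LL (h : ESit S) : (S : Subgroup G) ≤ LL (S : Subgroup G) :=
  h.le_normalizer_jj.trans h.normalizer_le_LL

theorem normalizer_self_le (h : ESit S) :
    normalizer ((S : Subgroup G) : Set G) ≤ LL (S : Subgroup G) :=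
  (Basic.normalizer_le_normalizer_jj _).trans h.normalizer_le_LL

omit [Finite G] in
theorem le_CC (_h : ESit S) : (S : Subgroup G) ≤ CC (S : Subgroup G) :=
  VModule.le_centralizer_zc _

theorem centralizer_vv_le_LL (_h : ESit S) :
    centralizer (vv (S : Subgroup G) : Set G) ≤ LL (S : Subgroup G) := centralizer_le_normalizer _

omit [Finite G] in
theorem centralizer_vv_le_CC (_h : ESit S) :
    centralizer (vv (S : Subgroup G) : Set G) ≤ CC (S : Subgroup G) :=
  centralizer_le (zc_le_vv _)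

/-- `J` centralises `⟨Ω₁(Z(S))^X⟩` for every 2-local `X ≥ S`. -/
theorem zl_le_icl (h : ESit S) {X : Subgroup G} (hX : IsTwoLocal X) (hSX : (S : Subgroup G) ≤ X) :
    zl (S : Subgroup G) X ≤ icl (S : Subgroup G) X :=
  EmptyTI.zl_le_icl h.empty hX ((ChoiceBase.bau_le _).trans hSX) (syl_of_le hSX) (ChoiceBase.bau_le _)

theorem jcl_le_centralizer (h : ESit S) {X : Subgroup G} (hX : IsTwoLocal X)
    (hSX : (S : Subgroup G) ≤ X) :
    jcl (jj (S : Subgroup G)) X ≤ centralizer (zl (S : Subgroup G) X : Set G) := by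
  intro x hx
  rw [mem_centralizer_iff]
  intro y hy
  exact (icl_comm (h.zl_le_icl hX hSX hy) hx).symm

/-- `X = C_X(Ω₁(Z(S))) N_X(J)` for a 2-local `X ≥ S`. -/
theorem frattini (h : ESit S) {X : Subgroup G} (hX : IsTwoLocal X) (hSX : (S : Subgroup G) ≤ X) :
    X ≤ (X ⊓ CC (S : Subgroup G)) ⊔ (X ⊓ normalizer (jj (S : Subgroup G) : Set G)) := by
  refine (frattini_jcl S ((ChoiceBase.jj_le _).trans hSX)).trans (sup_le_sup_right ?_ _)
  refine le_inf (jcl_le_self ((ChoiceBase.jj_le _).trans hSX)) ?_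
  exact (h.jcl_le_centralizer hX hSX).trans (centralizer_le (VModule.zc_le_zl _ _))

/-- `C_G(Ω₁(Z(S)))` and `N_G(J)` lie in no common 2-local subgroup. -/
theorem not_local (h : ESit S) {X : Subgroup G} (hX : IsTwoLocal X) (hC : CC (S : Subgroup G) ≤ X)
    (hN : normalizer (jj (S : Subgroup G) : Set G) ≤ X) : False := by
  obtain ⟨Y, hY, hSY, hYX⟩ := h.nu X hX (h.le_CC.trans hC)
  exact hYX ((h.frattini hY hSY).trans
    (sup_le (inf_le_right.trans hC) (inf_le_right.trans hN)))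

theorem not_CC_le (h : ESit S) : ¬ CC (S : Subgroup G) ≤ LL (S : Subgroup G) := fun hC =>
  h.not_local h.isTwoLocal_LL hC h.normalizer_le_LL

/-- `C_V(S) = Ω₁(Z(S))` -/
theorem mem_zc_of_comm (_h : ESit S) {v : G} (hv : v ∈ vv (S : Subgroup G))
    (hc : ∀ s ∈ (S : Subgroup G), s * v = v * s) : v ∈ zc (S : Subgroup G) :=
  ChoiceBase.mem_zc.2 ⟨vv_le hv, vv_sq hv, hc⟩

/-- `C_V(L) = 1` -/
theorem eq_one_of_comm (h : ESit S) {v : G} (hv : v ∈ vv (S : Subgroup G))
    (hc : ∀ s ∈ LL (S : Subgroup G), s * v = v * s) : v = 1 := by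
  by_contra hv1
  have h1 := h.mem_zc_of_comm hv fun s hs => hc s (h.le_LL hs)
  refine h.not_local (isTwoLocal_centralizer (vv_le_zj _ hv) hv1) ?_ ?_
  · intro x hx
    rw [mem_centralizer_singleton_iff]
    exact (mem_centralizer_iff.1 hx v h1).symm
  · intro x hx
    rw [mem_centralizer_singleton_iff]
    exact hc x (h.normalizer_le_LL hx)

theorem zc_ne_vv (h : ESit S) : zc (S : Subgroup G) ≠ vv (S : Subgroup G) := fun h0 =>
  h.not_CC_le (by
    refine le_trans ?_ h.centralizer_vv_le_LL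
    rw [CC, h0])

/-- A Sylow 2-subgroup over `B(S)` of `C_G(u)`, `u ∈ V`, lies in `L`. -/
theorem exists_syl_centralizer (_h : ESit S) {u : G} (hu : u ∈ vv (S : Subgroup G)) :
    ∃ T : Subgroup G, Syl T (centralizer ({u} : Set G)) ∧ bau (S : Subgroup G) ≤ T ∧
      T ≤ normalizer (jj (S : Subgroup G) : Set G) ∧ T ≤ LL (S : Subgroup G) := by
  obtain ⟨T, hT, hBT⟩ := exists_syl (S.isPGroup'.to_le (ChoiceBase.bau_le _))
    (EmptyTI.bau_le_centralizer (vv_le_zj _ hu))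
  have h1 := EmptyTI.le_normalizer_jj S hT.2.1 ((ChoiceBase.jj_le_bau _).trans hBT)
  exact ⟨T, hT, hBT, h1, h1.trans (normalizer_jj_le_vv _)⟩

/-- `C_V(T) ≤ cl u` for a Sylow 2-subgroup `T` of `C_L(u)`, `1 ≠ u ∈ V`. -/
theorem inf_centralizer_le (h : ESit S) {u : G} (hu : u ∈ vv (S : Subgroup G)) (hu1 : u ≠ 1)
    {T : Subgroup G} (hT : Syl T (LL (S : Subgroup G) ⊓ centralizer ({u} : Set G))) :
    vv (S : Subgroup G) ⊓ centralizer (T : Set G) ≤ cl (S : Subgroup G) u := by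
  obtain ⟨T₀, hT₀, hBT, hTJ, hTL⟩ := h.exists_syl_centralizer hu
  have hT₀' : Syl T₀ (LL (S : Subgroup G) ⊓ centralizer ({u} : Set G)) :=
    ⟨le_inf hTL hT₀.1, hT₀.2.1, fun Q hQ hQ2 hTQ => hT₀.2.2 Q (hQ.trans inf_le_right) hQ2 hTQ⟩
  obtain ⟨c, hc, rfl⟩ := syl_conj hT₀' hT
  have hVT : vv (S : Subgroup G) ≤ T₀ := vv_le_jj.trans ((ChoiceBase.jj_le_bau _).trans hBT)
  rintro v ⟨hv, hvT⟩
  refine mem_cl.2 ⟨hv, ?_⟩
  have hc1 : c⁻¹ * v * c ∈ vv (S : Subgroup G) := by
    have := conj_mem_vv (inv_mem hc.1) hv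
    rwa [inv_inv] at this
  have h1 : c⁻¹ * v * c ∈ zc T₀ := by
    refine ChoiceBase.mem_zc.2 ⟨hVT hc1, vv_sq hc1, fun t ht => ?_⟩
    have h2 := mem_centralizer_iff.1 hvT (c * t * c⁻¹) ⟨t, ht, rfl⟩
    calc t * (c⁻¹ * v * c) = c⁻¹ * ((c * t * c⁻¹) * v) * c := by group
      _ = c⁻¹ * (v * (c * t * c⁻¹)) * c := by rw [h2]
      _ = c⁻¹ * v * c * t := by group
  have h3 := EmptyTI.zl_le_icl h.empty (isTwoLocal_centralizer (vv_le_zj _ hu) hu1)
    (EmptyTI.bau_le_centralizer (vv_le_zj _ hu)) hT₀ hBT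
  have h4 : v ∈ zl T₀ (centralizer ({u} : Set G)) := by
    have h5 := VModule.le_normalizer_zl T₀ (centralizer ({u} : Set G)) hc.2
    have h6 := (mem_normalizer_iff.1 h5 (c⁻¹ * v * c)).1 (VModule.zc_le_zl _ _ h1)
    have e : c * (c⁻¹ * v * c) * c⁻¹ = v := by group
    rwa [e] at h6
  exact fun j hj => icl_comm (h3 h4) hj

/-- `C_G(u) ≤ L` if `cl u = V`. -/
theorem centralizer_le_of_cl_eq (h : ESit S) {u : G} (hu : u ∈ vv (S : Subgroup G))
    (hcl : cl (S : Subgroup G) u = vv (S : Subgroup G)) :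
    centralizer ({u} : Set G) ≤ LL (S : Subgroup G) := by
  refine (frattini_jcl S (EmptyTI.jj_le_centralizer (vv_le_zj _ hu))).trans (sup_le ?_ ?_)
  · refine le_trans ?_ h.centralizer_vv_le_LL
    intro x hx
    rw [mem_centralizer_iff]
    intro v hv
    rw [← hcl] at hv
    exact ((mem_cl.1 hv).2 x hx).symm
  · exact inf_le_right.trans h.normalizer_le_LL

/-- `V = ⟨Ω₁(Z(S))^L⟩` -/
theorem zl_LL (_h : ESit S) : zl (S : Subgroup G) (LL (S : Subgroup G)) = vv (S : Subgroup G) :=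
  zl_normalizer_vv _

/-- If a subgroup `K` contains all `L`-conjugates of `Ω₁(Z(S))` it contains `V`. -/
theorem vv_le_of_forall (h : ESit S) {K : Subgroup G}
    (hK : ∀ g ∈ LL (S : Subgroup G), cj g (zc (S : Subgroup G)) ≤ K) : vv (S : Subgroup G) ≤ K := by
  rw [← h.zl_LL]
  exact iSup_le fun g => hK g g.2

end ESit

end Cfsg.Agent.MinSimple.EmptyE.Closed
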