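import Cfsg.Agent.MinSimple.EmptyE.CountDefs

/-!
# Theorem E, Step 7: the critical pair
-/

set_option autoImplicit false

namespace Cfsg.Agent.MinSimple.EmptyE.CountPair

open Subgroup
open Cfsg.Agent.MinSimple.EmptyE.CountDefs
open Cfsg.Agent.MinSimple.Geo (cj mem_cj conj_mem_cj cj_cj cj_one cj_inv_cj cj_cj_inv cj_mono cj_le_iff cj_le_cj
  cj_eq_of_mem_normalizer mem_normalizer_iff_cj)

universe u

variable {G : Type u} [Group G] {PP BB : Set (Subgroup G)}

theorem le_ww {V Y : Subgroup G} (hV : V ∈ BB) (h : Y ≤ V) : V ≤ ww BB Y := le_sSup ⟨hV, h⟩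

theorem cj_sSup (g : G) (S : Set (Subgroup G)) : cj g (sSup S) = sSup ((cj g) '' S) := by
  apply le_antisymm
  · rw [cj_le_iff]
    refine sSup_le fun X hX => ?_
    rw [← cj_le_cj (g := g), cj_cj_inv]
    exact le_sSup ⟨X, hX, rfl⟩
  · refine sSup_le ?_
    rintro _ ⟨X, hX, rfl⟩
    exact cj_mono (le_sSup hX)

theorem le_centralizer_iff {H K : Subgroup G} :
    H ≤ centralizer (K : Set G) ↔ ∀ a ∈ H, ∀ b ∈ K, a * b = b * a := by
  constructor
  · intro h a ha b hb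
    exact (mem_centralizer_iff.mp (h ha) b hb).symm
  · intro h a ha
    exact mem_centralizer_iff.mpr fun b hb => (h a ha b hb).symm

theorem centralizer_le_normalizer' (H : Subgroup G) :
    centralizer (H : Set G) ≤ normalizer (H : Set G) := by
  intro g hg
  rw [mem_normalizer_iff]
  intro x
  constructor
  · intro hx
    rw [← mem_centralizer_iff.mp hg x hx, mul_inv_cancel_right]
    exact hx
  · intro hx
    have h1 := mem_centralizer_iff.mp hg _ hx
    have h2 : g * x * g⁻¹ = x := by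
      have h3 : g * (g * x * g⁻¹) = g * x := by rw [← h1]; group
      exact mul_left_cancel h3
    rw [h2] at hx; exact hx

theorem cj_ww (h : WPts PP BB) (g : G) (Y : Subgroup G) : cj g (ww BB Y) = ww BB (cj g Y) := by
  rw [ww, ww, cj_sSup]
  congr 1
  ext X
  constructor
  · rintro ⟨V, ⟨hV, hY⟩, rfl⟩
    exact ⟨h.cjB g V hV, cj_mono hY⟩
  · rintro ⟨hX, hY⟩
    exact ⟨cj g⁻¹ X, ⟨h.cjB _ X hX, cj_le_iff.mp hY⟩, cj_cj_inv g X⟩

theorem ww_comm (h : WPts PP BB) {Y : Subgroup G} (hY : Y ∈ PP) :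
    ∀ a ∈ ww BB Y, ∀ b ∈ ww BB Y, a * b = b * a := by
  rw [← le_centralizer_iff]
  refine sSup_le ?_
  rintro V ⟨hV, hYV⟩
  rw [Subgroup.le_centralizer_iff]
  refine sSup_le ?_
  rintro V' ⟨hV', hYV'⟩
  rw [CountPair.le_centralizer_iff]
  exact fun a ha b hb => h.comm Y hY V' hV' V hV hYV' hYV a ha b hb

theorem ww_sq (h : WPts PP BB) {Y : Subgroup G} (hY : Y ∈ PP) : ∀ a ∈ ww BB Y, a * a = 1 := by
  let K : Subgroup G := {
    carrier := {a | a ∈ ww BB Y ∧ a * a = 1}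
    mul_mem' := by
      rintro a b ⟨ha, ha'⟩ ⟨hb, hb'⟩
      refine ⟨mul_mem ha hb, ?_⟩
      calc a * b * (a * b) = a * (b * a) * b := by group
        _ = a * (a * b) * b := by rw [ww_comm h hY a ha b hb]
        _ = (a * a) * (b * b) := by group
        _ = 1 := by rw [ha', hb', one_mul]
    one_mem' := ⟨one_mem _, one_mul _⟩
    inv_mem' := by
      rintro a ⟨ha, ha'⟩
      refine ⟨inv_mem ha, ?_⟩
      rw [← mul_inv_rev, ha', inv_one] }
  have hK : ww BB Y ≤ K := by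
    refine sSup_le ?_
    rintro V ⟨hV, hYV⟩ v hv
    exact ⟨le_ww hV hYV hv, h.sq V hV v hv⟩
  exact fun a ha => (hK ha).2

theorem normalizer_le_ww (h : WPts PP BB) (Y : Subgroup G) :
    normalizer (Y : Set G) ≤ normalizer (ww BB Y : Set G) := by
  intro g hg
  rw [mem_normalizer_iff_cj, cj_ww h, cj_eq_of_mem_normalizer hg]

theorem ww_isPGroup (h : WPts PP BB) {Y : Subgroup G} (hY : Y ∈ PP) : IsPGroup 2 (ww BB Y) := by
  intro a
  refine ⟨1, ?_⟩
  rw [pow_one, pow_two]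
  exact Subtype.ext (ww_sq h hY a a.2)

/-- adjacent or equal points -/
def Adj (PP BB : Set (Subgroup G)) (Y Y' : Subgroup G) : Prop :=
  Y ∈ PP ∧ Y' ∈ PP ∧ (Y = Y' ∨ ∃ V ∈ BB, Y ≤ V ∧ Y' ≤ V)

theorem Adj.symm {Y Y' : Subgroup G} (h : Adj PP BB Y Y') : Adj PP BB Y' Y := by
  obtain ⟨h1, h2, h3⟩ := h
  refine ⟨h2, h1, ?_⟩
  rcases h3 with h3 | ⟨V, hV, h4, h5⟩
  · exact Or.inl h3.symm
  · exact Or.inr ⟨V, hV, h5, h4⟩

theorem Adj.cj (h : WPts PP BB) {Y Y' : Subgroup G} (ha : Adj PP BB Y Y') (g : G) :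
    Adj PP BB (cj g Y) (cj g Y') := by
  obtain ⟨h1, h2, h3⟩ := ha
  refine ⟨h.cjP g _ h1, h.cjP g _ h2, ?_⟩
  rcases h3 with h3 | ⟨V, hV, h4, h5⟩
  · exact Or.inl (by rw [h3])
  · exact Or.inr ⟨_, h.cjB g V hV, cj_mono h4, cj_mono h5⟩

/-- distance at most `n` -/
def Reach (PP BB : Set (Subgroup G)) : ℕ → Subgroup G → Subgroup G → Prop
  | 0, Y, Y' => Y ∈ PP ∧ Y = Y'
  | n + 1, Y, Y' => ∃ P, Reach PP BB n Y P ∧ Adj PP BB P Y'

theorem Reach.mem {n : ℕ} {Y Y' : Subgroup G} (h : Reach PP BB n Y Y') : Y ∈ PP ∧ Y' ∈ PP := by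
  induction n generalizing Y' with
  | zero => exact ⟨h.1, h.2 ▸ h.1⟩
  | succ n ih =>
    obtain ⟨P, hP, hA⟩ := h
    exact ⟨(ih hP).1, hA.2.1⟩

theorem Reach.succ {n : ℕ} {Y Y' : Subgroup G} (h : Reach PP BB n Y Y') : Reach PP BB (n + 1) Y Y' :=
  ⟨Y', h, h.mem.2, h.mem.2, Or.inl rfl⟩

theorem Reach.mono {n m : ℕ} (hnm : n ≤ m) {Y Y' : Subgroup G} (h : Reach PP BB n Y Y') :
    Reach PP BB m Y Y' := by
  induction hnm with
  | refl => exact h
  | step _ ih => exact ih.succ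

theorem Reach.cons {n : ℕ} {Y P Y' : Subgroup G} (hA : Adj PP BB Y P) (h : Reach PP BB n P Y') :
    Reach PP BB (n + 1) Y Y' := by
  induction n generalizing Y' with
  | zero =>
    obtain ⟨_, rfl⟩ := h
    exact ⟨Y, ⟨hA.1, rfl⟩, hA⟩
  | succ n ih =>
    obtain ⟨Q, hQ, hA'⟩ := h
    exact ⟨Q, ih hQ, hA'⟩

theorem Reach.symm {n : ℕ} {Y Y' : Subgroup G} (h : Reach PP BB n Y Y') : Reach PP BB n Y' Y := by
  induction n generalizing Y' with
  | zero => exact ⟨h.2 ▸ h.1, h.2.symm⟩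
  | succ n ih =>
    obtain ⟨P, hP, hA⟩ := h
    exact Reach.cons hA.symm (ih hP)

theorem Reach.cj (h : WPts PP BB) {n : ℕ} {Y Y' : Subgroup G} (hR : Reach PP BB n Y Y') (g : G) :
    Reach PP BB n (cj g Y) (cj g Y') := by
  induction n generalizing Y' with
  | zero => exact ⟨h.cjP g _ hR.1, by rw [hR.2]⟩
  | succ n ih =>
    obtain ⟨P, hP, hA⟩ := hR
    exact ⟨_, ih hP, hA.cj h g⟩

/-- the groups `W_d` with `d(d, c) ≤ k` -/
def tt (PP BB : Set (Subgroup G)) (k : ℕ) (c : Subgroup G) : Subgroup G :=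
  sSup {X | ∃ d, Reach PP BB k d c ∧ X = ww BB d}

theorem normalizer_le_tt (h : WPts PP BB) (k : ℕ) (c : Subgroup G) :
    normalizer (c : Set G) ≤ normalizer (tt PP BB k c : Set G) := by
  intro g hg
  rw [mem_normalizer_iff_cj, tt, cj_sSup]
  have hc := cj_eq_of_mem_normalizer hg
  have hc' := cj_eq_of_mem_normalizer (inv_mem hg)
  congr 1
  ext X
  constructor
  · rintro ⟨_, ⟨d, hd, rfl⟩, rfl⟩
    refine ⟨cj g d, ?_, cj_ww h g d⟩
    have := hd.cj h g
    rwa [hc] at this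
  · rintro ⟨d, hd, rfl⟩
    refine ⟨ww BB (cj g⁻¹ d), ⟨_, ?_, rfl⟩, ?_⟩
    · have := hd.cj h g⁻¹
      rwa [hc'] at this
    · rw [cj_ww h, cj_cj_inv]

/-- commuting up to distance `n` -/
def Cm (PP BB : Set (Subgroup G)) (n : ℕ) : Prop :=
  ∀ Y Y', Reach PP BB n Y Y' → ∀ w ∈ ww BB Y, ∀ w' ∈ ww BB Y', w * w' = w' * w

theorem tt_isPGroup (h : WPts PP BB) {n : ℕ} (hn : Cm PP BB n) {k : ℕ} (hk : k ≤ n) {c : Subgroup G}
    (hc : c ∈ PP) : IsPGroup 2 (tt PP BB k c) := by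
  induction k generalizing c with
  | zero =>
    have : tt PP BB 0 c = ww BB c := by
      apply le_antisymm
      · refine sSup_le ?_
        rintro _ ⟨d, hd, rfl⟩
        rw [hd.2]
      · exact le_sSup ⟨c, ⟨hc, rfl⟩, rfl⟩
    rw [this]; exact ww_isPGroup h hc
  | succ k ih =>
    set T := tt PP BB (k + 1) c with hT
    have h1 : ∀ P, Adj PP BB P c → tt PP BB k P ≤ T := by
      intro P hP
      refine sSup_le ?_
      rintro _ ⟨d, hd, rfl⟩
      exact le_sSup ⟨d, ⟨P, hd, hP⟩, rfl⟩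
    have h2 : ∀ P, Adj PP BB P c → T ≤ normalizer (tt PP BB k P : Set G) := by
      intro P hP
      refine sSup_le ?_
      rintro _ ⟨d, hd, rfl⟩
      refine le_trans ?_ (normalizer_le_tt h k P)
      have h3 := hn d c (hd.mono hk)
      rcases hP.2.2 with e | ⟨V, hV, hPV, hcV⟩
      · rw [e]
        by_cases hne : ∃ V ∈ BB, c ≤ V
        · obtain ⟨V, hV, hcV⟩ := hne
          refine le_trans ?_ (centralizer_le_normalizer' c)
          rw [CountPair.le_centralizer_iff]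
          exact fun a ha b hb => h3 a ha b (le_ww hV hcV (hcV hb))
        · -- `c` lies in no block: then `d = c`
          have h4 : ∀ j, ∀ d, Reach PP BB j d c → d = c := by
            intro j
            induction j with
            | zero => exact fun d hd => hd.2
            | succ j ih =>
              rintro d ⟨Q, hQ, hA⟩
              rcases hA.2.2 with e | ⟨V, hV, h5, h6⟩
              · subst e; exact ih d hQ
              · exact absurd ⟨V, hV, h6⟩ hne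
          have h5 := h4 _ d hd
          subst h5
          have h6 : ww BB d = ⊥ := by
            rw [eq_bot_iff]
            refine sSup_le ?_
            rintro V ⟨hV, hdV⟩
            exact absurd ⟨V, hV, hdV⟩ hne
          rw [h6]; exact bot_le
      · refine le_trans ?_ (centralizer_le_normalizer' P)
        rw [CountPair.le_centralizer_iff]
        exact fun a ha b hb => h3 a ha b (le_ww hV hcV (hPV hb))
    have h7 : T ≤ ZN.o2 T := by
      refine sSup_le ?_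
      rintro _ ⟨d, ⟨P, hd, hP⟩, rfl⟩
      refine le_trans (le_sSup ⟨d, hd, rfl⟩ : ww BB d ≤ tt PP BB k P) ?_
      exact ZN.Block.le_o2 (ih (by omega) hP.1) (h1 P hP) (h2 P hP)
    exact (ZN.Block.o2_isPGroup T).to_le h7

/-- one side of the critical pair; `V` is the last block on the path from `b` to `b'` -/
structure Side (PP BB : Set (Subgroup G)) (b b' V : Subgroup G) : Prop where
  hb : b ∈ PP
  hb' : b' ∈ PP
  hV : V ∈ BB
  le : b' ≤ V
  comm : ∀ w ∈ ww BB b, ∀ v ∈ V, w * v = v * w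
  T : ∃ T : Subgroup G, IsPGroup 2 T ∧ ww BB b ≤ T ∧ centralizer (V : Set G) ≤ normalizer (T : Set G)

theorem side_of (h : WPts PP BB) {n : ℕ} (hn : Cm PP BB n) {b c b' V : Subgroup G}
    (hbc : Reach PP BB n b c) (hb' : b' ∈ PP) (hV : V ∈ BB) (hcV : c ≤ V) (hbV : b' ≤ V) :
    Side PP BB b b' V where
  hb := hbc.mem.1
  hb' := hb'
  hV := hV
  le := hbV
  comm := fun w hw v hv => hn b c hbc w hw v (le_ww hV hcV hv)
  T := by
    refine ⟨tt PP BB n c, tt_isPGroup h hn le_rfl hbc.mem.2, le_sSup ⟨b, hbc, rfl⟩, ?_⟩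
    refine le_trans (centralizer_le hcV) ?_
    exact (centralizer_le_normalizer' c).trans (normalizer_le_tt h n c)

/-- the critical pair -/
theorem exists_pair (h : WPts PP BB) :
    ∃ b b' V V' : Subgroup G, Side PP BB b b' V ∧ Side PP BB b' b V' ∧
      ∃ w ∈ ww BB b, ∃ w' ∈ ww BB b', w * w' ≠ w' * w := by
  classical
  by_cases hall : ∀ n, Cm PP BB n
  · exfalso
    obtain ⟨Y, hY, V, hV, hYV, hcore⟩ := h.core
    set T : Subgroup G := sSup {X | ∃ d, (∃ n, Reach PP BB n d Y) ∧ X = ww BB d} with hT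
    have hadd : ∀ m n : ℕ, ∀ A B C : Subgroup G, Reach PP BB m A B → Reach PP BB n B C →
        Reach PP BB (m + n) A C := by
      intro m n
      induction n with
      | zero => rintro A B C hAB ⟨_, rfl⟩; exact hAB
      | succ n ih =>
        rintro A B C hAB ⟨P, hP, hA⟩
        exact ⟨P, ih A B P hAB hP, hA⟩
    have hcomm : ∀ a ∈ T, ∀ b ∈ T, a * b = b * a := by
      rw [← CountPair.le_centralizer_iff]
      refine sSup_le ?_
      rintro _ ⟨d, ⟨n, hd⟩, rfl⟩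
      rw [Subgroup.le_centralizer_iff]
      refine sSup_le ?_
      rintro _ ⟨d', ⟨n', hd'⟩, rfl⟩
      rw [CountPair.le_centralizer_iff]
      exact hall _ d' d (hadd _ _ _ _ _ hd' hd.symm)
    have hTp : IsPGroup 2 T := by
      have h7 : T ≤ ZN.o2 T := by
        refine sSup_le ?_
        rintro _ ⟨d, ⟨n, hd⟩, rfl⟩
        refine ZN.Block.le_o2 (ww_isPGroup h hd.mem.1) (le_sSup ⟨d, ⟨n, hd⟩, rfl⟩) ?_
        refine le_trans ?_ (centralizer_le_normalizer' _)
        rw [CountPair.le_centralizer_iff]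
        exact fun a ha b hb => hcomm a ha b ((le_sSup ⟨d, ⟨n, hd⟩, rfl⟩ : ww BB d ≤ T) hb)
      exact (ZN.Block.o2_isPGroup T).to_le h7
    have hgen : ∀ g : G, (∃ n, Reach PP BB n (cj g Y) Y) → g ∈ normalizer (T : Set G) := by
      rintro g ⟨n, hg⟩
      have hg' : Reach PP BB n (cj g⁻¹ Y) Y := by
        have := (hg.cj h g⁻¹).symm
        rwa [cj_inv_cj] at this
      rw [mem_normalizer_iff_cj, hT, cj_sSup]
      congr 1
      ext X
      constructor
      · rintro ⟨_, ⟨d, ⟨k, hd⟩, rfl⟩, rfl⟩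
        exact ⟨cj g d, ⟨_, hadd _ _ _ _ _ (hd.cj h g) hg⟩, cj_ww h g d⟩
      · rintro ⟨d, ⟨k, hd⟩, rfl⟩
        refine ⟨ww BB (cj g⁻¹ d), ⟨_, ⟨_, hadd _ _ _ _ _ (hd.cj h g⁻¹) hg'⟩, rfl⟩, ?_⟩
        rw [cj_ww h, cj_cj_inv]
    have h0 := hcore T hTp (fun g hg => hgen g ⟨0, by rw [cj_eq_of_mem_normalizer hg]; exact ⟨hY, rfl⟩⟩)
      (fun g hg => hgen g ⟨1, cj g Y, ⟨h.cjP g Y hY, rfl⟩, h.cjP g Y hY, hY,
        Or.inr ⟨V, hV, by
          have := cj_mono (g := g) hYV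
          rwa [cj_eq_of_mem_normalizer hg] at this, hYV⟩⟩)
    have h1 : Y ≤ T := hYV.trans ((le_ww hV hYV).trans (le_sSup ⟨Y, ⟨0, hY, rfl⟩, rfl⟩))
    have h2 := h.cardP Y hY
    rw [h0, le_bot_iff] at h1
    rw [h1, Subgroup.card_bot] at h2
    omega
  · push Not at hall
    obtain ⟨n, hn, hmin⟩ : ∃ n, ¬ Cm PP BB n ∧ ∀ m < n, Cm PP BB m :=
      ⟨Nat.find hall, Nat.find_spec hall, fun m hm => by
        have := Nat.find_min hall hm
        push Not at this
        exact this⟩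
    rcases n with _ | n
    · exfalso
      apply hn
      rintro Y Y' ⟨hY, rfl⟩
      exact ww_comm h hY
    · have hCm := hmin n (by omega)
      unfold Cm at hn
      push Not at hn
      obtain ⟨b, b', hbb, w, hw, w', hw', hne⟩ := hn
      obtain ⟨c, hbc, hcb⟩ := hbb
      rcases hcb.2.2 with e | ⟨V, hV, hcV, hbV⟩
      · exfalso
        subst e
        exact hne (hCm b c hbc w hw w' hw')
      · obtain ⟨c', hbc', hcb'⟩ := (show Reach PP BB (n + 1) b b' from ⟨c, hbc, hcb⟩).symm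
        rcases hcb'.2.2 with e | ⟨V', hV', hcV', hbV'⟩
        · exfalso
          subst e
          exact hne (hCm _ _ hbc' w' hw' w hw).symm
        · exact ⟨b, b', V, V', side_of h hCm hbc hcb.2.1 hV hcV hbV,
            side_of h hCm hbc' hcb'.2.1 hV' hcV' hbV', w, hw, w', hw', hne⟩

end Cfsg.Agent.MinSimple.EmptyE.CountPair
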