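import Cfsg.Agent.MinSimple.EmptySix
import Cfsg.Agent.MinSimple.Geo

/-!
# The case "(Empty)": the exit `|V| = 4`

`S` a Sylow 2-subgroup, `IsEmpty S`, `I` the TI-subgroup (`TIData S I`), `1 ≠ z ∈ Ω₁(Z(S))`.

* `zl_le` : `⟨Ω₁(Z(S))^X⟩ ≤ I` for every 2-local subgroup `X ≥ C_G(z)`.
* `not_local` : if `N_G(V)` is transitive on `V#`, `z ∈ V ≰ I`, then no 2-local subgroup contains
  `C_G(z)` and `N_G(V)`.
* `geo` : if `Ω₁(Z(S)) = ⟨z⟩`, `|V| = 4`, `z ∈ V`, `S ≤ N_G(V) ≰ C_G(z)`, `V ≰ I`, then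
  `Geo S V z`.  For `|I| = 2` the condition `V ≰ I` is automatic (`geo_of_card_I`).
-/

set_option autoImplicit false

namespace Cfsg.Agent.MinSimple.EmptyE.Glue

open Subgroup Cfsg Cfsg.Agent.ZN Cfsg.Agent.ZN.ChoiceBase Cfsg.Agent.ZN.ChoiceSit
open Cfsg.Agent.MinSimple.EmptyTI Cfsg.Agent.MinSimple.EmptySix

universe u

/-! ### Groups of order 4 -/

section Four

variable {G : Type u} [Group G] {V : Subgroup G} {z w : G}

theorem four (hV : Nat.card V = 4) (hz : z ∈ V) (hw : w ∈ V) (hz1 : z ≠ 1) (hw1 : w ≠ 1)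
    (hzw : z ≠ w) (hww : w * w = 1) {v : G} (hv : v ∈ V) :
    v = 1 ∨ v = z ∨ v = w ∨ v = z * w := by
  have hfin : Finite V := Nat.finite_of_card_ne_zero (by rw [hV]; norm_num)
  have hpq1 : z * w ≠ 1 := fun e => hzw (by
    rw [mul_eq_one_iff_eq_inv.mp e, Geo.inv_eq_self hww])
  have hpqp : z * w ≠ z := fun e => hw1 (by simpa using e)
  have hpqq : z * w ≠ w := fun e => hz1 (by simpa using e)
  have h1 : ({1, z, w, z * w} : Set G) ⊆ (V : Set G) := by
    rintro x (rfl | rfl | rfl | rfl)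
    · exact V.one_mem
    · exact hz
    · exact hw
    · exact V.mul_mem hz hw
  have h2 : ({1, z, w, z * w} : Set G).ncard = 4 := by
    rw [Set.ncard_insert_of_notMem, Set.ncard_insert_of_notMem, Set.ncard_pair (Ne.symm hpqq)]
    · rintro (e | e)
      · exact hzw e
      · exact hpqp e.symm
    · rintro (e | e | e)
      · exact hz1 e.symm
      · exact hw1 e.symm
      · exact hpq1 e.symm
  have h3 : (V : Set G).ncard = 4 := by rw [← hV]; rfl
  have h4 : ({1, z, w, z * w} : Set G) = V := Set.eq_of_subset_of_ncard_le h1 (by rw [h2, h3])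
    (Set.toFinite _)
  have : v ∈ ({1, z, w, z * w} : Set G) := by rw [h4]; exact hv
  simpa using this

/-- The fusion in a four-group `V ∋ z`, normalized by `T ≤ C_G(z)`, `C_V(T) = ⟨z⟩`,
`N_G(V) ≰ C_G(z)`. -/
theorem fusion {T : Subgroup G} (hT : T ≤ normalizer (V : Set G))
    (hTz : ∀ t ∈ T, t * z = z * t) (hz : z ∈ V) (hz1 : z ≠ 1) (hzz : z * z = 1)
    (hV : Nat.card V = 4) {g : G} (hg : g ∈ normalizer (V : Set G)) (hgz : g * z * g⁻¹ ≠ z)
    (hfix : ∀ v ∈ V, (∀ t ∈ T, t * v = v * t) → v = 1 ∨ v = z) :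
    (∀ v ∈ V, v * v = 1) ∧ ∀ v ∈ V, v ≠ 1 → ∃ g ∈ normalizer (V : Set G), g * z * g⁻¹ = v := by
  obtain ⟨w, hw⟩ : ∃ w, w = g * z * g⁻¹ := ⟨_, rfl⟩
  have hwV : w ∈ V := by rw [hw]; exact (mem_normalizer_iff.1 hg z).1 hz
  have hw1 : w ≠ 1 := by
    rintro h0
    apply hz1
    have e : z = g⁻¹ * w * g := by rw [hw]; group
    rw [e, h0]; group
  have hww : w * w = 1 := by
    have e : w * w = g * (z * z) * g⁻¹ := by rw [hw]; group
    rw [e, hzz]; group
  have hwz : w ≠ z := by rw [hw]; exact hgz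
  have hall : ∀ v ∈ V, v = 1 ∨ v = z ∨ v = w ∨ v = z * w := fun v hv =>
    four hV hz hwV hz1 hw1 hwz.symm hww hv
  obtain ⟨t, ht, htw⟩ : ∃ t ∈ T, t * w ≠ w * t := by
    by_contra hcon
    push Not at hcon
    rcases hfix w hwV hcon with h0 | h0
    · exact hw1 h0
    · exact hwz h0
  have htV : t * w * t⁻¹ ∈ V := (mem_normalizer_iff.1 (hT ht) w).1 hwV
  have htz : t * w * t⁻¹ = z * w := by
    rcases hall _ htV with h0 | h0 | h0 | h0
    · exfalso
      apply hw1
      have e : w = t⁻¹ * (t * w * t⁻¹) * t := by group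
      rw [e, h0]; group
    · exfalso
      apply hwz
      have e : w = t⁻¹ * (t * w * t⁻¹) * t := by group
      rw [e, h0, mul_assoc, ← hTz t ht]; group
    · exfalso
      apply htw
      calc t * w = t * w * t⁻¹ * t := by group
        _ = w * t := by rw [h0]
    · exact h0
  have hzw2 : z * w * (z * w) = 1 := by
    rw [← htz]
    have e : t * w * t⁻¹ * (t * w * t⁻¹) = t * (w * w) * t⁻¹ := by group
    rw [e, hww]; group
  refine ⟨fun v hv => ?_, fun v hv hv1 => ?_⟩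
  · rcases hall v hv with rfl | rfl | rfl | rfl
    · exact one_mul _
    · exact hzz
    · exact hww
    · exact hzw2
  · rcases hall v hv with rfl | rfl | rfl | rfl
    · exact absurd rfl hv1
    · exact ⟨1, one_mem _, by group⟩
    · exact ⟨g, hg, hw.symm⟩
    · refine ⟨t * g, mul_mem (hT ht) hg, ?_⟩
      rw [← htz, hw]; group

end Four

variable {G : Type u} [Group G] {S : Sylow 2 G} {I V : Subgroup G} {z : G}

theorem le_centralizer_of_mem_zc (hz : z ∈ zc (S : Subgroup G)) :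
    (S : Subgroup G) ≤ centralizer ({z} : Set G) := fun x hx => by
  rw [mem_centralizer_singleton_iff]
  exact (ChoiceBase.mem_zc.1 hz).2.2 x hx

variable [Finite G]

/-- `⟨Ω₁(Z(S))^X⟩ ≤ I` for `X ≥ C_G(z)`. -/
theorem zl_le (h : TIData (S : Subgroup G) I) (hE : EmptyTI.IsEmpty (S : Subgroup G))
    (hz : z ∈ zc (S : Subgroup G)) (hz1 : z ≠ 1) {X : Subgroup G} (hX : IsTwoLocal X)
    (hCX : centralizer ({z} : Set G) ≤ X) : zl (S : Subgroup G) X ≤ I := by
  have hSX : (S : Subgroup G) ≤ X := (le_centralizer_of_mem_zc hz).trans hCX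
  refine (zl_le_icl hE hX ((ChoiceBase.bau_le _).trans hSX) (syl_of_le hSX) (ChoiceBase.bau_le _)).trans ?_
  have h1 : icl (S : Subgroup G) X ≤ icl (S : Subgroup G) (centralizer ({z} : Set G)) :=
    inf_le_inf_left _ (centralizer_le (jcl_mono hCX))
  refine h1.trans ?_
  rw [icl_eq, h.jcl_eq z (h.zc_le hz) hz1, ← h.eq]

/-- No 2-local subgroup contains `C_G(z)` and `N_G(V)`. -/
theorem not_local (h : TIData (S : Subgroup G) I) (hE : EmptyTI.IsEmpty (S : Subgroup G))
    (hz : z ∈ zc (S : Subgroup G)) (hz1 : z ≠ 1)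
    (hV : ∀ v ∈ V, v ≠ 1 → ∃ g ∈ normalizer (V : Set G), g * z * g⁻¹ = v) (hVI : ¬ V ≤ I)
    {X : Subgroup G} (hX : IsTwoLocal X) (hCX : centralizer ({z} : Set G) ≤ X)
    (hVX : normalizer (V : Set G) ≤ X) : False := by
  refine hVI fun v hv => ?_
  by_cases hv1 : v = 1
  · rw [hv1]; exact one_mem _
  obtain ⟨g, hg, rfl⟩ := hV v hv hv1
  refine zl_le h hE hz hz1 hX hCX ?_
  exact le_iSup (fun g : X => (zc (S : Subgroup G)).map (MulAut.conj (g : G)).toMonoidHom)
    ⟨g, hVX hg⟩ ⟨z, hz, rfl⟩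

/-- **The exit `|V| = 4`.** -/
theorem geo (hc : IsCharacteristicTwoType G)
    (hL : ∀ N : Subgroup G, IsTwoLocal N → Group.IsSolvable N)
    (h : TIData (S : Subgroup G) I) (hE : EmptyTI.IsEmpty (S : Subgroup G))
    (hz : z ∈ zc (S : Subgroup G)) (hz1 : z ≠ 1) (hZ : ∀ x ∈ zc (S : Subgroup G), x = 1 ∨ x = z)
    (hV : Nat.card V = 4) (hzV : z ∈ V) (hSV : (S : Subgroup G) ≤ normalizer (V : Set G)) {g : G}
    (hg : g ∈ normalizer (V : Set G)) (hgz : g * z * g⁻¹ ≠ z) (hVI : ¬ V ≤ I) :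
    Geo.Geo (S : Subgroup G) V z := by
  have hf : Fact (Nat.Prime 2) := ⟨Nat.prime_two⟩
  have hV2 : IsPGroup 2 V := IsPGroup.of_card (n := 2) (by rw [hV]; norm_num)
  have hVS : V ≤ (S : Subgroup G) := by
    have h1 : IsPGroup 2 ((S : Subgroup G) ⊔ V : Subgroup G) :=
      S.isPGroup'.to_sup_of_normal_right' hV2 hSV
    rw [← S.is_maximal' h1 le_sup_left]
    exact le_sup_right
  have hzm := ChoiceBase.mem_zc.1 hz
  obtain ⟨h1, h2⟩ := fusion hSV hzm.2.2 hzV hz1 (by rw [← pow_two]; exact hzm.2.1) hV hg hgz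
    (fun v hv hvc => by
      by_cases hv2 : v ^ 2 = 1
      · exact hZ v (ChoiceBase.mem_zc.2 ⟨hVS hv, hv2, fun y hy => hvc y hy⟩)
      · exfalso
        -- `V` cyclic: `z` is its only involution
        have h3 : g * z * g⁻¹ ∈ V := (mem_normalizer_iff.1 hg z).1 hzV
        have h4 : (g * z * g⁻¹) * (g * z * g⁻¹) = 1 := by
          have e : (g * z * g⁻¹) * (g * z * g⁻¹) = g * z ^ 2 * g⁻¹ := by rw [pow_two]; group
          rw [e, hzm.2.1]; group
        have h5 : g * z * g⁻¹ ≠ 1 := fun h0 => hz1 (by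
          have e : z = g⁻¹ * (g * z * g⁻¹) * g := by group
          rw [e, h0]; group)
        have hcm : z * (g * z * g⁻¹) = (g * z * g⁻¹) * z := by
          exact (hzm.2.2 _ (hVS h3)).symm
        rcases four hV hzV h3 hz1 h5 (Ne.symm hgz) h4 hv with h0 | h0 | h0 | h0
        · exact hv2 (by rw [h0, one_pow])
        · exact hv2 (by rw [h0, hzm.2.1])
        · exact hv2 (by rw [h0, pow_two, h4])
        · exact hv2 (by
            rw [h0, pow_two]
            calc z * (g * z * g⁻¹) * (z * (g * z * g⁻¹))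
                = z * ((g * z * g⁻¹) * z) * (g * z * g⁻¹) := by group
              _ = z * (z * (g * z * g⁻¹)) * (g * z * g⁻¹) := by rw [hcm]
              _ = z ^ 2 * ((g * z * g⁻¹) * (g * z * g⁻¹)) := by rw [pow_two]; group
              _ = 1 := by rw [h4, hzm.2.1, one_mul]))
  have hSz := le_centralizer_of_mem_zc hz
  exact
    { charTwo := hc
      solv := hL
      two := S.isPGroup'
      T_le := hSz
      T_syl := Basic.not_dvd_relIndex S hSz
      V_le := hVS
      T_norm := hSV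
      T_syl' := Basic.not_dvd_relIndex S hSV
      card_V := hV
      sq := h1
      z_mem := hzV
      z_ne := hz1
      trans := h2
      soc := fun t ht htt hts => hZ t (ChoiceBase.mem_zc.2 ⟨ht, by rw [pow_two, htt], hts⟩)
      core := fun U hU hVU hzU => by
        by_contra hU0
        exact not_local h hE hz hz1 h2 hVI ⟨U, hU, hU0, rfl⟩ hzU hVU }

/-- The case `|I| = 2`. -/
theorem geo_of_card_I (hc : IsCharacteristicTwoType G)
    (hL : ∀ N : Subgroup G, IsTwoLocal N → Group.IsSolvable N)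
    (h : TIData (S : Subgroup G) I) (hE : EmptyTI.IsEmpty (S : Subgroup G))
    (hz : z ∈ zc (S : Subgroup G)) (hz1 : z ≠ 1) (hI : Nat.card I ≤ 2)
    (hV : Nat.card V = 4) (hzV : z ∈ V) (hSV : (S : Subgroup G) ≤ normalizer (V : Set G)) {g : G}
    (hg : g ∈ normalizer (V : Set G)) (hgz : g * z * g⁻¹ ≠ z) :
    Geo.Geo (S : Subgroup G) V z := by
  have hzI : zpowers z ≤ I := by
    rw [zpowers_le]
    exact h.zc_le hz
  have h2 : Nat.card (zpowers z) = 2 := by
    rw [Nat.card_zpowers]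
    exact orderOf_eq_prime (ChoiceBase.mem_zc.1 hz).2.1 hz1
  have h3 : zpowers z = I := eq_of_le_of_card_ge hzI (by rw [h2]; exact hI)
  refine geo hc hL h hE hz hz1 (fun x hx => ?_) hV hzV hSV hg hgz fun h0 => ?_
  · have h4 := h.zc_le hx
    rw [← h3] at h4
    exact (Geo.mem_zpowers_iff_of_mul_self (by rw [← pow_two]; exact (ChoiceBase.mem_zc.1 hz).2.1)).1 h4
  · have h4 := Subgroup.card_le_of_le h0
    omega

end Cfsg.Agent.MinSimple.EmptyE.Glue
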