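import Cfsg.Agent.MinSimple.EmptyE.Hyper
import Cfsg.Agent.MinSimple.EmptyE.Glue
import Cfsg.Agent.Lib.NormalAbelian

/-!
# The case (Empty), Theorem E: step 4 (closed hyperplanes)

`four` : if `V` has a closed hyperplane `H` (`cl u ≤ H` for `1 ≠ u ∈ H`) then there is a four-group
`l ≤ V` with `Geo S l z`.
-/

set_option autoImplicit false

namespace Cfsg.Agent.MinSimple.EmptyE.Four

open Subgroup Cfsg Cfsg.Agent.ZN Cfsg.Agent.ZN.ChoiceBase Cfsg.Agent.ZN.ChoiceSit
open Cfsg.Agent.MinSimple.EmptyTI Cfsg.Agent.MinSimple.EmptySix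
open Cfsg.Agent.MinSimple.EmptyE.Closed

universe u

variable {G : Type u} [Group G] [Finite G] {S : Sylow 2 G} {H I : Subgroup G}

/-- A closed hyperplane of `V` does not coexist with a subgroup `l` of `V` of order `> 2` such that
`Ω₁(Z(S)) ≤ cl v` for all `1 ≠ v ∈ l`. -/
theorem false_of_le (h : ESit S) (hH : H ≤ vv (S : Subgroup G))
    (hcard : Nat.card (vv (S : Subgroup G)) = 2 * Nat.card H)
    (hcl : ∀ u ∈ H, u ≠ 1 → cl (S : Subgroup G) u ≤ H) {l : Subgroup G}
    (hl : l ≤ vv (S : Subgroup G)) (hl3 : 2 < Nat.card l)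
    (hlz : ∀ v ∈ l, v ≠ 1 → zc (S : Subgroup G) ≤ cl (S : Subgroup G) v) : False := by
  have h1 : vv (S : Subgroup G) ≤ H := by
    refine h.vv_le_of_forall fun g hg => ?_
    have h2 : cj g l ⊓ H ≠ ⊥ := by
      intro h0
      have h3 : H ≤ centralizer ((cj g l : Subgroup G) : Set G) := by
        intro x hx
        rw [mem_centralizer_iff]
        rintro _ ⟨v, hv, rfl⟩
        exact vv_comm (conj_mem_vv hg (hl hv)) (hH hx)
      have h4 := PLocal.ElemAbSup.card_sup_mul_card_inf h3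
      rw [h0, card_bot, mul_one, card_cj] at h4
      have h5 : Nat.card (cj g l ⊔ H : Subgroup G) ≤ Nat.card (vv (S : Subgroup G)) := by
        refine Subgroup.card_le_of_le (sup_le ?_ hH)
        rw [← cj_vv hg]
        exact cj_mono g hl
      have h6 : 0 < Nat.card H := Nat.card_pos
      rw [h4, hcard] at h5
      have h7 := Nat.le_of_mul_le_mul_right h5 h6
      omega
    obtain ⟨u, hu, hu1⟩ := (cj g l ⊓ H).bot_or_exists_ne_one.resolve_left h2
    obtain ⟨⟨v, hv, rfl⟩, huH⟩ := hu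
    have hv1 : v ≠ 1 := by
      rintro rfl
      exact hu1 (map_one _)
    refine le_trans ?_ (hcl _ huH hu1)
    change _ ≤ cl (S : Subgroup G) (g * v * g⁻¹)
    rw [← cj_cl hg (hl hv)]
    exact cj_mono g (hlz v hv hv1)
  have h2 := Subgroup.card_le_of_le h1
  have h3 : 0 < Nat.card H := Nat.card_pos
  omega

/-- `cl u = V ∩ I` for `1 ≠ u ∈ I`. -/
theorem cl_eq_inf (hI : TIData (S : Subgroup G) I) {u : G} (hu : u ∈ I) (hu1 : u ≠ 1) :
    cl (S : Subgroup G) u = vv (S : Subgroup G) ⊓ I := by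
  have h1 : cl (S : Subgroup G) u = vv (S : Subgroup G) ⊓
      centralizer ((jcl (jj (S : Subgroup G)) (normalizer (I : Set G)) : Subgroup G) : Set G) := by
    rw [← hI.jcl_eq u hu hu1]
    rfl
  rw [h1]
  ext x
  constructor
  · rintro ⟨hx, hxc⟩
    refine ⟨hx, ?_⟩
    change x ∈ I
    rw [hI.eq, ChoiceBase.mem_zc]
    exact ⟨(vv_le_jj.trans (le_jcl _ _)) hx, vv_sq hx, fun y hy => mem_centralizer_iff.1 hxc y hy⟩
  · rintro ⟨hx, hxI⟩
    refine mem_inf.2 ⟨hx, ?_⟩
    change x ∈ I at hxI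
    rw [hI.eq, ChoiceBase.mem_zc] at hxI
    rw [mem_centralizer_iff]
    exact fun y hy => hxI.2.2 y hy

omit [Finite G] in
theorem mem_normalizer_centralizer {T : Subgroup G} {g : G} (hg : g ∈ normalizer (T : Set G)) :
    g ∈ normalizer ((centralizer (T : Set G) : Subgroup G) : Set G) := by
  rw [mem_normalizer_iff_cj, cj_centralizer, cj_eq_of_mem_normalizer hg]

omit [Finite G] in
theorem le_normalizer_of_relIndex {T K : Subgroup G} (hTK : T ≤ K) (h : T.relIndex K = 2) :
    K ≤ normalizer (T : Set G) := by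
  have h1 : (T.subgroupOf K).Normal := normal_of_index_eq_two h
  exact (normal_subgroupOf_iff_le_normalizer hTK).1 h1

/-- A four-group of `V` normal under `S` if `|Ω₁(Z(S))| = 2`. -/
theorem exists_line (h : ESit S) {z : G} (hz : z ∈ zc (S : Subgroup G))
    (hZ : ∀ x ∈ zc (S : Subgroup G), x = 1 ∨ x = z) :
    ∃ w ∈ vv (S : Subgroup G), w ≠ 1 ∧ w ≠ z ∧
      (∀ s ∈ (S : Subgroup G), s * w * s⁻¹ = w ∨ s * w * s⁻¹ = z * w) ∧
      ∃ s ∈ (S : Subgroup G), s * w * s⁻¹ = z * w := by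
  have hf : Fact (Nat.Prime 2) := ⟨Nat.prime_two⟩
  have hnil : Group.IsNilpotent (S : Subgroup G) := S.isPGroup'.isNilpotent
  have hn1 : ((zc (S : Subgroup G)).subgroupOf (S : Subgroup G)).Normal :=
    normal_subgroupOf_of_le_normalizer
      (le_normalizer.trans (VModule.normalizer_le_normalizer_zc _))
  have hn2 : ((vv (S : Subgroup G)).subgroupOf (S : Subgroup G)).Normal :=
    normal_subgroupOf_of_le_normalizer h.le_LL
  obtain ⟨w, hw, hwZ, hwc⟩ := Lib.NormalAbelian.exists_mem_not_mem_central_mod hn1 hn2 (by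
    intro h0
    apply h.zc_ne_vv
    refine le_antisymm (zc_le_vv _) fun v hv => ?_
    exact mem_subgroupOf.1 (h0 (x := ⟨v, vv_le hv⟩) hv))
  have hwV : (w : G) ∈ vv (S : Subgroup G) := hw
  have hwZ' : (w : G) ∉ zc (S : Subgroup G) := hwZ
  have hall : ∀ s ∈ (S : Subgroup G), s * w * s⁻¹ = w ∨ s * w * s⁻¹ = z * w := by
    intro s hs
    have h1 : (w : G) * s * (w : G)⁻¹ * s⁻¹ ∈ zc (S : Subgroup G) := hwc ⟨s, hs⟩
    have h2 : (w : G)⁻¹ = w := vv_inv hwV
    have h3 : z * z = 1 := vv_mul_self (zc_le_vv _ hz)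
    rcases hZ _ h1 with h0 | h0
    · left
      rw [h2] at h0
      have e : s * (w : G) * s⁻¹ = (w : G)⁻¹ * ((w : G) * s * w * s⁻¹) := by group
      rw [e, h0, mul_one, h2]
    · right
      rw [h2] at h0
      have e : s * (w : G) * s⁻¹ = (w : G)⁻¹ * ((w : G) * s * w * s⁻¹) := by group
      rw [e, h0, h2]
      exact vv_comm hwV (zc_le_vv _ hz)
  refine ⟨w, hwV, ?_, ?_, hall, ?_⟩
  · intro h0
    exact hwZ' (h0 ▸ one_mem _)
  · intro h0
    exact hwZ' (h0 ▸ hz)
  · by_contra hcon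
    push Not at hcon
    apply hwZ'
    refine h.mem_zc_of_comm hwV fun s hs => ?_
    have h1 := (hall s hs).resolve_right (hcon s hs)
    calc s * (w : G) = s * w * s⁻¹ * s := by group
      _ = w * s := by rw [h1]

/-- **Step 4 of Theorem E.** -/
theorem four (h : ESit S) (hI : TIData (S : Subgroup G) I) (hH : H ≤ vv (S : Subgroup G))
    (hcard : Nat.card (vv (S : Subgroup G)) = 2 * Nat.card H)
    (hcl : ∀ u ∈ H, u ≠ 1 → cl (S : Subgroup G) u ≤ H) :
    ∃ (l : Subgroup G) (z : G), l ≤ vv (S : Subgroup G) ∧ z ∈ zc (S : Subgroup G) ∧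
      Geo.Geo (S : Subgroup G) l z := by
  have hf : Fact (Nat.Prime 2) := ⟨Nat.prime_two⟩
  obtain ⟨z, hz, hz1⟩ := (zc (S : Subgroup G)).bot_or_exists_ne_one.resolve_left h.zc_ne_bot
  have hzV : z ∈ vv (S : Subgroup G) := zc_le_vv _ hz
  have hzz : z * z = 1 := vv_mul_self hzV
  -- `|V ∩ I| ≤ 2`
  by_cases hVI : 2 < Nat.card (vv (S : Subgroup G) ⊓ I : Subgroup G)
  · exfalso
    refine false_of_le h hH hcard hcl inf_le_left hVI fun v hv hv1 => ?_
    rw [cl_eq_inf hI hv.2 hv1]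
    exact le_inf (zc_le_vv _) hI.zc_le
  have hIV : vv (S : Subgroup G) ⊓ I = zpowers z := by
    symm
    refine eq_of_le_of_card_ge ?_ ?_
    · rw [zpowers_le]
      exact ⟨hzV, hI.zc_le hz⟩
    · rw [Nat.card_zpowers, orderOf_eq_prime (vv_sq hzV) hz1]
      omega
  have hZ : ∀ x ∈ zc (S : Subgroup G), x = 1 ∨ x = z := by
    intro x hx
    have h1 : x ∈ vv (S : Subgroup G) ⊓ I := ⟨zc_le_vv _ hx, hI.zc_le hx⟩
    rw [hIV] at h1
    exact (Geo.mem_zpowers_iff_of_mul_self hzz).1 h1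
  obtain ⟨w, hw, hw1, hwz, hall, s, hs, hsw⟩ := exists_line h hz hZ
  have hww : w * w = 1 := vv_mul_self hw
  have hzw : z * w = w * z := vv_comm hzV hw
  have hzs : ∀ t ∈ (S : Subgroup G), t * z = z * t := (ChoiceBase.mem_zc.1 hz).2.2
  have hzwz : z * w ≠ w := fun e => hz1 (by simpa using e)
  -- `T₀ = C_S(w)`
  obtain ⟨T₀, hT₀⟩ : ∃ T₀ : Subgroup G, T₀ = (S : Subgroup G) ⊓ centralizer ({w} : Set G) :=
    ⟨_, rfl⟩
  have hmT : ∀ t, t ∈ T₀ ↔ t ∈ (S : Subgroup G) ∧ t * w = w * t := fun t => by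
    rw [hT₀, mem_inf, mem_centralizer_singleton_iff]
  have hT₀S : T₀ ≤ (S : Subgroup G) := fun t ht => ((hmT t).1 ht).1
  have hsT₀ : s ∉ T₀ := by
    intro h0
    apply hzwz
    rw [← hsw, ((hmT s).1 h0).2]
    group
  have hsw' : s⁻¹ * w * s = z * w := by
    have h1 : s * (z * w) * s⁻¹ = w := by
      calc s * (z * w) * s⁻¹ = (s * z) * w * s⁻¹ := by group
        _ = z * (s * w * s⁻¹) := by rw [hzs s hs]; group
        _ = w := by rw [hsw, ← mul_assoc, hzz, one_mul]
    calc s⁻¹ * w * s = s⁻¹ * (s * (z * w) * s⁻¹) * s := by rw [h1]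
      _ = z * w := by group
  have hstep : ∀ t ∈ (S : Subgroup G), s⁻¹ * t ∈ T₀ ∨ t ∈ T₀ := by
    intro t ht
    rcases hall t ht with h0 | h0
    · right
      refine (hmT t).2 ⟨ht, ?_⟩
      calc t * w = t * w * t⁻¹ * t := by group
        _ = w * t := by rw [h0]
    · left
      refine (hmT _).2 ⟨mul_mem (inv_mem hs) ht, ?_⟩
      have h1 : s⁻¹ * (z * w) * s = w := by
        rw [← hsw]; group
      calc s⁻¹ * t * w = s⁻¹ * (t * w * t⁻¹) * s * (s⁻¹ * t) := by group
        _ = w * (s⁻¹ * t) := by rw [h0, h1]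
  have hT₀i : T₀.relIndex (S : Subgroup G) = 2 := by
    rw [relIndex_eq_two_iff_exists_notMem_and']
    exact ⟨s⁻¹, inv_mem hs, fun h0 => hsT₀ (by simpa using inv_mem h0), hstep⟩
  have hST₀ : (S : Subgroup G) ≤ normalizer (T₀ : Set G) := le_normalizer_of_relIndex hT₀S hT₀i
  -- `l = C_V(T₀)`
  obtain ⟨l, hl⟩ : ∃ l : Subgroup G, l = vv (S : Subgroup G) ⊓ centralizer (T₀ : Set G) :=
    ⟨_, rfl⟩
  have hml : ∀ v, v ∈ l ↔ v ∈ vv (S : Subgroup G) ∧ ∀ t ∈ T₀, t * v = v * t := fun v => by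
    rw [hl, mem_inf, mem_centralizer_iff]
    rfl
  have hzl : z ∈ l := (hml z).2 ⟨hzV, fun t ht => hzs t (hT₀S ht)⟩
  have hwl : w ∈ l := (hml w).2 ⟨hw, fun t ht => ((hmT t).1 ht).2⟩
  have hnl : ∀ g ∈ LL (S : Subgroup G), g ∈ normalizer (T₀ : Set G) → g ∈ normalizer (l : Set G) := by
    intro g hg hgT
    rw [hl]
    exact inf_normalizer_le_normalizer_inf ⟨hg, mem_normalizer_centralizer hgT⟩
  have hSl : (S : Subgroup G) ≤ normalizer (l : Set G) := fun t ht => hnl t (h.le_LL ht) (hST₀ ht)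
  have hcases : ∀ v ∈ l, v = 1 ∨ v = z ∨ v = w ∨ v = z * w := by
    intro v hv
    obtain ⟨hvV, hvT⟩ := (hml v).1 hv
    have hsv : s * v * s⁻¹ ∈ l := (mem_normalizer_iff.1 (hSl hs) v).1 hv
    obtain ⟨hsvV, hsvT⟩ := (hml _).1 hsv
    have hss : s * s ∈ T₀ := by
      refine (hmT _).2 ⟨mul_mem hs hs, ?_⟩
      have h1 : s * w = z * w * s := by rw [← hsw]; group
      calc s * s * w = s * (s * w) := by group
        _ = (s * z) * w * s := by rw [h1]; group
        _ = z * (s * w) * s := by rw [hzs s hs]; group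
        _ = (z * z) * w * s * s := by rw [h1]; group
        _ = w * (s * s) := by rw [hzz]; group
    have hφ : s * v * s⁻¹ * v ∈ zc (S : Subgroup G) := by
      refine h.mem_zc_of_comm (mul_mem hsvV hvV) ?_
      have h1 : s * (s * v * s⁻¹ * v) * s⁻¹ = s * v * s⁻¹ * v := by
        have h2 : s * s * v = v * (s * s) := hvT _ hss
        calc s * (s * v * s⁻¹ * v) * s⁻¹ = (s * s * v) * s⁻¹ * s⁻¹ * (s * v * s⁻¹) := by group
          _ = v * (s * v * s⁻¹) := by rw [h2]; group
          _ = s * v * s⁻¹ * v := vv_comm hvV hsvV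
      have h3 : ∀ t ∈ T₀, t * (s * v * s⁻¹ * v) = s * v * s⁻¹ * v * t := by
        intro t ht
        rw [← mul_assoc, hsvT t ht, mul_assoc, hvT t ht, ← mul_assoc]
      intro t ht
      rcases hstep t ht with h0 | h0
      · have h4 := h3 _ h0
        have e : t = s * (s⁻¹ * t) := by group
        rw [e]
        calc s * (s⁻¹ * t) * (s * v * s⁻¹ * v) = s * ((s⁻¹ * t) * (s * v * s⁻¹ * v)) := by group
          _ = s * (s * v * s⁻¹ * v) * s⁻¹ * (s * (s⁻¹ * t)) := by rw [h4]; group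
          _ = s * v * s⁻¹ * v * (s * (s⁻¹ * t)) := by rw [h1]
      · exact h3 t h0
    -- elements of `l` commuting with `s` are in `Z`
    have hfix : ∀ f ∈ l, s * f * s⁻¹ = f → f = 1 ∨ f = z := by
      intro f hf hsf
      obtain ⟨hfV, hfT⟩ := (hml f).1 hf
      refine hZ f (h.mem_zc_of_comm hfV fun t ht => ?_)
      rcases hstep t ht with h0 | h0
      · have h4 := hfT _ h0
        have e : t = s * (s⁻¹ * t) := by group
        rw [e]
        calc s * (s⁻¹ * t) * f = s * ((s⁻¹ * t) * f) := by group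
          _ = (s * f * s⁻¹) * (s * (s⁻¹ * t)) := by rw [h4]; group
          _ = f * (s * (s⁻¹ * t)) := by rw [hsf]
      · exact hfT t h0
    have hvi : v⁻¹ = v := vv_inv hvV
    rcases hZ _ hφ with h0 | h0
    · rcases hfix v hv (by rw [mul_eq_one_iff_eq_inv.1 h0, hvi]) with h1 | h1
      · exact Or.inl h1
      · exact Or.inr (Or.inl h1)
    · have h1 : s * (v * w) * s⁻¹ = v * w := by
        have h2 : s * v * s⁻¹ = z * v := by
          rw [eq_mul_inv_of_mul_eq h0, hvi]
        calc s * (v * w) * s⁻¹ = (s * v * s⁻¹) * (s * w * s⁻¹) := by group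
          _ = z * v * (z * w) := by rw [h2, hsw]
          _ = z * (v * z) * w := by group
          _ = z * z * v * w := by rw [vv_comm hvV hzV]; group
          _ = v * w := by rw [hzz, one_mul]
      rcases hfix (v * w) (mul_mem hv hwl) h1 with h2 | h2
      · right; right; left
        rw [mul_eq_one_iff_eq_inv.1 h2, vv_inv hw]
      · right; right; right
        rw [eq_mul_inv_of_mul_eq h2, vv_inv hw]
  have hlcard : Nat.card l = 4 := by
    have h1 : (l : Set G) = {1, z, w, z * w} := by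
      ext v
      constructor
      · intro hv
        simpa using hcases v hv
      · intro hv
        rcases (by simpa using hv : v = 1 ∨ v = z ∨ v = w ∨ v = z * w) with rfl | rfl | rfl | rfl
        · exact one_mem _
        · exact hzl
        · exact hwl
        · exact mul_mem hzl hwl
    have h2 : ({1, z, w, z * w} : Set G).ncard = 4 := by
      have hpq1 : z * w ≠ 1 := fun e => hwz (by
        rw [mul_eq_one_iff_eq_inv.mp e, vv_inv hw])
      have hpqp : z * w ≠ z := fun e => hw1 (by simpa using e)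
      rw [Set.ncard_insert_of_notMem, Set.ncard_insert_of_notMem, Set.ncard_pair (Ne.symm hzwz)]
      · rintro (e | e)
        · exact hwz e.symm
        · exact hpqp e.symm
      · rintro (e | e | e)
        · exact hz1 e.symm
        · exact hw1 e.symm
        · exact hpq1 e.symm
    rw [← h2, ← h1]
    rfl
  have hlI : ¬ l ≤ I := by
    intro h0
    have h1 : l ≤ vv (S : Subgroup G) ⊓ I := le_inf (hl ▸ inf_le_left) h0
    have h2 := Subgroup.card_le_of_le h1
    omega
  -- a Sylow 2-subgroup of `C_L(w)`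
  obtain ⟨T, hT, hT₀T⟩ := exists_syl (X := LL (S : Subgroup G) ⊓ centralizer ({w} : Set G))
    (S.isPGroup'.to_le hT₀S) (fun t ht => mem_inf.2 ⟨h.le_LL (hT₀S ht), by
      rw [mem_centralizer_singleton_iff]
      exact ((hmT t).1 ht).2⟩)
  have hTL : T ≤ LL (S : Subgroup G) := hT.1.trans inf_le_left
  have hTw : ∀ t ∈ T, t * w = w * t := fun t ht =>
    mem_centralizer_singleton_iff.1 (hT.1 ht).2
  obtain ⟨T', hT', hTT'⟩ := exists_syl hT.2.1 hTL
  obtain ⟨g, hg, rfl⟩ := syl_conj (syl_of_le h.le_LL) hT'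
  have hprod : T₀.relIndex T * T.relIndex (cj g (S : Subgroup G)) = 2 := by
    rw [relIndex_mul_relIndex _ _ _ hT₀T hTT']
    have h1 := Hyper.card_mul_relIndex' (hT₀T.trans hTT')
    have h2 := Hyper.card_mul_relIndex' hT₀S
    rw [card_cj, ← h2, hT₀i] at h1
    exact Nat.eq_of_mul_eq_mul_left Nat.card_pos h1
  by_cases hex : ∃ t ∈ T, t * z * t⁻¹ ≠ z
  · -- the exit
    obtain ⟨t, ht, htz⟩ := hex
    have h1 : T₀.relIndex T ≠ 1 := by
      intro h0
      have h2 := hzs t (hT₀S (relIndex_eq_one.1 h0 ht))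
      exact htz (by rw [h2]; group)
    have h2 : T₀.relIndex T = 2 :=
      ((Nat.dvd_prime Nat.prime_two).1 ⟨_, hprod.symm⟩).resolve_left h1
    have h3 := le_normalizer_of_relIndex hT₀T h2
    exact ⟨l, z, hl ▸ inf_le_left, hz, Glue.geo h.char2 h.solv hI h.empty hz hz1 hZ hlcard hzl hSl
      (hnl t (hTL ht) (h3 ht)) htz hlI⟩
  · exfalso
    push Not at hex
    have hTz : ∀ t ∈ T, t * z = z * t := fun t ht => by
      calc t * z = t * z * t⁻¹ * t := by group
        _ = z * t := by rw [hex t ht]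
    have hTT₀ : T ≤ T₀ := by
      by_contra hcon
      have h1 : T₀.relIndex T ≠ 1 := fun h0 => hcon (relIndex_eq_one.1 h0)
      have h2 : T₀.relIndex T = 2 :=
        ((Nat.dvd_prime Nat.prime_two).1 ⟨_, hprod.symm⟩).resolve_left h1
      have h3 : T.relIndex (cj g (S : Subgroup G)) = 1 := by
        rw [h2] at hprod
        omega
      have h4 : cj g (S : Subgroup G) ≤ T := relIndex_eq_one.1 h3
      -- `z, w ∈ C_V(S^g) = Z^g`
      have h5 : ∀ v ∈ vv (S : Subgroup G), (∀ t ∈ T, t * v = v * t) → g⁻¹ * v * g = 1 ∨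
          g⁻¹ * v * g = z := by
        intro v hv hvT
        have hv' : g⁻¹ * v * g ∈ vv (S : Subgroup G) := by
          have := conj_mem_vv (inv_mem hg) hv
          rwa [inv_inv] at this
        refine hZ _ (h.mem_zc_of_comm hv' fun t ht => ?_)
        have h6 := hvT _ (h4 (show g * t * g⁻¹ ∈ cj g (S : Subgroup G) from ⟨t, ht, rfl⟩))
        calc t * (g⁻¹ * v * g) = g⁻¹ * (g * t * g⁻¹ * v) * g := by group
          _ = g⁻¹ * (v * (g * t * g⁻¹)) * g := by rw [h6]
          _ = g⁻¹ * v * g * t := by group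
      have h6 : g⁻¹ * z * g = z := (h5 z hzV hTz).resolve_left fun h0 => hz1 (by
        calc z = g * (g⁻¹ * z * g) * g⁻¹ := by group
          _ = 1 := by rw [h0]; group)
      have h7 : g⁻¹ * w * g = z := (h5 w hw hTw).resolve_left fun h0 => hw1 (by
        calc w = g * (g⁻¹ * w * g) * g⁻¹ := by group
          _ = 1 := by rw [h0]; group)
      apply hwz
      rw [← h6] at h7
      exact mul_left_cancel (mul_right_cancel h7)
    have hTeq : T = T₀ := le_antisymm hTT₀ hT₀T
    have hlw : l ≤ cl (S : Subgroup G) w := by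
      rw [hl, ← hTeq]
      exact h.inf_centralizer_le hw hw1 hT
    have hlzw : l ≤ cl (S : Subgroup G) (z * w) := by
      rw [← hsw, ← cj_cl (h.le_LL hs) hw, ← cj_eq_of_mem_normalizer (hSl hs)]
      exact cj_mono s hlw
    have hZl : zc (S : Subgroup G) ≤ l := by
      intro x hx
      rcases hZ x hx with rfl | rfl
      · exact one_mem _
      · exact hzl
    refine false_of_le h hH hcard hcl (l := l) (hl ▸ inf_le_left) (by omega) fun v hv hv1 => ?_
    rcases hcases v hv with h0 | h0 | h0 | h0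
    · exact absurd h0 hv1
    · rw [h0, cl_eq_inf hI (hI.zc_le hz) hz1]
      exact le_inf (zc_le_vv _) hI.zc_le
    · rw [h0]
      exact hZl.trans hlw
    · rw [h0]
      exact hZl.trans hlzw

/-- Either `Geo S l z` for a four-group `l ≤ V` or `V` has no closed hyperplane. -/
theorem step_four (h : ESit S) :
    (∃ (l : Subgroup G) (z : G), Geo.Geo (S : Subgroup G) l z) ∨
      ∀ H : Subgroup G, H ≤ vv (S : Subgroup G) →
        (∀ u ∈ H, u ≠ 1 → cl (S : Subgroup G) u ≤ H) →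
        Nat.card (vv (S : Subgroup G)) ≠ 2 * Nat.card H := by
  obtain ⟨I, hI⟩ := exists_tiData S h.ne_bot h.empty
  by_cases hex : ∃ H : Subgroup G, H ≤ vv (S : Subgroup G) ∧
      (∀ u ∈ H, u ≠ 1 → cl (S : Subgroup G) u ≤ H) ∧
      Nat.card (vv (S : Subgroup G)) = 2 * Nat.card H
  · left
    obtain ⟨H, hH, hcl, hcard⟩ := hex
    obtain ⟨l, z, -, -, hg⟩ := four h hI hH hcard hcl
    exact ⟨l, z, hg⟩
  · right
    intro H hH hcl hcard
    exact hex ⟨H, hH, hcl, hcard⟩

/-- `|V| = 4` leads to the exit. -/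
theorem of_card_four (h : ESit S) (hV : Nat.card (vv (S : Subgroup G)) = 4) :
    ∃ (l : Subgroup G) (z : G), Geo.Geo (S : Subgroup G) l z := by
  obtain ⟨P, hP, hPC, hPL⟩ := Hyper.exists_minPar h
  obtain ⟨x, -, -, -, -, hZ, hne, hcl, -⟩ := Hyper.hyper h hP hPC hPL
  rcases step_four h with h1 | h1
  · exact h1
  exfalso
  refine h1 (Hyper.hh (S : Subgroup G) x) inf_le_left hcl ?_
  rw [hV]
  have h2 : Nat.card (Hyper.hh (S : Subgroup G) x) ∣ 4 := by
    rw [← hV]
    exact card_dvd_of_le inf_le_left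
  have h3 : Nat.card (Hyper.hh (S : Subgroup G) x) ≠ 1 := by
    intro h0
    rw [card_eq_one] at h0
    exact h.zc_ne_bot (le_bot_iff.1 (hZ.trans h0.le))
  have h4 : Nat.card (Hyper.hh (S : Subgroup G) x) ≠ 4 := by
    intro h0
    exact hne (eq_of_le_of_card_ge inf_le_left (by rw [h0]; exact hV.le))
  have h5 : Nat.card (Hyper.hh (S : Subgroup G) x) ≤ 4 := Nat.le_of_dvd (by norm_num) h2
  have h6 : 0 < Nat.card (Hyper.hh (S : Subgroup G) x) := Nat.card_pos
  interval_cases hc : Nat.card (Hyper.hh (S : Subgroup G) x) <;> omega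

end Cfsg.Agent.MinSimple.EmptyE.Four
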