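import Cfsg.Agent.MinSimple.Basic
import Cfsg.Agent.Lib.CoprimeHyperplane
import Cfsg.Agent.ZN.ChoiceBase

/-!
# Theorem E, Step 2: inverted elements outside a normal subgroup

* `exists_inverted_notMem` : `A` elementary abelian acting on `R` of odd order, `b ∈ A` with `[R, b] ≰ D`, `D` normal:
  a hyperplane `B` of `A` and `y ∈ C_R(B)`, `y ∉ D`, inverted by `b`;
* `exists_odd_lift` : lifts of elements of odd order have powers of odd order which are lifts;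
* `exists_lift` : the same modulo a normal 2-subgroup `Q` of `P`, with `x ∈ ⟨A, A^x⟩`.
-/

set_option autoImplicit false

namespace Cfsg.Agent.MinSimple.EmptyE.Lift

open Subgroup Cfsg Cfsg.Agent.ZN Cfsg.Agent.ZN.ChoiceBase

theorem exists_inverted_notMem {Γ : Type*} [Group Γ] [Finite Γ] {A R D : Subgroup Γ} [D.Normal]
    (hA : IsElementaryAbelian 2 A) (hR : Odd (Nat.card R)) (hAR : A ≤ normalizer (R : Set Γ))
    {b : Γ} (hb : b ∈ A) (hbR : ∃ r ∈ R, b * r * b⁻¹ * r⁻¹ ∉ D) :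
    ∃ B ≤ A, B.relIndex A = 2 ∧ b ∉ B ∧ ∃ y ∈ R, y ∉ D ∧ (∀ a ∈ B, a * y = y * a) ∧
      b * y * b⁻¹ = y⁻¹ := by
  have hf : Fact (Nat.Prime 2) := ⟨Nat.prime_two⟩
  obtain ⟨r₀, hr₀, hbr₀⟩ := hbR
  have hA1 : A ≠ ⊥ := by
    rintro rfl
    rw [mem_bot] at hb
    apply hbr₀
    rw [hb]
    simp
  have hR2 : ¬ 2 ∣ Nat.card R := fun h => (Nat.not_even_iff_odd.2 hR) (even_iff_two_dvd.2 h)
  have hgen := Lib.CoprimeHyperplane.iSup_centralizer_hyperplane hA hA1 hR2 hAR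
  have hb2 : b * b = 1 := by rw [← pow_two, hA.2 b hb]
  have hbi : b⁻¹ = b := inv_eq_of_mul_eq_one_left hb2
  -- some hyperplane `B` with `[C_R(B), b] ≰ D`
  by_contra hcon
  push Not at hcon
  apply hbr₀
  let π := QuotientGroup.mk' D
  have key : R ≤ (centralizer ({π b} : Set (Γ ⧸ D))).comap π := by
    rw [← hgen]
    refine iSup_le fun B r hr => ?_
    rw [mem_comap, mem_centralizer_singleton_iff]
    by_contra hne
    have hrR : r ∈ R := hr.1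
    have hrB : ∀ a ∈ (B : Subgroup Γ), a * r = r * a := fun a ha => mem_centralizer_iff.1 hr.2 a ha
    have hD : b * r * b⁻¹ * r⁻¹ ∉ D := by
      intro hD
      apply hne
      have h1 : π (b * r * b⁻¹ * r⁻¹) = 1 := (QuotientGroup.eq_one_iff _).2 hD
      rw [map_mul, map_mul, map_mul, map_inv, map_inv, mul_inv_eq_one, mul_inv_eq_iff_eq_mul] at h1
      exact h1.symm
    have hbB : b ∉ (B : Subgroup Γ) := by
      intro hbB
      apply hD
      rw [hrB b hbB]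
      have e : r * b * b⁻¹ * r⁻¹ = 1 := by group
      rw [e]
      exact one_mem _
    refine hcon B B.2.1 B.2.2 hbB (b * r * b⁻¹ * r⁻¹)
      (mul_mem ((mem_normalizer_iff.1 (hAR hb) r).1 hrR) (inv_mem hrR)) hD ?_ ?_
    · intro a ha
      have hab : a * b = b * a := PLocal.ThompsonJ.isElementaryAbelian_comm hA (B.2.1 ha) hb
      have h1 := hrB a ha
      have h2 : a * b⁻¹ = b⁻¹ * a := by rw [hbi, hab]
      have h3 : a * r⁻¹ = r⁻¹ * a := by
        calc a * r⁻¹ = r⁻¹ * (r * a) * r⁻¹ := by group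
          _ = r⁻¹ * (a * r) * r⁻¹ := by rw [h1]
          _ = r⁻¹ * a := by group
      calc a * (b * r * b⁻¹ * r⁻¹) = (a * b) * r * b⁻¹ * r⁻¹ := by group
        _ = b * (a * r) * b⁻¹ * r⁻¹ := by rw [hab]; group
        _ = b * r * (a * b⁻¹) * r⁻¹ := by rw [h1]; group
        _ = b * r * b⁻¹ * (a * r⁻¹) := by rw [h2]; group
        _ = b * r * b⁻¹ * r⁻¹ * a := by rw [h3]; group
    · calc b * (b * r * b⁻¹ * r⁻¹) * b⁻¹ = (b * b) * r * b⁻¹ * r⁻¹ * b⁻¹ := by group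
        _ = r * b⁻¹ * r⁻¹ * b⁻¹ := by rw [hb2, one_mul]
        _ = r * b * r⁻¹ * b⁻¹ := by rw [hbi]
        _ = (b * r * b⁻¹ * r⁻¹)⁻¹ := by group
  have h1 := key hr₀
  rw [mem_comap, mem_centralizer_singleton_iff] at h1
  rw [← QuotientGroup.eq_one_iff]
  change π (b * r₀ * b⁻¹ * r₀⁻¹) = 1
  rw [map_mul, map_mul, map_mul, map_inv, map_inv, mul_inv_eq_one, mul_inv_eq_iff_eq_mul]
  exact h1.symm

/-- A lift of an element of odd order has a power of odd order which is a lift. -/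
theorem exists_odd_lift {H H' : Type*} [Group H] [Group H'] [Finite H] (f : H →* H') (g : H)
    (ho : Odd (orderOf (f g))) : ∃ n : ℕ, Odd (orderOf (g ^ n)) ∧ f (g ^ n) = f g := by
  obtain ⟨k, m, hm, hkm⟩ := Nat.exists_eq_two_pow_mul_odd (orderOf_pos g).ne'
  have hcop : ∀ j : ℕ, Odd j → (2 ^ k).Coprime j := fun j hj =>
    Nat.Coprime.pow_left k (Nat.coprime_two_left.2 hj)
  have hdvd : orderOf (f g) ∣ m := by
    have h1 : orderOf (f g) ∣ 2 ^ k * m := hkm ▸ orderOf_map_dvd f g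
    exact Nat.Coprime.dvd_of_dvd_mul_left (hcop _ ho).symm h1
  obtain ⟨n, hn0, hn1⟩ := Nat.chineseRemainder (hcop m hm) 0 1
  refine ⟨n, ?_, ?_⟩
  · have h1 : orderOf (g ^ n) ∣ m := by
      rw [orderOf_dvd_iff_pow_eq_one, ← pow_mul, ← orderOf_dvd_iff_pow_eq_one, hkm]
      exact Nat.mul_dvd_mul_right ((Nat.modEq_zero_iff_dvd).1 hn0) m
    exact Odd.of_dvd_nat hm h1
  · rw [map_pow]
    conv_rhs => rw [← pow_one (f g)]
    rw [pow_eq_pow_iff_modEq]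
    exact hn1.of_dvd hdvd

theorem cj_mul_le {G : Type*} [Group G] {A X : Subgroup G} {x : G} (h : A ≤ X) (hx : x ∈ X) :
    cj x A ≤ X := by
  rintro _ ⟨a, ha, rfl⟩
  exact mul_mem (mul_mem hx (h ha)) (inv_mem hx)

/-- Step 2: the choice of `B`, `b`, `x`. -/
theorem exists_lift {G : Type*} [Group G] [Finite G] {P Q K D A : Subgroup G} {b : G}
    (_hQP : Q ≤ P) (hQn : P ≤ normalizer (Q : Set G)) (hQK : Q ≤ K) (hKP : K ≤ P)
    (hKn : P ≤ normalizer (K : Set G)) (hKodd : Odd (Q.relIndex K))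
    (hQD : Q ≤ D) (_hDP : D ≤ P) (hDn : P ≤ normalizer (D : Set G))
    (hA : IsElementaryAbelian 2 A) (hAP : A ≤ P) (hb : b ∈ A)
    (hbK : ∃ k ∈ K, b * k * b⁻¹ * k⁻¹ ∉ D) :
    ∃ B ≤ A, B.relIndex A = 2 ∧ b ∉ B ∧ A ⊓ Q ≤ B ∧ ∃ x ∈ K, Odd (orderOf x) ∧ x ∉ D ∧
      (∀ a ∈ B, x * a * x⁻¹ * a⁻¹ ∈ Q) ∧ b * x * b⁻¹ * x ∈ Q ∧ x ∈ A ⊔ cj x A := by
  have hQ'n : (Q.subgroupOf P).Normal := normal_subgroupOf_of_le_normalizer hQn
  have hK'n : (K.subgroupOf P).Normal := normal_subgroupOf_of_le_normalizer hKn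
  have hD'n : (D.subgroupOf P).Normal := normal_subgroupOf_of_le_normalizer hDn
  let φ : P →* P ⧸ Q.subgroupOf P := QuotientGroup.mk' (Q.subgroupOf P)
  have hφs : Function.Surjective φ := QuotientGroup.mk'_surjective _
  have hker : ∀ g : P, φ g = 1 ↔ (g : G) ∈ Q := fun g => by
    rw [← mem_subgroupOf]
    exact QuotientGroup.eq_one_iff g
  have hDmem : ∀ g : P, φ g ∈ (D.subgroupOf P).map φ ↔ (g : G) ∈ D := by
    intro g
    constructor
    · rintro ⟨d, hd, hdg⟩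
      have h1 : φ (g * d⁻¹) = 1 := by rw [map_mul, map_inv, hdg, mul_inv_cancel]
      have h2 := hQD ((hker _).1 h1)
      have h3 : (g : G) = ((g * d⁻¹ : P) : G) * (d : G) := by
        rw [coe_mul, coe_inv]; group
      rw [h3]
      exact mul_mem h2 hd
    · intro h
      exact ⟨g, h, rfl⟩
  have hDn' : ((D.subgroupOf P).map φ).Normal := hD'n.map φ hφs
  have hRn' : ((K.subgroupOf P).map φ).Normal := hK'n.map φ hφs
  have hcard : Nat.card ((K.subgroupOf P).map φ) = Q.relIndex K := by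
    have h1 : Nat.card ((K.subgroupOf P).map φ) = (φ.ker).relIndex (K.subgroupOf P) := by
      rw [relIndex_ker]
    rw [h1, QuotientGroup.ker_mk', relIndex_subgroupOf hKP]
  obtain ⟨B', hB'A, hB'i, hbB', y, hyR, hyD, hyB, hyb⟩ := exists_inverted_notMem
    (A := (A.subgroupOf P).map φ) (R := (K.subgroupOf P).map φ) (D := (D.subgroupOf P).map φ)
    (b := φ ⟨b, hAP hb⟩)
    (PLocal.ThompsonJ.isElementaryAbelian_map
      (PLocal.ThompsonJ.isElementaryAbelian_comap hA P.subtype_injective) φ)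
    (by rw [hcard]; exact hKodd)
    (by
      intro x _
      rw [normalizer_eq_top_iff.2 hRn']
      exact mem_top x)
    ⟨_, hb, rfl⟩
    (by
      obtain ⟨k, hk, hkD⟩ := hbK
      refine ⟨φ ⟨k, hKP hk⟩, ⟨_, hk, rfl⟩, fun h => hkD ?_⟩
      rw [← map_inv, ← map_inv, ← map_mul, ← map_mul, ← map_mul, hDmem] at h
      exact h)
  obtain ⟨k, hk, rfl⟩ := hyR
  have hyodd : Odd (orderOf (φ k)) := by
    have h1 : orderOf (φ k) ∣ Nat.card ((K.subgroupOf P).map φ) := by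
      have h2 := orderOf_dvd_natCard (⟨φ k, ⟨k, hk, rfl⟩⟩ : (K.subgroupOf P).map φ)
      rwa [← Subgroup.orderOf_coe] at h2
    rw [hcard] at h1
    exact Odd.of_dvd_nat hKodd h1
  -- a lift with minimal `⟨A, A^x⟩`
  obtain ⟨x, ⟨hxφ, hxo⟩, hmin⟩ := Set.exists_min_image
    {x : P | φ x = φ k ∧ Odd (orderOf x)} (fun x => Nat.card ↥(A ⊔ cj (x : G) A))
    (Set.toFinite _) (by
      obtain ⟨n, hn1, hn2⟩ := exists_odd_lift φ k hyodd
      exact ⟨k ^ n, hn2, hn1⟩)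
  have hbP : b ∈ P := hAP hb
  -- `w = x b x⁻¹ b⁻¹`
  have hw : φ (x * ⟨b, hbP⟩ * x⁻¹ * (⟨b, hbP⟩ : P)⁻¹) = φ k ^ 2 := by
    have h1 : (φ ⟨b, hbP⟩) * (φ k)⁻¹ * (φ ⟨b, hbP⟩)⁻¹ = φ k := by
      have h2 : (φ ⟨b, hbP⟩) * (φ k)⁻¹ * (φ ⟨b, hbP⟩)⁻¹ =
          ((φ ⟨b, hbP⟩) * (φ k) * (φ ⟨b, hbP⟩)⁻¹)⁻¹ := by group
      rw [h2, hyb, inv_inv]
    rw [map_mul, map_mul, map_mul, map_inv, map_inv, hxφ, mul_assoc, mul_assoc, ← mul_assoc (φ _) _ (φ _)⁻¹]
    rw [h1, pow_two]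
  obtain ⟨j, hj⟩ := hyodd
  set w : P := x * ⟨b, hbP⟩ * x⁻¹ * (⟨b, hbP⟩ : P)⁻¹ with hwdef
  have hw2 : φ (w ^ (j + 1)) = φ k := by
    rw [map_pow, hw, ← pow_mul]
    have h1 : 2 * (j + 1) = (2 * j + 1) + 1 := by ring
    rw [h1, pow_succ, ← hj, pow_orderOf_eq_one, one_mul]
  obtain ⟨n, hn1, hn2⟩ := exists_odd_lift φ (w ^ (j + 1)) (by rw [hw2]; exact ⟨j, hj⟩)
  rw [hw2] at hn2
  set x' : P := (w ^ (j + 1)) ^ n with hx'def
  have hwmem : (w : G) ∈ A ⊔ cj (x : G) A := by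
    have h1 : (w : G) = (x * b * (x : G)⁻¹) * b⁻¹ := rfl
    rw [h1]
    exact mul_mem (mem_sup_right ⟨b, hb, rfl⟩) (mem_sup_left (inv_mem hb))
  have hx'mem : (x' : G) ∈ A ⊔ cj (x : G) A := by
    have h1 : (x' : G) = ((w : G) ^ (j + 1)) ^ n := by
      rw [hx'def, coe_pow, coe_pow]
    rw [h1]
    exact pow_mem (pow_mem hwmem _) _
  have hle : A ⊔ cj (x' : G) A ≤ A ⊔ cj (x : G) A :=
    sup_le le_sup_left (cj_mul_le le_sup_left hx'mem)
  have heq : A ⊔ cj (x' : G) A = A ⊔ cj (x : G) A :=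
    eq_of_le_of_card_ge hle (hmin x' ⟨hn2, hn1⟩)
  -- the hyperplane
  refine ⟨A ⊓ (B'.comap φ).map P.subtype, inf_le_left, ?_, ?_, ?_, (x' : G), ?_, ?_, ?_, ?_, ?_, ?_⟩
  · rw [inf_relIndex_left]
    have h1 : A = (A.subgroupOf P).map P.subtype := by
      rw [subgroupOf_map_subtype, inf_eq_left.2 hAP]
    conv_lhs => rw [h1]
    rw [relIndex_map_map_of_injective _ _ P.subtype_injective, relIndex_comap, hB'i]
  · rintro ⟨-, g, hg, hgb⟩
    have h1 : g = ⟨b, hbP⟩ := Subtype.ext hgb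
    rw [h1] at hg
    exact hbB' hg
  · rintro a ⟨ha, haQ⟩
    refine ⟨ha, ⟨a, hAP ha⟩, ?_, rfl⟩
    change φ ⟨a, hAP ha⟩ ∈ B'
    rw [(hker _).2 haQ]
    exact one_mem _
  · have h1 : φ (x' * k⁻¹) = 1 := by rw [map_mul, map_inv, hn2, mul_inv_cancel]
    have h2 := hQK ((hker _).1 h1)
    have h3 : (x' : G) = ((x' * k⁻¹ : P) : G) * (k : G) := by
      rw [coe_mul, coe_inv]; group
    rw [h3]
    exact mul_mem h2 hk
  · rwa [Subgroup.orderOf_coe]
  · intro h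
    exact hyD (by rw [← hn2]; exact (hDmem x').2 h)
  · rintro _ ⟨-, a, ha, rfl⟩
    have h1 := hyB (φ a) ha
    have h2 : φ (x' * a * x'⁻¹ * a⁻¹) = 1 := by
      rw [map_mul, map_mul, map_mul, map_inv, map_inv, hn2, ← h1]
      group
    exact (hker _).1 h2
  · have h2 : φ (⟨b, hbP⟩ * x' * (⟨b, hbP⟩ : P)⁻¹ * x') = 1 := by
      rw [map_mul, map_mul, map_mul, map_inv, hn2, hyb]
      group
    exact (hker _).1 h2
  · rw [heq]
    exact hx'mem

end Cfsg.Agent.MinSimple.EmptyE.Lift
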