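import Cfsg.Agent.MinSimple.EmptyE.Closed
import Cfsg.Agent.MinSimple.EmptyE.Lift
import Cfsg.Agent.MinSimple.VModule
import Cfsg.Agent.Lib.GoldschmidtFusion
import Cfsg.Agent.PLocal.ElemAbSup

/-!
# The case (Empty), Theorem E: step 2 (the closed hyperplane)

* `exists_minPar_lift` : a minimal parabolic `P` over `S`, `A ≤ S` elementary abelian,
  `b ∈ A ∖ O₂(P)`: there are a hyperplane `B` of `A` with `A ∩ O₂(P) ≤ B ∌ b` and `x ∈ ⟨A, A^x⟩` of odd
  order with `P = ⟨S, x⟩`, `[x, B] ≤ O₂(P)`, `x ^ b ≡ x⁻¹ mod O₂(P)`;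
* `ESit.hyper` : step 2 of Theorem E.
-/

set_option autoImplicit false

namespace Cfsg.Agent.MinSimple.EmptyE.Hyper

open Subgroup Cfsg Cfsg.Agent.ZN Cfsg.Agent.ZN.ChoiceBase Cfsg.Agent.ZN.ChoiceSit
open Cfsg.Agent.MinSimple.EmptyTI Cfsg.Agent.MinSimple.EmptySix
open Cfsg.Agent.MinSimple.MinParabolic (IsMinPar)
open Cfsg.Agent.MinSimple.EmptyE.Closed
open Cfsg.Agent.PLocal.ThompsonJ

universe u

variable {G : Type u} [Group G]

/-! ### Minimal parabolics -/

section MinPar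

variable [Finite G] {S P : Subgroup G}

omit [Finite G] in
theorem card_mul_relIndex' {H K : Subgroup G} (h : H ≤ K) :
    Nat.card H * H.relIndex K = Nat.card K := by
  rw [← relIndex_bot_left (H := H), ← relIndex_bot_left (H := K)]
  exact relIndex_mul_relIndex _ _ _ bot_le h

/-- `[Q R : Q]` is odd for an `r`-group `R`, `r ≠ 2`, normalizing `Q`. -/
theorem odd_relIndex_sup {Q R : Subgroup G} {r : ℕ} (hr : r.Prime) (hr2 : r ≠ 2)
    (hR : IsPGroup r R) (hn : R ≤ normalizer (Q : Set G)) : Odd (Q.relIndex (Q ⊔ R)) := by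
  have hfr : Fact r.Prime := ⟨hr⟩
  obtain ⟨n, hn'⟩ := IsPGroup.iff_card.mp hR
  have hodd : Odd (Nat.card R) := by
    rw [hn']
    exact (hr.odd_of_ne_two hr2).pow
  have h1 := Lib.ProductSet.card_mul_card_inf Q R
  have h2 : Nat.card (Q ⊔ R : Subgroup G) * Nat.card (Q ⊓ R : Subgroup G) =
      Nat.card Q * Nat.card R := by
    rw [← h1, ← SetLike.coe_sort_coe, coe_mul_of_right_le_normalizer_left _ _ hn]
  have h3 : Q.relIndex (Q ⊔ R) * Nat.card Q = Nat.card (Q ⊔ R : Subgroup G) := by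
    rw [mul_comm]
    exact card_mul_relIndex' (le_sup_left : Q ≤ Q ⊔ R)
  have h4 : Q.relIndex (Q ⊔ R) * Nat.card (Q ⊓ R : Subgroup G) = Nat.card R := by
    have h5 : Nat.card Q * (Q.relIndex (Q ⊔ R) * Nat.card (Q ⊓ R : Subgroup G)) =
        Nat.card Q * Nat.card R := by
      rw [← h2, ← h3]; ring
    exact Nat.eq_of_mul_eq_mul_left Nat.card_pos h5
  exact Odd.of_dvd_nat hodd ⟨_, h4.symm⟩

/-- The elements of `S` centralizing `K / D`. -/
def tt (S K D : Subgroup G) (hS : S ≤ normalizer (D : Set G)) : Subgroup G where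
  carrier := {s | s ∈ S ∧ ∀ k ∈ K, s * k * s⁻¹ * k⁻¹ ∈ D}
  one_mem' := ⟨one_mem _, fun k _ => by simp⟩
  mul_mem' := by
    rintro s t ⟨hs, hs'⟩ ⟨ht, ht'⟩
    refine ⟨mul_mem hs ht, fun k hk => ?_⟩
    have h1 : s * (t * k * t⁻¹ * k⁻¹) * s⁻¹ ∈ D := (mem_normalizer_iff.1 (hS hs) _).1 (ht' k hk)
    have e : s * t * k * (s * t)⁻¹ * k⁻¹ = s * (t * k * t⁻¹ * k⁻¹) * s⁻¹ * (s * k * s⁻¹ * k⁻¹) := by
      group
    rw [e]
    exact mul_mem h1 (hs' k hk)
  inv_mem' := by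
    rintro s ⟨hs, hs'⟩
    refine ⟨inv_mem hs, fun k hk => ?_⟩
    have h1 : s⁻¹ * (s * k * s⁻¹ * k⁻¹)⁻¹ * s⁻¹⁻¹ ∈ D :=
      (mem_normalizer_iff.1 (hS (inv_mem hs)) _).1 (inv_mem (hs' k hk))
    have e : s⁻¹ * k * s⁻¹⁻¹ * k⁻¹ = s⁻¹ * (s * k * s⁻¹ * k⁻¹)⁻¹ * s⁻¹⁻¹ := by group
    rw [e]
    exact h1

/-- Step 2, group theoretic part. -/
theorem exists_minPar_lift (h : IsMinPar S P) (hS : IsPGroup 2 S) (hSyl : ¬ 2 ∣ S.relIndex P)
    (hsol : Group.IsSolvable P) {A : Subgroup G} (hA : IsElementaryAbelian 2 A) (hAS : A ≤ S)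
    {b : G} (hb : b ∈ A) (hbQ : b ∉ o2 P) :
    ∃ B ≤ A, B.relIndex A = 2 ∧ b ∉ B ∧ A ⊓ o2 P ≤ B ∧ ∃ x ∈ P, Odd (orderOf x) ∧
      S ⊔ zpowers x = P ∧ (∀ a ∈ B, x * a * x⁻¹ * a⁻¹ ∈ o2 P) ∧ b * x * b⁻¹ * x ∈ o2 P ∧
      x ∈ A ⊔ cj x A := by
  have hf : Fact (Nat.Prime 2) := ⟨Nat.prime_two⟩
  obtain ⟨r, hr, hr2, R, hRP, hRr, hoR, hRo, hoS, hKn, hSK⟩ :=
    VModule.exists_sylow_oddGen h hS hSyl hsol
  have hfr : Fact r.Prime := ⟨hr⟩
  set Q := o2 P with hQdef
  set K := Q ⊔ R with hKdef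
  have hQP : Q ≤ P := o2_le P
  have hQn : P ≤ normalizer (Q : Set G) := le_normalizer_o2 P
  have hKP : K ≤ P := sup_le hQP hRP
  have hKS : K ⊔ S = P := by
    apply le_antisymm (sup_le hKP h.le)
    conv_lhs => rw [← hoS]
    exact sup_le_sup_right hoR _
  have hKodd : Odd (Q.relIndex K) := odd_relIndex_sup hr hr2 hRr (hRP.trans hQn)
  obtain ⟨M, hMP, hM⟩ := h.exists_max
  have hSM : S ≤ M := hM S le_rfl (lt_of_le_of_ne h.le h.ne)
  have hQS : Q ≤ S := by rw [← hSK]; exact inf_le_left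
  have hQM : Q ≤ M := hQS.trans hSM
  have hKM : ¬ K ≤ M := fun h0 => hMP.not_ge (hKS ▸ sup_le h0 hSM)
  set D := M ⊓ K with hDdef
  have hQD : Q ≤ D := le_inf hQM le_sup_left
  have hSD : S ≤ normalizer (D : Set G) :=
    (le_inf (hSM.trans le_normalizer) (h.le.trans hKn)).trans inf_normalizer_le_normalizer_inf
  have hDK : D ≤ K := inf_le_right
  have hmemK : ∀ k ∈ K, ∃ q ∈ Q, ∃ y ∈ R, q * y = k := by
    intro k hk
    rw [hKdef, ← SetLike.mem_coe, coe_mul_of_right_le_normalizer_left _ _ (hRP.trans hQn)] at hk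
    obtain ⟨q, hq, y, hy, rfl⟩ := hk
    exact ⟨q, hq, y, hy, rfl⟩
  -- `D` is normal in `P`
  have hDn : P ≤ normalizer (D : Set G) := by
    by_contra hcon
    have h1 : P ⊓ normalizer (D : Set G) ≤ M :=
      hM _ (le_inf h.le hSD) (lt_of_le_of_ne inf_le_left fun h0 => hcon (inf_eq_left.1 h0))
    have hRD : ¬ R ≤ D ⊓ R := fun h0 =>
      hKM (sup_le hQM (h0.trans (inf_le_left.trans inf_le_left)))
    have h2 := Lib.GoldschmidtFusion.lt_inf_normalizer (p := r) hRr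
      (A := D ⊓ R) (lt_of_le_not_ge inf_le_right hRD)
    obtain ⟨y, hy, hyn⟩ := SetLike.exists_of_lt h2
    apply hyn
    have hyR : y ∈ R := hy.1
    have hDeq : D = Q ⊔ (D ⊓ R) := by
      apply le_antisymm
      · intro d hd
        obtain ⟨q, hq, z, hz, rfl⟩ := hmemK d (hDK hd)
        have hzD : z ∈ D := by
          have := mul_mem (inv_mem (hQD hq)) hd
          rwa [inv_mul_cancel_left] at this
        exact mul_mem (mem_sup_left hq) (mem_sup_right ⟨hzD, hz⟩)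
      · exact sup_le hQD inf_le_left
    have hyn' : y ∈ normalizer (D : Set G) := by
      rw [hDeq]
      exact normalizer_inf_normalizer_le_normalizer_sup _ _ ⟨hQn (hRP hyR), hy.2⟩
    exact ⟨⟨h1 ⟨hRP hyR, hyn'⟩, mem_sup_right hyR⟩, hyR⟩
  have hDSM : D ⊔ S ≤ M := sup_le inf_le_left hSM
  -- `b` moves `K / D`
  have hbK : ∃ k ∈ K, b * k * b⁻¹ * k⁻¹ ∉ D := by
    by_contra hcon
    push Not at hcon
    apply hbQ
    set T := tt S K D hSD with hTdef
    have hTmem : ∀ t, t ∈ T ↔ t ∈ S ∧ ∀ k ∈ K, t * k * t⁻¹ * k⁻¹ ∈ D := fun t => Iff.rfl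
    have hTS : T ≤ S := fun t ht => ht.1
    have hST : S ≤ normalizer (T : Set G) := by
      have key : ∀ s ∈ S, ∀ t ∈ T, s * t * s⁻¹ ∈ T := by
        intro s hs t ht
        refine ⟨mul_mem (mul_mem hs ht.1) (inv_mem hs), fun k hk => ?_⟩
        have h1 : s⁻¹ * k * s⁻¹⁻¹ ∈ K := (mem_normalizer_iff.1 (hKn (h.le (inv_mem hs))) k).1 hk
        have h2 := (mem_normalizer_iff.1 (hSD hs) _).1 (ht.2 _ h1)
        have e : s * (t * (s⁻¹ * k * s⁻¹⁻¹) * t⁻¹ * (s⁻¹ * k * s⁻¹⁻¹)⁻¹) * s⁻¹ =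
            s * t * s⁻¹ * k * (s * t * s⁻¹)⁻¹ * k⁻¹ := by group
        rwa [e] at h2
      intro s hs
      rw [mem_normalizer_iff]
      intro t
      refine ⟨key s hs t, fun ht => ?_⟩
      have h1 := key s⁻¹ (inv_mem hs) _ ht
      have e : s⁻¹ * (s * t * s⁻¹) * s⁻¹⁻¹ = t := by group
      rwa [e] at h1
    have hN : P ≤ normalizer ((D ⊔ T : Subgroup G) : Set G) := by
      rw [← hKS]
      refine sup_le (fun k hk => ?_)
        ((le_inf hSD hST).trans (normalizer_inf_normalizer_le_normalizer_sup _ _))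
      have key : ∀ k ∈ K, cj k (D ⊔ T) ≤ D ⊔ T := by
        intro k hk
        rw [cj, Subgroup.map_sup]
        refine sup_le ?_ ?_
        · have h1 : cj k D = D := cj_eq_of_mem_normalizer (hDn (hKP hk))
          exact (show D.map (MulAut.conj k).toMonoidHom ≤ D from h1.le).trans le_sup_left
        · rintro _ ⟨t, ht, rfl⟩
          have h1 := ht.2 k hk
          change k * t * k⁻¹ ∈ D ⊔ T
          have e : k * t * k⁻¹ = (t * k * t⁻¹ * k⁻¹)⁻¹ * t := by group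
          rw [e]
          exact mul_mem (mem_sup_left (inv_mem h1)) (mem_sup_right ht)
      exact mem_normalizer_of_cj_le (key k hk)
    rcases h.sup_eq_or_inf_le (p := 2) hS hSyl (N := D ⊔ T)
      (sup_le (hDK.trans hKP) (hTS.trans h.le)) hN with h1 | h1
    · exfalso
      have h2 : P ≤ M := by
        rw [← h1]
        exact sup_le (sup_le inf_le_left (hTS.trans hSM)) hSM
      exact hMP.not_ge h2
    · exact h1 ⟨hAS hb, mem_sup_right ⟨hAS hb, hcon⟩⟩
  obtain ⟨B, hBA, hBidx, hbB, hAQ, x, hxK, hxo, hxD, hxB, hxb, hxA⟩ :=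
    Lift.exists_lift hQP hQn le_sup_left hKP hKn hKodd hQD (hDK.trans hKP) hDn hA
      (hAS.trans h.le) hb hbK
  refine ⟨B, hBA, hBidx, hbB, hAQ, x, hKP hxK, hxo, ?_, hxB, hxb, hxA⟩
  have h1 : S ⊔ zpowers x ≤ P := sup_le h.le (by rw [zpowers_le]; exact hKP hxK)
  by_contra h2
  have h3 := hM _ le_sup_left (lt_of_le_of_ne h1 h2)
  exact hxD ⟨h3 (mem_sup_right (mem_zpowers x)), hxK⟩

end MinPar

/-! ### Step 2 -/

section Step

variable [Finite G] {S : Sylow 2 G} {P : Subgroup G}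

/-- `H = C_V(x)` -/
def hh (S : Subgroup G) (x : G) : Subgroup G := vv S ⊓ centralizer ({x} : Set G)

omit [Finite G] in
theorem mem_hh {S : Subgroup G} {x v : G} : v ∈ hh S x ↔ v ∈ vv S ∧ x * v = v * x := by
  rw [hh, mem_inf, mem_centralizer_singleton_iff]
  exact and_congr_right fun _ => eq_comm

/-- There is a minimal parabolic in `C` and not in `L`. -/
theorem exists_minPar (h : ESit S) :
    ∃ P : Subgroup G, IsMinPar (S : Subgroup G) P ∧ P ≤ CC (S : Subgroup G) ∧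
      ¬ P ≤ LL (S : Subgroup G) := by
  by_contra hcon
  push Not at hcon
  exact h.not_CC_le (MinParabolic.le_of_forall h.le_CC (inf_le_right.trans h.normalizer_self_le)
    hcon)

theorem solvable_CC (h : ESit S) (hPC : P ≤ CC (S : Subgroup G)) : Group.IsSolvable P :=
  Basic.solvable_of_le h.solv (S.isPGroup'.to_le (zc_le _)) h.zc_ne_bot
    (hPC.trans (centralizer_le_normalizer _))

/-- **Step 2 of Theorem E.** -/
theorem hyper (h : ESit S) (hP : IsMinPar (S : Subgroup G) P) (hPC : P ≤ CC (S : Subgroup G))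
    (hPL : ¬ P ≤ LL (S : Subgroup G)) :
    ∃ x ∈ P, Odd (orderOf x) ∧ x ∉ LL (S : Subgroup G) ∧ (S : Subgroup G) ⊔ zpowers x = P ∧
      zc (S : Subgroup G) ≤ hh (S : Subgroup G) x ∧ hh (S : Subgroup G) x ≠ vv (S : Subgroup G) ∧
      (∀ u ∈ hh (S : Subgroup G) x, u ≠ 1 → cl (S : Subgroup G) u ≤ hh (S : Subgroup G) x) ∧
      ∃ E : Subgroup G, E ≤ (S : Subgroup G) ∧ IsElementaryAbelian 2 E ∧
        E ≤ centralizer (hh (S : Subgroup G) x : Set G) ∧
        Nat.card (vv (S : Subgroup G)) ≤ 2 * Nat.card (hh (S : Subgroup G) x) *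
          (centralizer (vv (S : Subgroup G) : Set G)).relIndex E := by
  have hf : Fact (Nat.Prime 2) := ⟨Nat.prime_two⟩
  have hSyl := Basic.not_dvd_relIndex S hP.le
  have hsol := solvable_CC h hPC
  -- `J ≰ O₂(P)`
  have hJ : ¬ jj (S : Subgroup G) ≤ o2 P := fun h0 =>
    hPL (((Basic.le_normalizer_jj_iff hP.le S.isPGroup' hSyl).2 h0).trans h.normalizer_le_LL)
  obtain ⟨A, hA, hAQ⟩ : ∃ A ∈ AA (S : Subgroup G), ¬ A ≤ o2 P := by
    by_contra hcon
    push Not at hcon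
    apply hJ
    rw [ChoiceBase.jj_eq]
    exact sSup_le hcon
  obtain ⟨b, hb, hbQ⟩ := SetLike.not_le_iff_exists.1 hAQ
  obtain ⟨B, hBA, hBidx, hbB, hAQB, x, hxP, hxo, hxgen, hxB, -, hxA⟩ :=
    exists_minPar_lift hP S.isPGroup' hSyl hsol hA.1 hA.2.1 hb hbQ
  have hQS : o2 P ≤ (S : Subgroup G) := VModule.o2_le_of_sylow S.isPGroup' hSyl
  have hxL : x ∉ LL (S : Subgroup G) := fun h0 => hPL (by
    rw [← hxgen]
    exact sup_le h.le_LL (by rw [zpowers_le]; exact h0))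
  have hAV : A ≤ centralizer (vv (S : Subgroup G) : Set G) := (le_jj hA).trans jj_le_centralizer_vv
  -- `H = C_V(A^x)`
  have hH : hh (S : Subgroup G) x =
      vv (S : Subgroup G) ⊓ centralizer ((cj x A : Subgroup G) : Set G) := by
    apply le_antisymm
    · intro v hv
      obtain ⟨hvV, hxv⟩ := mem_hh.1 hv
      refine mem_inf.2 ⟨hvV, ?_⟩
      rw [mem_centralizer_iff]
      rintro _ ⟨a, ha, rfl⟩
      have h1 : v * a = a * v := mem_centralizer_iff.1 (hAV ha) v hvV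
      change x * a * x⁻¹ * v = v * (x * a * x⁻¹)
      have h2 : x⁻¹ * v = v * x⁻¹ := by
        rw [inv_mul_eq_iff_eq_mul, ← mul_assoc, eq_mul_inv_iff_mul_eq, hxv]
      calc x * a * x⁻¹ * v = x * a * (x⁻¹ * v) := by group
        _ = x * (a * v) * x⁻¹ := by rw [h2]; group
        _ = x * v * a * x⁻¹ := by rw [← h1]; group
        _ = v * (x * a * x⁻¹) := by rw [hxv]; group
    · rintro v ⟨hvV, hvx⟩
      refine mem_hh.2 ⟨hvV, ?_⟩
      have h1 : A ⊔ cj x A ≤ centralizer ({v} : Set G) := by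
        refine sup_le (fun a ha => ?_) (fun a ha => ?_)
        · rw [mem_centralizer_singleton_iff]
          exact (mem_centralizer_iff.1 (hAV ha) v hvV).symm
        · rw [mem_centralizer_singleton_iff]
          exact mem_centralizer_iff.1 hvx a ha
      exact mem_centralizer_singleton_iff.1 (h1 hxA)
  have hEA : cj x B ≤ cj x A := cj_mono x hBA
  have hE : IsElementaryAbelian 2 (cj x B) := isElementaryAbelian_cj x
    (isElementaryAbelian_mono hA.1 hBA)
  refine ⟨x, hxP, hxo, hxL, hxgen, ?_, ?_, ?_, cj x B, ?_, hE, ?_, ?_⟩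
  · intro z hz
    exact mem_hh.2 ⟨zc_le_vv _ hz, (mem_centralizer_iff.1 (hPC hxP) z hz).symm⟩
  · intro h0
    apply hxL
    apply h.centralizer_vv_le_LL
    rw [mem_centralizer_iff]
    intro v hv
    rw [← h0] at hv
    exact (mem_hh.1 hv).2.symm
  · intro u hu _
    rw [hH] at hu ⊢
    exact cl_le_inf_centralizer hu.1 hA hu.2
  · rintro _ ⟨a, ha, rfl⟩
    change x * a * x⁻¹ ∈ (S : Subgroup G)
    have e : x * a * x⁻¹ = (x * a * x⁻¹ * a⁻¹) * a := by group
    rw [e]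
    exact mul_mem (hQS (hxB a ha)) (hA.2.1 (hBA ha))
  · rw [hH]
    intro e he
    rw [mem_centralizer_iff]
    rintro v ⟨-, hv⟩
    exact (mem_centralizer_iff.1 hv e (hEA he)).symm
  · obtain ⟨E₀, hE₀⟩ : ∃ E₀ : Subgroup G, E₀ = centralizer (vv (S : Subgroup G) : Set G) ⊓ cj x B :=
      ⟨_, rfl⟩
    have hE₀c : E₀ ≤ centralizer (vv (S : Subgroup G) : Set G) := hE₀ ▸ inf_le_left
    have hE₀B : E₀ ≤ cj x B := hE₀ ▸ inf_le_right
    have h1 : IsElementaryAbelian 2 (vv (S : Subgroup G) ⊔ E₀ : Subgroup G) :=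
      PLocal.ElemAbSup.isElementaryAbelian_sup vv_isElementaryAbelian
        (isElementaryAbelian_mono hE hE₀B) hE₀c
    have h2 := PLocal.ElemAbSup.card_sup_mul_card_inf hE₀c
    have h3 : Nat.card (vv (S : Subgroup G) ⊔ E₀ : Subgroup G) ≤ 2 * Nat.card (cj x B) := by
      have h4 := card_le_mm' S h1
      rw [mm_eq hA] at h4
      have h5 : Nat.card B * B.relIndex A = Nat.card A := card_mul_relIndex' hBA
      rw [card_cj]
      rw [hBidx] at h5
      omega
    have h4 : vv (S : Subgroup G) ⊓ E₀ ≤ hh (S : Subgroup G) x := by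
      rw [hH]
      rintro v ⟨hv, hvE⟩
      refine mem_inf.2 ⟨hv, ?_⟩
      rw [mem_centralizer_iff]
      intro a ha
      exact isElementaryAbelian_comm (isElementaryAbelian_cj x hA.1) ha (hEA (hE₀B hvE))
    have h5 : Nat.card (vv (S : Subgroup G) ⊓ E₀ : Subgroup G) ≤ Nat.card (hh (S : Subgroup G) x) :=
      Subgroup.card_le_of_le h4
    have h6 : Nat.card E₀ * (centralizer (vv (S : Subgroup G) : Set G)).relIndex (cj x B) =
        Nat.card (cj x B) := by
      have h7 : E₀.relIndex (cj x B) =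
          (centralizer (vv (S : Subgroup G) : Set G)).relIndex (cj x B) := by
        rw [hE₀, inf_relIndex_right]
      rw [← h7]
      exact card_mul_relIndex' hE₀B
    have h8 : 0 < Nat.card E₀ := Nat.card_pos
    refine Nat.le_of_mul_le_mul_right (c := Nat.card E₀) ?_ h8
    calc Nat.card (vv (S : Subgroup G)) * Nat.card E₀
        = Nat.card (vv (S : Subgroup G) ⊔ E₀ : Subgroup G) *
            Nat.card (vv (S : Subgroup G) ⊓ E₀ : Subgroup G) := h2.symm
      _ ≤ 2 * Nat.card (cj x B) * Nat.card (hh (S : Subgroup G) x) := Nat.mul_le_mul h3 h5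
      _ = 2 * Nat.card (hh (S : Subgroup G) x) *
            (centralizer (vv (S : Subgroup G) : Set G)).relIndex (cj x B) * Nat.card E₀ := by
          rw [← h6]; ring

end Step

end Cfsg.Agent.MinSimple.EmptyE.Hyper
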