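import Cfsg.Agent.MinSimple.EmptyE.Closed
import Cfsg.Agent.MinSimple.Omega.Defs
import Cfsg.Agent.MinSimple.CaseDFinal
import Cfsg.Agent.ZN.Four

/-!
# The case "(Empty)": `V = V₁ × V₂` and the setting of (Omega)

`OIn S V z`: `vv S = V 0 × V 1`, `|V i| = 4`, `L = N_G(vv S)` permutes the `V i`, `Ω₁(Z(S)) = ⟨z⟩`, `z ∉ V i`,
`S` contains elements nontrivial on `V i`, trivial on the other factor, and `L` contains elements fixed point
free on `V i`, trivial on the other factor.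

`om` : `Omega.Defs.Om V (vv S) z` (uses Theorem D, `CaseDFinal.theoremD`).
-/

set_option autoImplicit false

namespace Cfsg.Agent.MinSimple.EmptyE.ToOm

open Subgroup Cfsg Cfsg.Agent.ZN Cfsg.Agent.ZN.ChoiceSit
open Cfsg.Agent.ZN.ChoiceBase (cj mem_cj cj_cj cj_one cj_inv_cj cj_cj_inv cj_mono cj_le_iff
  mem_normalizer_iff_cj cj_inf cj_normalizer)
open Cfsg.Agent.MinSimple.EmptyTI Cfsg.Agent.MinSimple.EmptySix
open Cfsg.Agent.MinSimple.EmptyE.Closed
open Cfsg.Agent.MinSimple.Omega.Defs (co Om)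

universe u

/-! ### Auxiliary lemmas -/

section Aux

variable {G : Type u} [Group G]

theorem exists_fixed {T V : Subgroup G} (hT : IsPGroup 2 T) (hV : Nat.card V = 4)
    (hTV : T ≤ normalizer (V : Set G)) : ∃ v ∈ V, v ≠ 1 ∧ ∀ t ∈ T, t * v = v * t := by
  have hfin : Finite V := Nat.finite_of_card_ne_zero (by rw [hV]; norm_num)
  have hf : Fact (Nat.Prime 2) := ⟨Nat.prime_two⟩
  letI : MulAction T V :=
    { smul := fun t v => ⟨(t : G) * v * (t : G)⁻¹, (mem_normalizer_iff.1 (hTV t.2) v).1 v.2⟩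
      one_smul := fun v => Subtype.ext (by
        change (1 : G) * v * (1 : G)⁻¹ = v
        group)
      mul_smul := fun s t v => Subtype.ext (by
        change ((s : G) * t) * v * ((s : G) * t)⁻¹ = s * (t * v * (t : G)⁻¹) * (s : G)⁻¹
        group) }
  have h1 : (1 : V) ∈ MulAction.fixedPoints T V := fun t => Subtype.ext (by
    change (t : G) * (1 : G) * (t : G)⁻¹ = 1
    group)
  obtain ⟨b, hb, hb1⟩ := hT.exists_fixed_point_of_prime_dvd_card_of_fixed_point V
    (by rw [hV]; norm_num) h1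
  refine ⟨b, b.2, fun h0 => hb1 (Subtype.ext h0.symm), fun t ht => ?_⟩
  have h2 : t * (b : G) * t⁻¹ = b := congrArg Subtype.val (hb ⟨t, ht⟩)
  exact Four.conj_eq_iff_comm.1 h2

theorem co_eq {V : Fin 2 → Subgroup G} {i j : Fin 2} (hij : i ≠ j) : co V i = V j := by
  apply le_antisymm
  · refine iSup_le fun k => ?_
    have hk := k.2
    have : (k : Fin 2) = j := by omega
    rw [this]
  · exact le_iSup (fun k : {k : Fin 2 // k ≠ i} => V k) ⟨j, hij.symm⟩

theorem exists_ne (i : Fin 2) : ∃ j : Fin 2, i ≠ j := by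
  rcases Fin.exists_fin_two.1 ⟨i, rfl⟩ with h | h
  · exact ⟨1, by omega⟩
  · exact ⟨0, by omega⟩

end Aux

/-- The input without the elements `t`. -/
structure Pre {G : Type u} [Group G] (S : Subgroup G) (V : Fin 2 → Subgroup G) (z : G) : Prop where
  sup : ⨆ i, V i = vv S
  disj : V 0 ⊓ V 1 = ⊥
  card : ∀ i, Nat.card (V i) = 4
  perm : ∀ g ∈ LL S, ∀ i, ∃ j, cj g (V i) = V j
  z_mem : z ∈ zc S
  z_ne : z ≠ 1
  Z : ∀ x ∈ zc S, x = 1 ∨ x = z
  z_not : ∀ i, z ∉ V i
  d : ∀ i, ∃ d ∈ LL S, (∀ v ∈ V i, d * v = v * d → v = 1) ∧ ∀ j, j ≠ i → ∀ v ∈ V j, d * v = v * d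

/-- The input. -/
structure OIn {G : Type u} [Group G] (S : Subgroup G) (V : Fin 2 → Subgroup G) (z : G) : Prop
    extends Pre S V z where
  t : ∀ i, ∃ t ∈ S, (∃ v ∈ V i, t * v ≠ v * t) ∧ ∀ j, j ≠ i → ∀ v ∈ V j, t * v = v * t

variable {G : Type u} [Group G] {S : Sylow 2 G} {V : Fin 2 → Subgroup G} {z : G}

theorem V_le (o : Pre (S : Subgroup G) V z) (i : Fin 2) : V i ≤ vv (S : Subgroup G) := by
  rw [← o.sup]
  exact le_iSup V i

theorem eq_of_mem (o : Pre (S : Subgroup G) V z) {i j : Fin 2} {v : G} (hi : v ∈ V i) (hj : v ∈ V j)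
    (hv : v ≠ 1) : i = j := by
  by_contra hij
  have h1 : v ∈ V 0 ⊓ V 1 := by
    have : (i = 0 ∧ j = 1) ∨ (i = 1 ∧ j = 0) := by omega
    rcases this with ⟨rfl, rfl⟩ | ⟨rfl, rfl⟩
    · exact ⟨hi, hj⟩
    · exact ⟨hj, hi⟩
  rw [o.disj, mem_bot] at h1
  exact hv h1

/-- An element of `L` fixing an element of `V i` normalizes all `V j`. -/
theorem norm_of_fix (o : Pre (S : Subgroup G) V z) {g : G} (hg : g ∈ LL (S : Subgroup G)) {i : Fin 2}
    {u : G} (hu : u ∈ V i) (hu1 : u ≠ 1) (hgu : g * u = u * g) (j : Fin 2) : cj g (V j) = V j := by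
  obtain ⟨k, hk⟩ := o.perm g hg i
  have h1 : u ∈ V k := by
    rw [← hk]
    exact ⟨u, hu, Four.conj_eq_iff_comm.2 hgu⟩
  have hki := eq_of_mem o hu h1 hu1
  subst hki
  by_cases hij : i = j
  · rw [← hij]; exact hk
  obtain ⟨l, hl⟩ := o.perm g hg j
  have hlj : l = j := by
    by_contra hlj
    have hli : l = i := by omega
    rw [hli, ← hk] at hl
    have h2 : V j = V i := by
      have := congrArg (cj g⁻¹) hl
      rwa [cj_inv_cj, cj_inv_cj] at this
    exact hij (eq_of_mem o hu (by rw [h2]; exact hu) hu1)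
  rw [hl, hlj]

variable [Finite G]

/-- `cl u = V` for `1 ≠ u ∈ V i`. -/
theorem vv_le_cl (h : ESit S) (o : Pre (S : Subgroup G) V z) {i : Fin 2} {u : G} (hu : u ∈ V i)
    (hu1 : u ≠ 1) : vv (S : Subgroup G) ≤ cl (S : Subgroup G) u := by
  -- the other factor is contained in `cl u`
  have key : ∀ {i j : Fin 2} {u : G}, i ≠ j → u ∈ V i → u ≠ 1 → V j ≤ cl (S : Subgroup G) u := by
    intro i j u hij hu hu1
    have huV := V_le o i hu
    obtain ⟨T, hT, -⟩ := exists_syl (T := (⊥ : Subgroup G))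
      (X := LL (S : Subgroup G) ⊓ centralizer ({u} : Set G)) IsPGroup.of_bot bot_le
    have hTV : T ≤ normalizer (V j : Set G) := by
      intro t ht
      have h1 := hT.1 ht
      exact mem_normalizer_iff_cj.2
        (norm_of_fix o h1.1 hu hu1 (mem_centralizer_singleton_iff.1 h1.2) j)
    obtain ⟨w, hw, hw1, hwT⟩ := exists_fixed hT.2.1 (o.card j) hTV
    have hwcl : w ∈ cl (S : Subgroup G) u := by
      refine h.inf_centralizer_le huV hu1 hT ⟨V_le o j hw, ?_⟩
      exact mem_centralizer_iff.2 fun t ht => hwT t ht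
    obtain ⟨d, hd, hdf, hdj⟩ := o.d j
    have hdu : d * u = u * d := hdj i hij u hu
    have hdV : cj d (V j) = V j := norm_of_fix o hd hu hu1 hdu j
    have h2 : cj d (cl (S : Subgroup G) u) = cl (S : Subgroup G) u := by
      rw [cj_cl hd huV, Four.conj_eq_iff_comm.2 hdu]
    have hdw : d * w * d⁻¹ ∈ cl (S : Subgroup G) u := by
      rw [← h2]
      exact ⟨w, hwcl, rfl⟩
    have hdwV : d * w * d⁻¹ ∈ V j := by
      rw [← hdV]
      exact ⟨w, hw, rfl⟩
    have hsq : ∀ v ∈ V j, v ^ 2 = 1 := fun v hv => vv_sq (V_le o j hv)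
    intro v hv
    rcases Four.four (o.card j) hsq hw hdwV hw1 (fun h0 => hw1 (conj_eq_one_iff.1 h0))
      (fun h0 => hw1 (hdf w hw (Four.conj_eq_iff_comm.1 h0.symm))) v hv with rfl | rfl | rfl | rfl
    · exact one_mem _
    · exact hwcl
    · exact hdw
    · exact mul_mem hwcl hdw
  obtain ⟨j, hij⟩ := exists_ne i
  have h1 : V j ≤ cl (S : Subgroup G) u := key hij hu hu1
  obtain ⟨w, hw, hw1, -⟩ := Four.exists_other (o.card j) 1
  have h2 : V i ≤ cl (S : Subgroup G) u :=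
    (key hij.symm hw hw1).trans (cl_le_cl (V_le o i hu) (h1 hw))
  rw [← o.sup]
  refine iSup_le fun k => ?_
  by_cases hk : k = i
  · rw [hk]; exact h2
  · have : k = j := by omega
    rw [this]; exact h1

/-- `C_G(u) ≤ L` for `1 ≠ u ∈ V i`. -/
theorem cent_le (h : ESit S) (o : Pre (S : Subgroup G) V z) {i : Fin 2} {u : G} (hu : u ∈ V i)
    (hu1 : u ≠ 1) : centralizer ({u} : Set G) ≤ LL (S : Subgroup G) :=
  h.centralizer_le_of_cl_eq (V_le o i hu) (le_antisymm (cl_le _ _) (vv_le_cl h o hu hu1))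

/-- `V i ∩ V^g ≠ 1` implies `g ∈ L`. -/
theorem mem_of_mem (h : ESit S) (o : Pre (S : Subgroup G) V z) {i : Fin 2} {u g : G} (hu : u ∈ V i)
    (hu1 : u ≠ 1) (hg : u ∈ cj g (vv (S : Subgroup G))) : g ∈ LL (S : Subgroup G) := by
  have h1 := jj_le_centralizer (vv_le_zj _ (V_le o i hu))
  have h2 : cj g (jj (S : Subgroup G)) ≤ centralizer ({u} : Set G) := by
    have h3 := cj_mono g (jj_le_centralizer (vv_le_zj _ (mem_cj.1 hg)))
    rw [centralizer_cj] at h3
    have e : g * (g⁻¹ * u * g) * g⁻¹ = u := by group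
    rwa [e] at h3
  obtain ⟨x, hx, hxg⟩ := exists_conj_jj S h1 h2
  have h4 : x⁻¹ * g ∈ normalizer (jj (S : Subgroup G) : Set G) := by
    rw [mem_normalizer_iff_cj, ← cj_cj, ← hxg, cj_inv_cj]
  have h5 := h.normalizer_le_LL h4
  have e : g = x * (x⁻¹ * g) := by group
  rw [e]
  exact mul_mem (cent_le h o hu hu1 hx) h5

theorem inter (h : ESit S) (o : Pre (S : Subgroup G) V z) {g : G} (hg : g ∉ LL (S : Subgroup G))
    (i : Fin 2) : V i ⊓ cj g (vv (S : Subgroup G)) = ⊥ := by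
  rw [eq_bot_iff]
  rintro u ⟨hu, hug⟩
  rw [mem_bot]
  by_contra hu1
  exact hg (mem_of_mem h o hu hu1 hug)

theorem TI (h : ESit S) (o : Pre (S : Subgroup G) V z) (i j : Fin 2) (g : G)
    (hne : V i ⊓ cj g (V j) ≠ ⊥) : V i = cj g (V j) := by
  obtain ⟨⟨u, hu⟩, hu1⟩ := Subgroup.ne_bot_iff_exists_ne_one.1 hne
  have hu1' : u ≠ 1 := fun h0 => hu1 (Subtype.ext h0)
  have hg := mem_of_mem h o hu.1 hu1' (cj_mono g (V_le o j) hu.2)
  obtain ⟨k, hk⟩ := o.perm g hg j
  rw [hk] at hu ⊢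
  rw [eq_of_mem o hu.1 hu.2 hu1']

theorem cent_V (h : ESit S) (o : Pre (S : Subgroup G) V z) (i : Fin 2) {v : G} (hv : v ∈ V i)
    (hv1 : v ≠ 1) : centralizer ({v} : Set G) ≤ normalizer (V i : Set G) := fun _ hc =>
  mem_normalizer_iff_cj.2 (norm_of_fix o (cent_le h o hv hv1 hc) hv hv1
    (mem_centralizer_singleton_iff.1 hc) i)

/-! ### Step 0 -/

/-- An element of `V^c`, `c ∉ L`, normalizing all `V i` centralizes `V`. -/
theorem comm_of_fix (h : ESit S) (o : Pre (S : Subgroup G) V z) {c : G}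
    (hcM : c ∉ LL (S : Subgroup G))
    (hU : vv (S : Subgroup G) ≤ normalizer ((cj c (vv (S : Subgroup G)) : Subgroup G) : Set G))
    {y : G} (hy : y ∈ cj c (vv (S : Subgroup G))) (hfix : ∀ i, cj y (V i) = V i) :
    ∀ a ∈ vv (S : Subgroup G), a * y = y * a := by
  have h2 : vv (S : Subgroup G) ≤ centralizer ({y} : Set G) := by
    conv_lhs => rw [← o.sup]
    refine iSup_le fun i v hv => ?_
    rw [mem_centralizer_singleton_iff]
    have h3 : y * v * y⁻¹ * v⁻¹ ∈ V i ⊓ cj c (vv (S : Subgroup G)) := by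
      refine ⟨?_, ?_⟩
      · refine mul_mem ?_ ((V i).inv_mem hv)
        have := hfix i
        rw [← this]
        exact ⟨v, hv, rfl⟩
      · have h4 : v * y⁻¹ * v⁻¹ ∈ cj c (vv (S : Subgroup G)) :=
          Four.conj_mem (hU (V_le o i hv)) (inv_mem hy)
        have e : y * v * y⁻¹ * v⁻¹ = y * (v * y⁻¹ * v⁻¹) := by group
        rw [e]
        exact mul_mem hy h4
    rw [inter h o hcM, mem_bot] at h3
    have h4 : y * v * y⁻¹ = v := mul_inv_eq_one.mp h3
    exact (Four.conj_eq_iff_comm.mp h4).symm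
  exact fun a ha => mem_centralizer_singleton_iff.1 (h2 ha)

/-- An element of `L` fixing one `V i` fixes both. -/
theorem fix_all (o : Pre (S : Subgroup G) V z) {y : G} (hy : y ∈ LL (S : Subgroup G)) {i : Fin 2}
    (hi : cj y (V i) = V i) (j : Fin 2) : cj y (V j) = V j := by
  obtain ⟨w, hw, hw1, -⟩ := Four.exists_other (o.card i) 1
  by_cases hij : j = i
  · rw [hij]; exact hi
  obtain ⟨l, hl⟩ := o.perm y hy j
  have hlj : l = j := by
    by_contra hlj
    have hli : l = i := by omega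
    rw [hli, ← hi] at hl
    have h2 : V j = V i := by
      have := congrArg (cj y⁻¹) hl
      rwa [cj_inv_cj, cj_inv_cj] at this
    exact hij (eq_of_mem o (by rw [h2]; exact hw) hw hw1)
  rw [hl, hlj]

/-- The product of two elements of `V^c` not centralizing `V` centralizes `V`. -/
theorem comm_of_two (h : ESit S) (o : Pre (S : Subgroup G) V z) {c : G}
    (hcM : c ∉ LL (S : Subgroup G))
    (hU : vv (S : Subgroup G) ≤ normalizer ((cj c (vv (S : Subgroup G)) : Subgroup G) : Set G))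
    (hU' : cj c (vv (S : Subgroup G)) ≤ LL (S : Subgroup G)) {y y' : G}
    (hy : y ∈ cj c (vv (S : Subgroup G))) (hy' : y' ∈ cj c (vv (S : Subgroup G)))
    (h1 : ∃ a ∈ vv (S : Subgroup G), a * y ≠ y * a)
    (h2 : ∃ a ∈ vv (S : Subgroup G), a * y' ≠ y' * a) :
    ∀ a ∈ vv (S : Subgroup G), a * (y * y') = (y * y') * a := by
  have hmv : ∀ {y : G}, y ∈ cj c (vv (S : Subgroup G)) →
      (∃ a ∈ vv (S : Subgroup G), a * y ≠ y * a) → cj y (V 0) = V 1 ∧ cj y (V 1) = V 0 := by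
    intro y hy h1
    have hne : ∀ i, cj y (V i) ≠ V i := by
      intro i hi
      obtain ⟨a, ha, hay⟩ := h1
      exact hay (comm_of_fix h o hcM hU hy (fix_all o (hU' hy) hi) a ha)
    constructor
    · obtain ⟨j, hj⟩ := o.perm y (hU' hy) 0
      have : j = 1 := by
        by_contra h0
        have : j = 0 := by omega
        rw [this] at hj
        exact hne 0 hj
      rw [hj, this]
    · obtain ⟨j, hj⟩ := o.perm y (hU' hy) 1
      have : j = 0 := by
        by_contra h0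
        have : j = 1 := by omega
        rw [this] at hj
        exact hne 1 hj
      rw [hj, this]
  obtain ⟨a1, a2⟩ := hmv hy h1
  obtain ⟨b1, b2⟩ := hmv hy' h2
  refine comm_of_fix h o hcM hU (mul_mem hy hy') (fix_all o (hU' (mul_mem hy hy')) (i := 0) ?_)
  rw [← cj_cj, b1, a2]

/-- Step 0: `⟨V ^ C⟩` is abelian. -/
theorem uc (h : ESit S) (o : Pre (S : Subgroup G) V z)
    (hD : vv (S : Subgroup G) ≤ o2 (centralizer ({z} : Set G))) {c : G}
    (hc : c ∈ centralizer ({z} : Set G)) {a b : G} (ha : a ∈ vv (S : Subgroup G))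
    (hb : b ∈ cj c (vv (S : Subgroup G))) : a * b = b * a := by
  obtain ⟨U, hUdef⟩ : ∃ U, U = vv (S : Subgroup G) := ⟨_, rfl⟩
  by_cases hcM : c ∈ LL (S : Subgroup G)
  · rw [mem_normalizer_iff_cj.mp hcM] at hb
    exact vv_comm ha hb
  have hSC : (S : Subgroup G) ≤ centralizer ({z} : Set G) := fun s hs => by
    rw [mem_centralizer_singleton_iff]
    exact (ChoiceBase.mem_zc.1 o.z_mem).2.2 s hs
  have hCn := ZN.le_normalizer_o2 (centralizer ({z} : Set G))
  have ho2 : ∀ g ∈ centralizer ({z} : Set G),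
      cj g (vv (S : Subgroup G)) ≤ o2 (centralizer ({z} : Set G)) := by
    intro g hg
    rintro _ ⟨u, hu, rfl⟩
    exact Four.conj_mem (hCn hg) (hD hu)
  have hSsyl : ∀ g ∈ centralizer ({z} : Set G), o2 (centralizer ({z} : Set G)) ≤
      normalizer ((cj g (vv (S : Subgroup G)) : Subgroup G) : Set G) := by
    intro g hg
    have h1 : o2 (centralizer ({z} : Set G)) ≤ (S : Subgroup G) :=
      ZN.o2_le_of_sylow hSC S.isPGroup' (Basic.not_dvd_relIndex S hSC)
    have h2 := cj_mono g (h1.trans h.le_LL)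
    rw [cj_normalizer] at h2
    refine le_trans ?_ h2
    intro y hy
    rw [mem_cj]
    exact Four.conj_mem' (hCn hg) hy
  have hone : cj (1 : G) (vv (S : Subgroup G)) = vv (S : Subgroup G) := cj_one _
  have hall : ∀ g ∈ centralizer ({z} : Set G),
      vv (S : Subgroup G) ≤ normalizer ((cj g (vv (S : Subgroup G)) : Subgroup G) : Set G) ∧
      cj g (vv (S : Subgroup G)) ≤ LL (S : Subgroup G) := by
    intro g hg
    refine ⟨hD.trans (hSsyl g hg), ?_⟩
    have := hSsyl 1 (one_mem _)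
    rw [hone] at this
    exact (ho2 g hg).trans this
  obtain ⟨hUc, hcU⟩ := hall c hc
  by_contra hab
  -- the symmetric statement
  have hsym : ∀ u ∈ vv (S : Subgroup G), ∀ u' ∈ vv (S : Subgroup G),
      (∃ y ∈ cj c (vv (S : Subgroup G)), u * y ≠ y * u) →
      (∃ y ∈ cj c (vv (S : Subgroup G)), u' * y ≠ y * u') →
      ∀ y ∈ cj c (vv (S : Subgroup G)), (u * u') * y = y * (u * u') := by
    intro u hu u' hu' h1 h2 y hy
    have hci : c⁻¹ ∈ centralizer ({z} : Set G) := inv_mem hc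
    have hciM : c⁻¹ ∉ LL (S : Subgroup G) := fun h0 => hcM (by
      have := inv_mem h0
      rwa [inv_inv] at this)
    obtain ⟨h3, h4⟩ := hall _ hci
    have hconj : ∀ v ∈ vv (S : Subgroup G), c⁻¹ * v * c ∈ cj c⁻¹ (vv (S : Subgroup G)) := by
      intro v hv
      rw [mem_cj, inv_inv]
      have e : c * (c⁻¹ * v * c) * c⁻¹ = v := by group
      rwa [e]
    have htr : ∀ v : G, (∃ y ∈ cj c (vv (S : Subgroup G)), v * y ≠ y * v) →
        ∃ a ∈ vv (S : Subgroup G), a * (c⁻¹ * v * c) ≠ (c⁻¹ * v * c) * a := by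
      rintro v ⟨y, hy, hvy⟩
      refine ⟨c⁻¹ * y * c, mem_cj.mp hy, fun h0 => hvy ?_⟩
      calc v * y = c * ((c⁻¹ * v * c) * (c⁻¹ * y * c)) * c⁻¹ := by group
        _ = c * ((c⁻¹ * y * c) * (c⁻¹ * v * c)) * c⁻¹ := by rw [h0]
        _ = y * v := by group
    have h5 := comm_of_two h o hciM h3 h4 (hconj u hu) (hconj u' hu') (htr u h1) (htr u' h2)
      (c⁻¹ * y * c) (mem_cj.mp hy)
    calc (u * u') * y = c * (((c⁻¹ * u * c) * (c⁻¹ * u' * c)) * (c⁻¹ * y * c)) * c⁻¹ := by group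
      _ = c * ((c⁻¹ * y * c) * ((c⁻¹ * u * c) * (c⁻¹ * u' * c))) * c⁻¹ := by rw [h5]
      _ = y * (u * u') := by group
  -- `b` does not fix `V 0`
  have hnf : cj b (V 0) ≠ V 0 := fun hi =>
    hab (comm_of_fix h o hcM hUc hb (fix_all o (hcU hb) hi) a ha)
  have hnc : ∀ v ∈ V 0, v ≠ 1 → v * b ≠ b * v := by
    intro v hv hv1 h0
    exact hnf (norm_of_fix o (hcU hb) hv hv1 h0.symm 0)
  obtain ⟨w, hw, hw1, -⟩ := Four.exists_other (o.card 0) 1
  obtain ⟨v, hv, hv1, hvw⟩ := Four.exists_other (o.card 0) w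
  have hwv : w * v ≠ 1 := by
    intro h0
    apply hvw
    have hww := vv_mul_self (V_le o 0 hw)
    calc v = (w * w) * v := by rw [hww, one_mul]
      _ = w * (w * v) := by group
      _ = w := by rw [h0, mul_one]
  exact hnc _ (mul_mem hw hv) hwv (hsym _ (V_le o 0 hw) _ (V_le o 0 hv)
    ⟨b, hb, hnc _ hw hw1⟩ ⟨b, hb, hnc _ hv hv1⟩ b hb)

/-! ### Theorem D -/

theorem le_centralizer (o : Pre (S : Subgroup G) V z) :
    (S : Subgroup G) ≤ centralizer ({z} : Set G) := fun s hs => by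
  rw [mem_centralizer_singleton_iff]
  exact (ChoiceBase.mem_zc.1 o.z_mem).2.2 s hs

theorem centralizer_le_CC (o : Pre (S : Subgroup G) V z) :
    centralizer ({z} : Set G) ≤ CC (S : Subgroup G) := by
  intro c hc
  rw [mem_centralizer_iff]
  intro x hx
  rcases o.Z x hx with rfl | rfl
  · simp
  · exact (mem_centralizer_singleton_iff.1 hc).symm

theorem z_sq (o : Pre (S : Subgroup G) V z) : z ^ 2 = 1 := (ChoiceBase.mem_zc.1 o.z_mem).2.1

/-- **The hypotheses of Theorem D.** -/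
theorem ctx (h : ESit S) (o : Pre (S : Subgroup G) V z)
    (hn : ¬ vv (S : Subgroup G) ≤ o2 (centralizer ({z} : Set G))) :
    CaseDDefs.Ctx (S : Subgroup G) (LL (S : Subgroup G)) (centralizer ({z} : Set G))
      (vv (S : Subgroup G)) where
  hloc := fun R hR hR1 => h.solv _ (Basic.isTwoLocal_normalizer hR hR1)
  S2 := S.isPGroup'
  SP := h.le_LL
  SP₂ := le_centralizer o
  sylP := Basic.not_dvd_relIndex S h.le_LL
  sylP₂ := Basic.not_dvd_relIndex S (le_centralizer o)
  solP := h.solv _ h.isTwoLocal_LL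
  solP₂ := h.solv _ (EmptyTI.isTwoLocal_centralizer (vv_le_zj _ (zc_le_vv _ o.z_mem)) o.z_ne)
  Zne := h.zc_ne_bot
  VS := vv_le
  ZV := zc_le_vv _
  PV := le_rfl
  Vcomm := fun _ hv _ hw => vv_comm hv hw
  Vsq := fun _ hv => vv_mul_self hv
  core := fun N hNM hN hpow => by
    have h1 := Basic.le_centralizer_zl_of_pow (S := (S : Subgroup G)) h.le_LL S.isPGroup'
      (Basic.not_dvd_relIndex S h.le_LL) hNM hN (by rw [h.zl_LL]; exact hpow)
    rwa [h.zl_LL] at h1
  CVP := by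
    rw [eq_bot_iff]
    rintro u ⟨hu, huL⟩
    rw [mem_bot]
    exact h.eq_one_of_comm hu fun s hs => mem_centralizer_iff.1 huL s hs
  Z₂ := centralizer_le_CC o
  char := Basic.char2_centralizer h.char2 (z_sq o) o.z_ne
  Vnle := hn

/-- `V ≤ O₂(C_G(z))`, from Theorem D. -/
theorem vv_le_o2 (h : ESit S) (o : Pre (S : Subgroup G) V z) :
    vv (S : Subgroup G) ≤ o2 (centralizer ({z} : Set G)) := by
  have hf : Fact (Nat.Prime 2) := ⟨Nat.prime_two⟩
  by_contra hn
  exact CaseDFinal.theoremD (ctx h o hn)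
    (Basic.char2_normalizer h.char2 isPGroup_vv h.vv_ne_bot) S.not_dvd_index

/-- Every 2-local subgroup containing `L` is contained in `L`. -/
theorem le_LL_of_le (h : ESit S) {X : Subgroup G} (hX : IsTwoLocal X)
    (hLX : LL (S : Subgroup G) ≤ X) : X ≤ LL (S : Subgroup G) := by
  have hSX : (S : Subgroup G) ≤ X := h.le_LL.trans hLX
  refine (frattini_jcl S ((ChoiceBase.jj_le _).trans hSX)).trans
    (sup_le ?_ (inf_le_right.trans h.normalizer_le_LL))
  refine (h.jcl_le_centralizer hX hSX).trans ?_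
  refine (centralizer_le ?_).trans h.centralizer_vv_le_LL
  exact zl_mono (h.normalizer_le_LL.trans hLX)

/-- **The setting of (Omega).** -/
theorem om (h : ESit S) (o : OIn (S : Subgroup G) V z) : Om V (vv (S : Subgroup G)) z where
  two := ⟨0, 1, by omega⟩
  card := o.card
  indep := by
    rw [iSupIndep_pair (i := (0 : Fin 2)) (j := 1) (by omega) (by intro k; omega)]
    exact disjoint_iff.2 o.disj
  U_eq := o.sup
  comm := fun a ha b hb => vv_comm ha hb
  sq := fun a ha => vv_mul_self ha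
  perm := o.perm
  z_mem := zc_le_vv _ o.z_mem
  z_full := fun i => by
    obtain ⟨j, hj⟩ := exists_ne i
    rw [co_eq hj]
    exact o.z_not j
  not_le := fun h0 => h.not_CC_le (by
    refine le_trans ?_ h0
    intro c hc
    rw [mem_centralizer_singleton_iff]
    exact (mem_centralizer_iff.1 hc z o.z_mem).symm)
  cent_le := fun i u hu hu1 => by
    obtain ⟨j, hj⟩ := exists_ne i
    rw [co_eq hj] at hu
    exact cent_le h o.toPre hu hu1
  cent_V := fun i v hv hv1 => cent_V h o.toPre i hv hv1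
  TI := TI h o.toPre
  inter := fun g hg i => by
    obtain ⟨j, hj⟩ := exists_ne i
    rw [co_eq hj]
    exact inter h o.toPre hg j
  uc := fun c hc a ha b hb => uc h o.toPre (vv_le_o2 h o.toPre) hc ha hb
  syl := ⟨(S : Subgroup G), h.le_LL, le_centralizer o.toPre, Basic.not_dvd_relIndex S (le_centralizer o.toPre)⟩
  solv := h.solv _ (EmptyTI.isTwoLocal_centralizer (vv_le_zj _ (zc_le_vv _ o.z_mem)) o.z_ne)
  core := fun R hR hle X _ hXM hXR => by
    by_contra hR1
    exact hXM (hXR.trans (le_LL_of_le h ⟨R, hR, hR1, rfl⟩ hle))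
  t := fun i => by
    obtain ⟨t, ht, ⟨v, hv, hvt⟩, hj⟩ := o.t i
    exact ⟨t, h.le_LL ht, le_centralizer o.toPre ht, ⟨v, hv, hvt⟩, hj⟩

end Cfsg.Agent.MinSimple.EmptyE.ToOm
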