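import Cfsg.Agent.MinSimple.EmptyE.YPlug

/-!
# The case "(Empty)", Theorem E: the case (Y), from `MulAut V` to `G`

* `vvComm S` : the commutative group structure of `vv S`;
* `gy_of_caseY` : `YPlug.GY` from `Small.CaseY`.
-/

set_option autoImplicit false

namespace Cfsg.Agent.MinSimple.EmptyE.YPlugB

open Subgroup Cfsg Cfsg.Agent.ZN Cfsg.Agent.ZN.ChoiceBase Cfsg.Agent.ZN.ChoiceSit
open Cfsg.Agent.MinSimple.EmptyTI Cfsg.Agent.MinSimple.EmptySix
open Cfsg.Agent.MinSimple.EmptyMod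
open Cfsg.Agent.MinSimple.EmptyE.Closed Cfsg.Agent.MinSimple.EmptyE.YOf
open Cfsg.Agent.MinSimple.EmptyE.Hyper Cfsg.Agent.MinSimple.EmptyE.YPlug

universe u

variable {G : Type u} [Group G] [Finite G]

/-- `vv S` is commutative. -/
@[reducible]
noncomputable def vvComm (S : Sylow 2 G) : CommGroup ↥(vv (S : Subgroup G)) :=
  { (inferInstance : Group ↥(vv (S : Subgroup G))) with
    mul_comm := fun x y => Subtype.ext (vv_comm x.2 y.2) }

theorem gy_of_caseY {S : Sylow 2 G} (h : ESit S)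
    {φ : LL (S : Subgroup G) →* MulAut (vv (S : Subgroup G))}
    (hφ : ∀ (a : LL (S : Subgroup G)) (x : vv (S : Subgroup G)),
      ((φ a x : vv (S : Subgroup G)) : G) = a * x * (a : G)⁻¹)
    {T : Subgroup (MulAut (vv (S : Subgroup G)))}
    (hT : T = ((S : Subgroup G).subgroupOf (LL (S : Subgroup G))).map φ) {K : Subgroup G}
    (hK : K ≤ vv (S : Subgroup G)) {ε : MulAut (vv (S : Subgroup G))}
    (hc : @Small.CaseY (vv (S : Subgroup G)) (vvComm S) T (K.subgroupOf (vv (S : Subgroup G))) ε) :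
    ∃ e, GY S K e := by
  letI : CommGroup ↥(vv (S : Subgroup G)) := vvComm S
  have hker : ∀ a : LL (S : Subgroup G), φ a = 1 ↔
      (a : G) ∈ centralizer (vv (S : Subgroup G) : Set G) := by
    intro a
    rw [mem_cent]
    constructor
    · intro h v hv
      have h1 := hφ a ⟨v, hv⟩
      rw [h, MulAut.one_apply] at h1
      rw [comm_iff_conj]
      exact h1.symm
    · intro h
      ext x
      rw [MulAut.one_apply, hφ]
      exact comm_iff_conj.1 (h x x.2)
  have hS : ∀ {s : G}, s ∈ (S : Subgroup G) → s ∈ LL (S : Subgroup G) := fun hs => h.le_LL hs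
  have hmem : ∀ t ∈ T, ∃ s, ∃ hs : s ∈ (S : Subgroup G), φ ⟨s, hS hs⟩ = t := by
    intro t ht
    rw [hT] at ht
    obtain ⟨x, hx, rfl⟩ := ht
    exact ⟨x, hx, rfl⟩
  have hmap : ∀ {s : G} (hs : s ∈ (S : Subgroup G)), φ ⟨s, hS hs⟩ ∈ T := by
    intro s hs
    rw [hT]
    exact ⟨_, hs, rfl⟩
  -- congruence modulo the kernel
  have hcong : ∀ {a b : G} (ha : a ∈ LL (S : Subgroup G)) (hb : b ∈ LL (S : Subgroup G)),
      φ ⟨a, ha⟩ = φ ⟨b, hb⟩ → a * b⁻¹ ∈ centralizer (vv (S : Subgroup G) : Set G) := by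
    intro a b ha hb hab
    have h1 : φ (⟨a, ha⟩ * ⟨b, hb⟩⁻¹) = 1 := by
      rw [map_mul, map_inv, hab, mul_inv_cancel]
    exact (hker _).1 h1
  have hfix : ∀ {a v : G} (ha : a ∈ LL (S : Subgroup G)) (hv : v ∈ vv (S : Subgroup G)),
      φ ⟨a, ha⟩ ⟨v, hv⟩ = ⟨v, hv⟩ ↔ a * v = v * a := by
    intro a v ha hv
    rw [comm_iff_conj, ← hφ ⟨a, ha⟩ ⟨v, hv⟩]
    exact ⟨fun h1 => congrArg Subtype.val h1, fun h1 => Subtype.ext h1⟩
  have hzc : ∀ {v : G} (hv : v ∈ vv (S : Subgroup G)),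
      (⟨v, hv⟩ : vv (S : Subgroup G)) ∈ Small.fxG T ↔ v ∈ zc (S : Subgroup G) := by
    intro v hv
    constructor
    · intro h1
      refine h.mem_zc_of_comm hv fun s hs => ?_
      rw [← hfix (hS hs) hv]
      exact h1 _ (hmap hs)
    · intro h1 t ht
      obtain ⟨s, hs, rfl⟩ := hmem t ht
      rw [hfix]
      exact (ChoiceBase.mem_zc.1 h1).2.2 s hs
  obtain ⟨e, he, hee⟩ := hmem ε hc.mem
  refine ⟨e, { le := hK, card := ?_, e_mem := he, e_not := ?_, e_sq := ?_, fix := ?_, comm := ?_,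
               cases := ?_ }⟩
  · have h1 := hc.card
    rwa [Nat.card_congr (Subgroup.subgroupOfEquivOfLe hK).toEquiv] at h1
  · rw [← hker ⟨e, hS he⟩, hee]
    exact hc.ne
  · have h1 := hker (⟨e, hS he⟩ * ⟨e, hS he⟩)
    rw [map_mul, hee, hc.sq] at h1
    exact h1.1 rfl
  · intro v hv
    rw [← hfix (hS he) hv, hee]
    change (⟨v, hv⟩ : vv (S : Subgroup G)) ∈ fx ε ↔ _
    rw [hc.fx_eq, mem_subgroupOf]
  · intro v hv
    have h1 : (⟨v, hv⟩ : vv (S : Subgroup G)) * ε ⟨v, hv⟩ ∈ br ε := mem_br.2 ⟨_, rfl⟩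
    rw [hc.br_eq, mem_subgroupOf] at h1
    rw [← hee] at h1
    have h2 : e * v * e⁻¹ * v⁻¹ = v * (e * v * e⁻¹) := by
      have h3 : e * v * e⁻¹ ∈ vv (S : Subgroup G) := (mem_normalizer_iff.1 (hS he) v).1 hv
      rw [vv_inv hv, vv_comm h3 hv]
    rw [h2]
    have h3 := hφ ⟨e, hS he⟩ ⟨v, hv⟩
    rw [← h3]
    exact h1
  · rcases hc.cases with ⟨h1, h2⟩ | ⟨f, hf, hff, hTf, z, -, hz1, hz⟩
    · left
      refine ⟨?_, fun s hs => ?_⟩
      · ext v
        constructor
        · intro hv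
          have hv' := zc_le_vv _ hv
          have h3 := (hzc hv').2 hv
          rw [h2, mem_subgroupOf] at h3
          exact h3
        · intro hv
          rw [← hzc (hK hv), h2, mem_subgroupOf]
          exact hv
      · have h3 := hmap hs
        rw [h1, mem_zpowers_iff] at h3
        obtain ⟨k, hk⟩ := h3
        have h4 : ε ^ (2 : ℤ) = 1 := by
          rw [zpow_two, hc.sq]
        rcases Int.even_or_odd' k with ⟨m, hm | hm⟩
        · left
          rw [← hker ⟨s, hS hs⟩, ← hk, hm, zpow_mul, h4, one_zpow]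
        · right
          refine hcong (hS hs) (hS he) ?_
          rw [← hk, hm, zpow_add, zpow_mul, h4, one_zpow, one_mul, zpow_one, hee]
    · right
      obtain ⟨f₀, hf₀, rfl⟩ := hmem f hf
      refine ⟨?_, f₀, hf₀, ?_, fun s hs => ?_⟩
      · have hz' : (z : G) ∈ zc (S : Subgroup G) := by
          rw [← hzc z.2]
          exact (hz z).2 (Or.inr rfl)
        rw [Nat.card_eq_two_iff]
        refine ⟨⟨1, one_mem _⟩, ⟨z, hz'⟩, fun h0 => ?_, ?_⟩
        · exact hz1 (Subtype.ext (congrArg Subtype.val h0).symm)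
        · rw [Set.eq_univ_iff_forall]
          rintro ⟨v, hv⟩
          have h3 := (hz ⟨v, zc_le_vv _ hv⟩).1 ((hzc (zc_le_vv _ hv)).2 hv)
          rcases h3 with h3 | h3
          · left
            have h4 := congrArg Subtype.val h3
            exact Subtype.ext h4
          · right
            have h4 := congrArg Subtype.val h3
            exact Subtype.ext h4
      · have h3 := hcong (a := f₀ * f₀) (mul_mem (hS hf₀) (hS hf₀)) (hS he) (by
          rw [hee, ← hff, ← map_mul]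
          rfl)
        exact h3
      · have h3 := hmap hs
        rw [hTf, mem_zpowers_iff] at h3
        obtain ⟨k, hk⟩ := h3
        refine ⟨-k, ?_⟩
        have h4 := hcong (a := s) (b := f₀ ^ k) (hS hs) (zpow_mem (hS hf₀) k) (by
          rw [← hk, ← map_zpow]
          rfl)
        rwa [← zpow_neg] at h4

end Cfsg.Agent.MinSimple.EmptyE.YPlugB
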