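import Cfsg.Agent.MinSimple.EmptyE.SmallC
import Cfsg.Agent.MinSimple.EmptyE.Four
import Cfsg.Agent.MinSimple.EmptyE.ToOm
import Cfsg.Agent.MinSimple.EmptyE.YPlugB

/-!
# The case (Empty), Theorem E: from `G` to `Aut V`

`V = vv S` as a commutative group (`YPlugB.vvComm`), `act S : L →* Aut V`, `im S X` the image of `X ∩ L`.

* `syl_map`, `exists_syl_map` : Sylow 2-subgroups and homomorphisms;
* `hyp` : the input `Small.Hyp` of step 5;
* `main` : `|V| = 4` or the cases (Y), (X), (O) of step 5, unless `V` has a closed hyperplane.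
-/

set_option autoImplicit false

namespace Cfsg.Agent.MinSimple.EmptyE.Plug

open Subgroup Cfsg Cfsg.Agent.ZN Cfsg.Agent.ZN.ChoiceBase Cfsg.Agent.ZN.ChoiceSit
open Cfsg.Agent.MinSimple.EmptyTI Cfsg.Agent.MinSimple.EmptySix
open Cfsg.Agent.MinSimple.MinParabolic (IsMinPar)
open Cfsg.Agent.MinSimple.EmptyE.Closed Cfsg.Agent.MinSimple.EmptyE.Hyper
open Cfsg.Agent.MinSimple.EmptyE.Small Cfsg.Agent.MinSimple.EmptyMod

universe u

/-! ### Sylow subgroups and homomorphisms -/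

section SylMap

/-- a 2-subgroup of odd index is a maximal 2-subgroup -/
theorem syl_of_not_dvd {B : Type u} [Group B] [Finite B] {T X : Subgroup B} (hTX : T ≤ X)
    (hT : IsPGroup 2 T) (h : ¬ 2 ∣ T.relIndex X) : Syl T X := by
  have hf : Fact (Nat.Prime 2) := ⟨Nat.prime_two⟩
  refine ⟨hTX, hT, fun Q hQX hQ hTQ => ?_⟩
  have h1 : T.relIndex Q ∣ T.relIndex X := ⟨_, (relIndex_mul_relIndex _ _ _ hTQ hQX).symm⟩
  have h2 := card_mul_relIndex' hTQ
  obtain ⟨n, hn⟩ := IsPGroup.iff_card.mp hQ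
  have h3 : T.relIndex Q ∣ 2 ^ n := ⟨Nat.card T, by rw [← hn, ← h2, mul_comm]⟩
  obtain ⟨k, -, hk⟩ := (Nat.dvd_prime_pow Nat.prime_two).1 h3
  have hk0 : k = 0 := by
    by_contra hk0
    apply h
    refine dvd_trans ?_ h1
    rw [hk]
    exact dvd_pow_self 2 hk0
  rw [hk0, pow_zero] at hk
  exact le_antisymm (relIndex_eq_one.1 hk) hTQ

theorem syl_cj {A : Type u} [Group A] {T X : Subgroup A} (hT : Syl T X) {a : A} (ha : a ∈ X) :
    Syl (cj a T) X := by
  have hX : cj a X = X := cj_eq_of_mem_normalizer (le_normalizer ha)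
  refine ⟨?_, isPGroup_cj a hT.2.1, fun Q hQX hQ hTQ => ?_⟩
  · rw [← hX]
    exact cj_mono a hT.1
  · have h1 : cj a⁻¹ Q = T := by
      refine hT.2.2 _ ?_ (isPGroup_cj _ hQ) ?_
      · have hX' : cj a⁻¹ X = X := cj_eq_of_mem_normalizer (le_normalizer (inv_mem ha))
        rw [← hX']
        exact cj_mono _ hQX
      · have := cj_mono a⁻¹ hTQ
        rwa [cj_inv_cj] at this
    rw [← h1, cj_cj, mul_inv_cancel, cj_one]

variable {A : Type u} {B : Type u} [Group A] [Group B] [Finite A] [Finite B] {T X : Subgroup A}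

theorem syl_map (f : A →* B) (hT : Syl T X) : Syl (T.map f) (X.map f) := by
  refine syl_of_not_dvd (Subgroup.map_mono hT.1) (hT.2.1.map f) fun h0 => ?_
  apply syl_not_dvd hT
  refine h0.trans ?_
  rw [← relIndex_comap]
  exact relIndex_dvd_of_le_left _ (le_comap_map _ _)

omit [Finite A] [Finite B] in
theorem map_cj (f : A →* B) (a : A) (T : Subgroup A) : (cj a T).map f = cj (f a) (T.map f) := by
  ext x
  constructor
  · rintro ⟨_, ⟨t, ht, rfl⟩, rfl⟩
    refine ⟨f t, ⟨t, ht, rfl⟩, ?_⟩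
    change f a * f t * (f a)⁻¹ = f (a * t * a⁻¹)
    rw [map_mul, map_mul, map_inv]
  · rintro ⟨_, ⟨t, ht, rfl⟩, rfl⟩
    refine ⟨a * t * a⁻¹, ⟨t, ht, rfl⟩, ?_⟩
    change f (a * t * a⁻¹) = f a * f t * (f a)⁻¹
    rw [map_mul, map_mul, map_inv]

theorem exists_syl_map (f : A →* B) {T' : Subgroup B} (hT' : Syl T' (X.map f)) :
    ∃ T, Syl T X ∧ T.map f = T' := by
  obtain ⟨T₀, hT₀, -⟩ := exists_syl (T := (⊥ : Subgroup A)) (X := X) IsPGroup.of_bot bot_le
  obtain ⟨_, ⟨a, ha, rfl⟩, h1⟩ := syl_conj (syl_map f hT₀) hT'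
  exact ⟨cj a T₀, syl_cj hT₀ ha, by rw [map_cj, h1]⟩

end SylMap

/-! ### The action of `L` on `V` -/

variable {G : Type u} [Group G]

/-- The action of `L` on `V`. -/
def act (S : Subgroup G) : LL S →* MulAut (vv S) := (vv S).normalizerMonoidHom

theorem act_apply {S : Subgroup G} (g : LL S) (v : vv S) :
    (act S g v : G) = g * v * (g : G)⁻¹ := rfl

/-- The image of `X ∩ L` in `Aut V`. -/
def im (S X : Subgroup G) : Subgroup (MulAut (vv S)) := (X.subgroupOf (LL S)).map (act S)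

theorem mem_im {S X : Subgroup G} {γ : MulAut (vv S)} :
    γ ∈ im S X ↔ ∃ g, ∃ hg : g ∈ LL S, g ∈ X ∧ act S ⟨g, hg⟩ = γ := by
  constructor
  · rintro ⟨g, hg, rfl⟩
    exact ⟨g, g.2, hg, rfl⟩
  · rintro ⟨g, hg, hgX, rfl⟩
    exact ⟨⟨g, hg⟩, hgX, rfl⟩

theorem im_mono {S X Y : Subgroup G} (h : X ≤ Y) : im S X ≤ im S Y :=
  Subgroup.map_mono fun _ hg => h hg

/-- Elements of `V` fixed by `g`. -/
theorem act_eq_iff {S : Subgroup G} {g : LL S} {v : vv S} :
    act S g v = v ↔ (g : G) * v = v * g := by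
  rw [Subtype.ext_iff, act_apply, mul_inv_eq_iff_eq_mul]

theorem act_eq_one_iff {S : Subgroup G} {g : LL S} :
    act S g = 1 ↔ (g : G) ∈ centralizer (vv S : Set G) := by
  rw [mem_centralizer_iff]
  constructor
  · intro h v hv
    have h1 : act S g ⟨v, hv⟩ = ⟨v, hv⟩ := by rw [h]; rfl
    exact (act_eq_iff.1 h1).symm
  · intro h
    ext v
    exact congrArg Subtype.val (act_eq_iff.2 (h v v.2).symm)

/-- `|im X| = |X : C_X(V)|` -/
theorem card_im [Finite G] {S X : Subgroup G} (hX : X ≤ LL S) :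
    Nat.card (im S X) = (centralizer (vv S : Set G)).relIndex X := by
  have h1 : (act S).ker = (centralizer (vv S : Set G)).subgroupOf (LL S) :=
    (vv S).normalizerMonoidHom_ker
  have h2 : Nat.card (im S X) = (act S).ker.relIndex (X.subgroupOf (LL S)) := by
    rw [im, ← relIndex_bot_left, ← relIndex_comap, MonoidHom.comap_bot]
  rw [h2, h1, relIndex_subgroupOf hX]

/-! ### The input of step 5 -/

section Input

variable [Finite G] {S : Sylow 2 G}

attribute [local instance] YPlugB.vvComm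

theorem syl_im {T X : Subgroup G} (hT : Syl T X) (hX : X ≤ LL (S : Subgroup G)) :
    Syl (im (S : Subgroup G) T) (im (S : Subgroup G) X) := by
  refine syl_map _ ⟨fun t ht => hT.1 ht, hT.2.1.comap_of_injective _ (LL (S : Subgroup G)).subtype_injective,
    fun Q hQX hQ hTQ => ?_⟩
  have h1 := hT.2.2 (Q.map (LL (S : Subgroup G)).subtype) ?_ (hQ.map _) ?_
  · rw [← h1]
    exact (comap_map_eq_self_of_injective (LL (S : Subgroup G)).subtype_injective Q).symm
  · rintro _ ⟨q, hq, rfl⟩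
    exact hQX hq
  · intro t ht
    exact ⟨⟨t, hX (hT.1 ht)⟩, hTQ ht, rfl⟩

theorem exists_im_syl {X : Subgroup G} (hX : X ≤ LL (S : Subgroup G))
    {T' : Subgroup (MulAut (vv (S : Subgroup G)))} (hT' : Syl T' (im (S : Subgroup G) X)) :
    ∃ T, Syl T X ∧ im (S : Subgroup G) T = T' := by
  obtain ⟨T, hT, rfl⟩ := exists_syl_map (act (S : Subgroup G)) hT'
  refine ⟨T.map (LL (S : Subgroup G)).subtype, ?_, ?_⟩
  · have h1 := syl_map (LL (S : Subgroup G)).subtype hT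
    rwa [subgroupOf_map_subtype, inf_eq_left.2 hX] at h1
  · rw [im]
    congr 1
    exact comap_map_eq_self_of_injective (LL (S : Subgroup G)).subtype_injective T

theorem im_inf_st (u : vv (S : Subgroup G)) :
    im (S : Subgroup G) (LL (S : Subgroup G)) ⊓ st u =
      im (S : Subgroup G) (LL (S : Subgroup G) ⊓ centralizer ({(u : G)} : Set G)) := by
  ext γ
  rw [mem_inf, mem_im, mem_im]
  constructor
  · rintro ⟨⟨g, hg, -, rfl⟩, hu⟩
    refine ⟨g, hg, mem_inf.2 ⟨hg, ?_⟩, rfl⟩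
    rw [mem_centralizer_singleton_iff]
    exact act_eq_iff.1 hu
  · rintro ⟨g, hg, hgX, rfl⟩
    refine ⟨⟨g, hg, hg, rfl⟩, ?_⟩
    have h1 := (mem_inf.1 hgX).2
    rw [mem_centralizer_singleton_iff] at h1
    exact act_eq_iff.2 h1

theorem o2_im (h : ESit S) : o2 (im (S : Subgroup G) (LL (S : Subgroup G))) = ⊥ := by
  obtain ⟨Γ, hΓ⟩ : ∃ Γ, Γ = im (S : Subgroup G) (LL (S : Subgroup G)) := ⟨_, rfl⟩
  rw [← hΓ, eq_bot_iff]
  intro γ hγ
  have hsyl : Syl (im (S : Subgroup G) (S : Subgroup G)) Γ := by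
    rw [hΓ]
    exact syl_im (syl_of_le h.le_LL) le_rfl
  have hle : o2 Γ ≤ im (S : Subgroup G) (S : Subgroup G) :=
    VModule.o2_le_of_sylow hsyl.2.1 (syl_not_dvd hsyl)
  have h1 : vv (S : Subgroup G) ≤ (fx γ).map (vv (S : Subgroup G)).subtype := by
    refine h.vv_le_of_forall fun g hg => ?_
    rintro _ ⟨z, hz, rfl⟩
    have hzV : z ∈ vv (S : Subgroup G) := zc_le_vv _ hz
    have hδ : act (S : Subgroup G) ⟨g, hg⟩ ∈ Γ := by
      rw [hΓ]
      exact mem_im.2 ⟨g, hg, hg, rfl⟩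
    have h2 : (act (S : Subgroup G) ⟨g, hg⟩)⁻¹ * γ * act (S : Subgroup G) ⟨g, hg⟩ ∈ o2 Γ := by
      have h3 := ChoiceSit.le_normalizer_o2 Γ (inv_mem hδ)
      have h4 := (mem_normalizer_iff.1 h3 γ).1 hγ
      rwa [inv_inv] at h4
    obtain ⟨s, hs, hsS, hse⟩ := mem_im.1 (hle h2)
    have h3 : act (S : Subgroup G) ⟨s, hs⟩ ⟨z, hzV⟩ = ⟨z, hzV⟩ :=
      act_eq_iff.2 ((ChoiceBase.mem_zc.1 hz).2.2 s hsS)
    refine ⟨act (S : Subgroup G) ⟨g, hg⟩ ⟨z, hzV⟩, ?_, rfl⟩
    change γ (act (S : Subgroup G) ⟨g, hg⟩ ⟨z, hzV⟩) = act (S : Subgroup G) ⟨g, hg⟩ ⟨z, hzV⟩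
    have h4 : γ * act (S : Subgroup G) ⟨g, hg⟩ =
        act (S : Subgroup G) ⟨g, hg⟩ * act (S : Subgroup G) ⟨s, hs⟩ := by
      rw [hse]; group
    rw [← MulAut.mul_apply, h4, MulAut.mul_apply, h3]
  rw [mem_bot]
  ext v
  obtain ⟨w, hw, hwv⟩ := h1 v.2
  have h2 : w = v := Subtype.ext hwv
  subst h2
  exact congrArg Subtype.val hw

theorem hyp (h : ESit S) {x : G} {E : Subgroup G}
    (hZ : zc (S : Subgroup G) ≤ hh (S : Subgroup G) x)
    (hne : hh (S : Subgroup G) x ≠ vv (S : Subgroup G))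
    (hcl : ∀ u ∈ hh (S : Subgroup G) x, u ≠ 1 → cl (S : Subgroup G) u ≤ hh (S : Subgroup G) x)
    (hES : E ≤ (S : Subgroup G)) (hE : IsElementaryAbelian 2 E)
    (hEc : E ≤ centralizer (hh (S : Subgroup G) x : Set G))
    (hcard : Nat.card (vv (S : Subgroup G)) ≤ 2 * Nat.card (hh (S : Subgroup G) x) *
      (centralizer (vv (S : Subgroup G) : Set G)).relIndex E)
    (hno : Nat.card (vv (S : Subgroup G)) ≠ 2 * Nat.card (hh (S : Subgroup G) x)) :
    Hyp (V := vv (S : Subgroup G)) (im (S : Subgroup G) (LL (S : Subgroup G)))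
      (im (S : Subgroup G) (S : Subgroup G)) (im (S : Subgroup G) E)
      ((hh (S : Subgroup G) x).subgroupOf (vv (S : Subgroup G))) where
  sq := fun v => Subtype.ext (vv_mul_self v.2)
  solv := by
    have h1 := h.solv _ h.isTwoLocal_LL
    have h2 : Group.IsSolvable ((LL (S : Subgroup G)).subgroupOf (LL (S : Subgroup G))) := inferInstance
    exact Group.isSolvable_of_surjective
      ((act (S : Subgroup G)).subgroupMap_surjective ((LL (S : Subgroup G)).subgroupOf (LL (S : Subgroup G))))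
  o2 := o2_im h
  syl := syl_im (syl_of_le h.le_LL) le_rfl
  le := im_mono hES
  Esq := by
    intro e he
    obtain ⟨g, hg, hgE, rfl⟩ := mem_im.1 he
    have h1 : (⟨g, hg⟩ : LL (S : Subgroup G)) * ⟨g, hg⟩ = 1 := Subtype.ext (by
      have := hE.2 g hgE
      rwa [pow_two] at this)
    rw [← map_mul, h1, map_one]
  Ene := by
    intro h0
    have h1 := card_im (S := (S : Subgroup G)) (hES.trans h.le_LL)
    rw [h0, card_bot] at h1
    rw [← h1, mul_one] at hcard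
    have h2 := card_mul_relIndex' (H := hh (S : Subgroup G) x) (K := vv (S : Subgroup G)) inf_le_left
    have h3 : (hh (S : Subgroup G) x).relIndex (vv (S : Subgroup G)) ≠ 1 := fun h4 =>
      hne (le_antisymm inf_le_left (relIndex_eq_one.1 h4))
    have h5 : 0 < Nat.card (hh (S : Subgroup G) x) := Nat.card_pos
    have h6 : (hh (S : Subgroup G) x).relIndex (vv (S : Subgroup G)) ≤ 2 := by
      by_contra h7
      push Not at h7
      have h8 := Nat.mul_le_mul_left (Nat.card (hh (S : Subgroup G) x)) h7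
      change Nat.card (hh (S : Subgroup G) x) * 3 ≤ _ at h8
      omega
    have h7 : (hh (S : Subgroup G) x).relIndex (vv (S : Subgroup G)) ≠ 0 := by
      intro h8
      rw [h8, mul_zero] at h2
      have : 0 < Nat.card (vv (S : Subgroup G)) := Nat.card_pos
      omega
    have h8 : (hh (S : Subgroup G) x).relIndex (vv (S : Subgroup G)) = 2 := by omega
    apply hno
    rw [← h2, h8, mul_comm]
  ne_top := by
    intro h0
    rw [subgroupOf_eq_top] at h0
    exact hne (le_antisymm inf_le_left h0)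
  fixT := by
    intro v hv
    change (v : G) ∈ hh (S : Subgroup G) x
    refine hZ (h.mem_zc_of_comm v.2 fun s hs => ?_)
    exact act_eq_iff.1 (hv _ (mem_im.2 ⟨s, h.le_LL hs, hs, rfl⟩))
  fix := by
    intro e he v hv
    obtain ⟨g, hg, hgE, rfl⟩ := mem_im.1 he
    refine act_eq_iff.2 ?_
    exact (mem_centralizer_iff.1 (hEc hgE) v hv).symm
  index := by
    rw [card_im (hES.trans h.le_LL)]
    have h2 := card_mul_relIndex' (H := hh (S : Subgroup G) x) (K := vv (S : Subgroup G)) inf_le_left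
    have h5 : 0 < Nat.card (hh (S : Subgroup G) x) := Nat.card_pos
    change (hh (S : Subgroup G) x).relIndex (vv (S : Subgroup G)) ≤ _
    refine le_of_mul_le_mul_left (a := Nat.card (hh (S : Subgroup G) x)) ?_ h5
    rw [h2]
    calc Nat.card (vv (S : Subgroup G)) ≤ _ := hcard
      _ = _ := by ring
  nofix := by
    intro v hv
    refine Subtype.ext (h.eq_one_of_comm v.2 fun s hs => ?_)
    exact act_eq_iff.1 (hv _ (mem_im.2 ⟨s, hs, hs, rfl⟩))
  closed := by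
    intro u hu hu1 T' hT' v hv
    rw [im_inf_st] at hT'
    obtain ⟨T, hT, rfl⟩ := exists_im_syl inf_le_left hT'
    have hu1' : (u : G) ≠ 1 := fun h0 => hu1 (Subtype.ext h0)
    change (v : G) ∈ hh (S : Subgroup G) x
    apply hcl u hu hu1'
    apply h.inf_centralizer_le u.2 hu1' hT
    refine mem_inf.2 ⟨v.2, ?_⟩
    rw [mem_centralizer_iff]
    intro t ht
    exact act_eq_iff.1 (hv _ (mem_im.2 ⟨t, (hT.1 ht).1, ht, rfl⟩))

/-- `V = V₁ × V₂` in `G`. -/
theorem pre_of (h : ESit S) {V₁ V₂ : Subgroup (vv (S : Subgroup G))} {z : vv (S : Subgroup G)}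
    (ne : z ≠ 1)
    (fixT : ∀ v : vv (S : Subgroup G), v ∈ fxG (im (S : Subgroup G) (S : Subgroup G)) ↔ v = 1 ∨ v = z)
    (card₁ : Nat.card V₁ = 4) (card₂ : Nat.card V₂ = 4) (inf : V₁ ⊓ V₂ = ⊥) (sup : V₁ ⊔ V₂ = ⊤)
    (perm : ∀ g ∈ im (S : Subgroup G) (LL (S : Subgroup G)),
      ((∀ v ∈ V₁, g v ∈ V₁) ∧ ∀ v ∈ V₂, g v ∈ V₂) ∨ ((∀ v ∈ V₁, g v ∈ V₂) ∧ ∀ v ∈ V₂, g v ∈ V₁))
    (d₁ : ∃ d ∈ im (S : Subgroup G) (LL (S : Subgroup G)), (∀ v ∈ V₁, d v = v → v = 1) ∧
      ∀ v ∈ V₂, d v = v)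
    (d₂ : ∃ d ∈ im (S : Subgroup G) (LL (S : Subgroup G)), (∀ v ∈ V₂, d v = v → v = 1) ∧
      ∀ v ∈ V₁, d v = v)
    (not₁ : z ∉ V₁) (not₂ : z ∉ V₂) {V : Fin 2 → Subgroup G}
    (hV0 : V 0 = V₁.map (vv (S : Subgroup G)).subtype)
    (hV1 : V 1 = V₂.map (vv (S : Subgroup G)).subtype) :
    ToOm.Pre (S : Subgroup G) V (z : G) := by
  have hinj := (vv (S : Subgroup G)).subtype_injective
  have hcard : ∀ i, Nat.card (V i) = 4 := by
    rw [Fin.forall_fin_two, hV0, hV1]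
    rw [Subgroup.card_map_of_injective hinj, Subgroup.card_map_of_injective hinj]
    exact ⟨card₁, card₂⟩
  have hcj : ∀ (g : G) (hg : g ∈ LL (S : Subgroup G)) (A B : Subgroup (vv (S : Subgroup G))),
      Nat.card A = 4 → Nat.card B = 4 → (∀ v ∈ A, act (S : Subgroup G) ⟨g, hg⟩ v ∈ B) →
      cj g (A.map (vv (S : Subgroup G)).subtype) = B.map (vv (S : Subgroup G)).subtype := by
    intro g hg A B hA hB hAB
    refine eq_of_le_of_card_ge ?_ ?_
    · rintro _ ⟨_, ⟨v, hv, rfl⟩, rfl⟩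
      exact ⟨_, hAB v hv, rfl⟩
    · rw [card_cj, Subgroup.card_map_of_injective hinj, Subgroup.card_map_of_injective hinj, hA, hB]
  have hmem : ∀ (A : Subgroup (vv (S : Subgroup G))) (v : vv (S : Subgroup G)),
      (v : G) ∈ A.map (vv (S : Subgroup G)).subtype ↔ v ∈ A := by
    intro A v
    constructor
    · rintro ⟨w, hw, hwv⟩
      have : w = v := Subtype.ext hwv
      rwa [← this]
    · intro hv
      exact ⟨v, hv, rfl⟩
  exact
  { sup := by
      apply le_antisymm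
      · refine iSup_le ?_
        rw [Fin.forall_fin_two, hV0, hV1]
        exact ⟨map_subtype_le _, map_subtype_le _⟩
      · intro v hv
        have h1 : (⟨v, hv⟩ : vv (S : Subgroup G)) ∈ V₁ ⊔ V₂ := by rw [sup]; trivial
        obtain ⟨a, ha, b, hb, hab⟩ := mem_sup.1 h1
        have h2 : (a : G) * b = v := congrArg Subtype.val hab
        rw [← h2]
        refine mul_mem ((le_iSup V 0) ?_) ((le_iSup V 1) ?_)
        · rw [hV0]; exact (hmem _ _).2 ha
        · rw [hV1]; exact (hmem _ _).2 hb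
    disj := by
      rw [hV0, hV1, ← Subgroup.map_inf _ _ _ hinj, inf, Subgroup.map_bot]
    card := hcard
    perm := by
      intro g hg
      rw [Fin.forall_fin_two, hV0, hV1]
      rcases perm _ (mem_im.2 ⟨g, hg, hg, rfl⟩) with ⟨h1, h2⟩ | ⟨h1, h2⟩
      · exact ⟨⟨0, by rw [hV0]; exact hcj g hg _ _ card₁ card₁ h1⟩,
          ⟨1, by rw [hV1]; exact hcj g hg _ _ card₂ card₂ h2⟩⟩
      · exact ⟨⟨1, by rw [hV1]; exact hcj g hg _ _ card₁ card₂ h1⟩,
          ⟨0, by rw [hV0]; exact hcj g hg _ _ card₂ card₁ h2⟩⟩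
    z_mem := by
      have h1 : z ∈ fxG (im (S : Subgroup G) (S : Subgroup G)) := (fixT z).2 (Or.inr rfl)
      refine h.mem_zc_of_comm z.2 fun s hs => ?_
      exact act_eq_iff.1 (h1 _ (mem_im.2 ⟨s, h.le_LL hs, hs, rfl⟩))
    z_ne := fun h0 => ne (Subtype.ext h0)
    Z := by
      intro x hx
      have h1 : (⟨x, zc_le_vv _ hx⟩ : vv (S : Subgroup G)) ∈
          fxG (im (S : Subgroup G) (S : Subgroup G)) := by
        intro γ hγ
        obtain ⟨s, hs, hsS, rfl⟩ := mem_im.1 hγ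
        exact act_eq_iff.2 ((ChoiceBase.mem_zc.1 hx).2.2 s hsS)
      rcases (fixT _).1 h1 with h2 | h2
      · left; exact congrArg Subtype.val h2
      · right; exact congrArg Subtype.val h2
    z_not := by
      rw [Fin.forall_fin_two, hV0, hV1]
      exact ⟨fun h0 => not₁ ((hmem _ _).1 h0), fun h0 => not₂ ((hmem _ _).1 h0)⟩
    d := by
      obtain ⟨δ₁, hδ₁, a₁, b₁⟩ := d₁
      obtain ⟨δ₂, hδ₂, a₂, b₂⟩ := d₂
      obtain ⟨e₁, he₁, -, rfl⟩ := mem_im.1 hδ₁
      obtain ⟨e₂, he₂, -, rfl⟩ := mem_im.1 hδ₂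
      rw [Fin.forall_fin_two]
      refine ⟨⟨e₁, he₁, ?_, ?_⟩, ⟨e₂, he₂, ?_, ?_⟩⟩
      · rw [hV0]
        rintro _ ⟨v, hv, rfl⟩ hc
        exact congrArg Subtype.val (a₁ v hv (act_eq_iff.2 hc))
      · intro j hj
        have hj1 : j = 1 := by omega
        rw [hj1, hV1]
        rintro _ ⟨v, hv, rfl⟩
        exact act_eq_iff.1 (b₁ v hv)
      · rw [hV1]
        rintro _ ⟨v, hv, rfl⟩ hc
        exact congrArg Subtype.val (a₂ v hv (act_eq_iff.2 hc))
      · intro j hj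
        have hj1 : j = 0 := by omega
        rw [hj1, hV0]
        rintro _ ⟨v, hv, rfl⟩
        exact act_eq_iff.1 (b₂ v hv) }

/-- The case (O), in `G`. -/
theorem in_of_caseO (h : ESit S) {V₁ V₂ : Subgroup (vv (S : Subgroup G))} {z : vv (S : Subgroup G)}
    (hO : CaseO (im (S : Subgroup G) (LL (S : Subgroup G))) (im (S : Subgroup G) (S : Subgroup G))
      V₁ V₂ z) : ∃ V : Fin 2 → Subgroup G, ToOm.OIn (S : Subgroup G) V (z : G) := by
  obtain ⟨V, hV0, hV1⟩ : ∃ V : Fin 2 → Subgroup G, V 0 = V₁.map (vv (S : Subgroup G)).subtype ∧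
      V 1 = V₂.map (vv (S : Subgroup G)).subtype := ⟨![_, _], rfl, rfl⟩
  have hpre : ToOm.Pre (S : Subgroup G) V (z : G) := by
    refine pre_of h hO.ne hO.fixT hO.card₁ hO.card₂ hO.inf hO.sup hO.perm ?_ ?_ hO.not₁ hO.not₂ hV0 hV1
    · obtain ⟨d, hd, h1, -, h2⟩ := hO.d₁
      exact ⟨d, hd, h1, h2⟩
    · obtain ⟨d, hd, h1, -, h2⟩ := hO.d₂
      exact ⟨d, hd, h1, h2⟩
  exact ⟨V,
    { toPre := hpre
      t := by
        obtain ⟨τ₁, hτ₁, ⟨v₁, hv₁, c₁⟩, -, b₁⟩ := hO.t₁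
        obtain ⟨τ₂, hτ₂, ⟨v₂, hv₂, c₂⟩, -, b₂⟩ := hO.t₂
        obtain ⟨t₁, ht₁, ht₁S, rfl⟩ := mem_im.1 hτ₁
        obtain ⟨t₂, ht₂, ht₂S, rfl⟩ := mem_im.1 hτ₂
        rw [Fin.forall_fin_two]
        refine ⟨⟨t₁, ht₁S, ⟨v₁, ?_, fun hc => c₁ (act_eq_iff.2 hc)⟩, ?_⟩,
          ⟨t₂, ht₂S, ⟨v₂, ?_, fun hc => c₂ (act_eq_iff.2 hc)⟩, ?_⟩⟩
        · rw [hV0]; exact ⟨v₁, hv₁, rfl⟩
        · intro j hj
          have hj1 : j = 1 := by omega
          rw [hj1, hV1]
          rintro _ ⟨v, hv, rfl⟩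
          exact act_eq_iff.1 (b₁ v hv)
        · rw [hV1]; exact ⟨v₂, hv₂, rfl⟩
        · intro j hj
          have hj1 : j = 0 := by omega
          rw [hj1, hV0]
          rintro _ ⟨v, hv, rfl⟩
          exact act_eq_iff.1 (b₂ v hv) }⟩

end Input

end Cfsg.Agent.MinSimple.EmptyE.Plug
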