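import Cfsg.Agent.MinSimple.EmptyE.SmallB

/-!
# The case "(Empty)", step 5: the conclusion

`main` : `|V| = 4`, or `|V| = 16` and `CaseY`, `CaseX` or `CaseO`.
-/

set_option autoImplicit false

namespace Cfsg.Agent.MinSimple.EmptyE.SmallC

open Subgroup Cfsg Cfsg.Agent.ZN Cfsg.Agent.ZN.ChoiceBase Cfsg.Agent.ZN.ChoiceSit
open Cfsg.Agent.MinSimple.EmptyMod Cfsg.Agent.MinSimple.EmptyE.Small
open Cfsg.Agent.MinSimple.EmptyE.SmallB

universe u

variable {V : Type u} [CommGroup V] [Finite V]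

variable {Γ T E : Subgroup (MulAut V)} {H : Subgroup V} {d₁ d₂ : MulAut V}

theorem decomp (p : Pr Γ d₁ d₂) (v : V) : ∃ x ∈ fx d₂, ∃ y ∈ fx d₁, x * y = v := by
  have h1 : v ∈ fx d₂ ⊔ fx d₁ := by rw [sup_comm, p.sup]; exact mem_top v
  exact mem_sup.1 h1

omit [Finite V] in
theorem uniq (p : Pr Γ d₁ d₂) {x x' y y' : V} (hx : x ∈ fx d₂) (hx' : x' ∈ fx d₂) (hy : y ∈ fx d₁)
    (hy' : y' ∈ fx d₁) (h : x * y = x' * y') : x = x' ∧ y = y' := by
  have h1 : x'⁻¹ * x = y' * y⁻¹ := by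
    rw [inv_mul_eq_iff_eq_mul, ← mul_assoc, ← h, mul_inv_cancel_right]
  have h2 : x'⁻¹ * x ∈ fx d₂ ⊓ fx d₁ :=
    mem_inf.2 ⟨mul_mem (inv_mem hx') hx, by rw [h1]; exact mul_mem hy' (inv_mem hy)⟩
  rw [p.inf', mem_bot, inv_mul_eq_one] at h2
  rw [← h2] at h
  exact ⟨h2.symm, mul_left_cancel h⟩

/-- Closedness: if `H` meets `V₁` nontrivially then `V₂ ≤ H`. -/
theorem absorb (h : Hyp Γ T E H) (p : Pr Γ d₁ d₂) {u : V} (hu : u ∈ H) (hu₁ : u ∈ fx d₂) (hu1 : u ≠ 1) :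
    fx d₁ ≤ H := by
  obtain ⟨T', hT', -⟩ := exists_syl (T := (⊥ : Subgroup (MulAut V))) (X := Γ ⊓ st u) IsPGroup.of_bot bot_le
  have hinv : ∀ g ∈ Γ ⊓ st u, Inv g (fx d₁) := by
    intro g hg
    rcases p.perm hg.1 with h1 | h1
    · exact h1.2
    · exfalso
      have h2 : g u ∈ fx d₁ := h1.1 u hu₁
      have h3 : g u = u := hg.2
      rw [h3] at h2
      have h4 : u ∈ fx d₁ ⊓ fx d₂ := ⟨h2, hu₁⟩
      rw [p.inf, mem_bot] at h4
      exact hu1 h4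
  have hne : fx d₁ ≠ ⊥ := by
    intro h0
    have := p.r₁
    rw [h0, rk_bot] at this
    omega
  obtain ⟨w, hw, hw1, hTw⟩ := exists_fixed h.sq hT'.2.1 (K := fx d₁) (fun t ht => hinv t (hT'.1 ht)) hne
  have hwH := h.closed u hu hu1 T' hT' w hTw
  have hd : d₂ ∈ Γ ⊓ st u := ⟨o3_le Γ p.m₂, hu₁⟩
  have hdw : d₂ w ∈ H := by
    refine h.closed u hu hu1 _ (syl_cj_of_mem hd hT') (d₂ w) ?_
    rintro _ ⟨t, ht, rfl⟩
    change (d₂ * t * d₂⁻¹) (d₂ w) = d₂ w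
    have h1 : d₂⁻¹ (d₂ w) = w := by rw [← MulAut.mul_apply, inv_mul_cancel, MulAut.one_apply]
    rw [MulAut.mul_apply, MulAut.mul_apply, h1, hTw t ht]
  intro v hv
  rcases p.symm.cases₁ hw hw1 v hv with rfl | rfl | rfl | rfl
  · exact one_mem H
  · exact hwH
  · exact hdw
  · exact mul_mem hwH hdw

theorem H_inf₁ (h : Hyp Γ T E H) (p : Pr Γ d₁ d₂) : H ⊓ fx d₂ = ⊥ := by
  rw [eq_bot_iff]
  rintro u ⟨hu, hu₁⟩
  rw [mem_bot]
  by_contra hu1
  have h1 := absorb h p hu hu₁ hu1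
  have hne : fx d₁ ≠ ⊥ := by
    intro h0
    have := p.r₁
    rw [h0, rk_bot] at this
    omega
  obtain ⟨⟨w, hw⟩, hw1⟩ := ne_bot_iff_exists_ne_one.1 hne
  have h2 := absorb h p.symm (h1 hw) hw (fun h0 => hw1 (Subtype.ext h0))
  refine h.ne_top (top_le_iff.1 ?_)
  rw [← p.sup]
  exact sup_le h1 h2

/-- `T` swaps `V₁` and `V₂`. -/
theorem exists_swap (h : Hyp Γ T E H) (p : Pr Γ d₁ d₂) :
    ∃ s ∈ T, (∀ v ∈ fx d₂, s v ∈ fx d₁) ∧ ∀ v ∈ fx d₁, s v ∈ fx d₂ := by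
  by_contra hcon
  push Not at hcon
  have hinv : ∀ t ∈ T, Inv t (fx d₂) := by
    intro t ht
    rcases p.perm (h.syl.1 ht) with h1 | h1
    · exact h1.1
    · obtain ⟨v, hv, hv'⟩ := hcon t ht h1.1
      exact (hv' (h1.2 v hv)).elim
  have hne : fx d₂ ≠ ⊥ := by
    intro h0
    have := p.r₂
    rw [h0, rk_bot] at this
    omega
  obtain ⟨w, hw, hw1, hTw⟩ := exists_fixed h.sq h.syl.2.1 hinv hne
  have h1 : w ∈ H ⊓ fx d₂ := ⟨h.fixT w hTw, hw⟩
  rw [H_inf₁ h p, mem_bot] at h1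
  exact hw1 h1

/-- the fixed points of `T` -/
theorem exists_z (h : Hyp Γ T E H) (p : Pr Γ d₁ d₂) {s t : MulAut V} (hs : s ∈ T)
    (hs₁ : ∀ v ∈ fx d₂, s v ∈ fx d₁) (hs₂ : ∀ v ∈ fx d₁, s v ∈ fx d₂) (ht : t ∈ T)
    (ht₁ : Inv t (fx d₂)) (ht₂ : Inv t (fx d₁)) (hne : ∃ v ∈ fx d₂, t v ≠ v) :
    ∃ z : V, z ≠ 1 ∧ z ∉ fx d₂ ∧ z ∉ fx d₁ ∧ ∀ v : V, v ∈ fxG T ↔ v = 1 ∨ v = z := by
  have htop : (⊤ : Subgroup V) ≠ ⊥ := by
    intro h0
    have := p.rt
    rw [h0, rk_bot] at this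
    omega
  obtain ⟨z, -, hz1, hTz⟩ := exists_fixed h.sq h.syl.2.1 (K := ⊤) (fun _ _ _ _ => mem_top _) htop
  -- the components of a fixed point
  have key : ∀ v ∈ fxG T, v ≠ 1 → ∃ x ∈ fx d₂, x ≠ 1 ∧ t x = x ∧ s x ≠ 1 ∧ v = x * s x := by
    intro v hv hv1
    obtain ⟨x, hx, y, hy, hxy⟩ := decomp p v
    have h1 : y = s x := by
      have h2 : s v = v := hv s hs
      rw [← hxy, map_mul, mul_comm (s x)] at h2
      exact (uniq p (hs₂ y hy) hx (hs₁ x hx) hy h2).2.symm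
    have h3 : t x = x := by
      have h2 : t v = v := hv t ht
      rw [← hxy, map_mul] at h2
      exact (uniq p (ht₁ x hx) hx (ht₂ y hy) hy h2).1
    have hx1 : x ≠ 1 := by
      rintro rfl
      rw [map_one] at h1
      rw [h1, mul_one] at hxy
      exact hv1 hxy.symm
    exact ⟨x, hx, hx1, h3, Pr.map_ne_one s hx1, by rw [← h1, hxy]⟩
  obtain ⟨x, hx, hx1, htx, hsx1, hzx⟩ := key z hTz hz1
  have hrk : rk (fx d₂ ⊓ fx t) = 1 := by
    have h1 : fx d₂ ⊓ fx t ≠ ⊥ := by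
      intro h0
      have h2 : x ∈ fx d₂ ⊓ fx t := ⟨hx, htx⟩
      rw [h0, mem_bot] at h2
      exact hx1 h2
    have h2 := rk_pos h.sq h1
    have h3 : rk (fx d₂ ⊓ fx t) ≤ rk (fx d₂) := rk_mono inf_le_left
    rw [p.r₂] at h3
    have h4 : rk (fx d₂ ⊓ fx t) ≠ 2 := by
      intro h0
      have h5 : fx d₂ ⊓ fx t = fx d₂ := eq_of_rk h.sq inf_le_left (by rw [p.r₂, h0])
      obtain ⟨v, hv, hv'⟩ := hne
      rw [← h5] at hv
      exact hv' hv.2
    omega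
  refine ⟨z, hz1, ?_, ?_, fun v => ⟨fun hv => ?_, ?_⟩⟩
  · intro h0
    have h1 : s x ∈ fx d₂ := by
      have : s x = x⁻¹ * z := by rw [hzx, inv_mul_cancel_left]
      rw [this]; exact mul_mem (inv_mem hx) h0
    have h2 : s x ∈ fx d₂ ⊓ fx d₁ := ⟨h1, hs₁ x hx⟩
    rw [p.inf', mem_bot] at h2
    exact hsx1 h2
  · intro h0
    have h1 : x ∈ fx d₁ := by
      have : x = z * (s x)⁻¹ := by rw [hzx, mul_inv_cancel_right]
      rw [this]; exact mul_mem h0 (inv_mem (hs₁ x hx))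
    have h2 : x ∈ fx d₂ ⊓ fx d₁ := ⟨hx, h1⟩
    rw [p.inf', mem_bot] at h2
    exact hx1 h2
  · by_cases hv1 : v = 1
    · exact Or.inl hv1
    · right
      obtain ⟨x', hx', hx1', htx', -, hvx⟩ := key v hv hv1
      have h1 : x' = x := card_le_two_of_rk h.sq hrk ⟨hx', htx'⟩ ⟨hx, htx⟩ hx1' hx1
      rw [hvx, hzx, h1]
  · rintro (rfl | rfl)
    · exact one_mem _
    · exact hTz

/-- **(O)** -/
theorem caseO (h : Hyp Γ T E H) (p : Pr Γ d₁ d₂) {t : MulAut V} (ht : t ∈ T)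
    (ht₁ : Inv t (fx d₂)) (hne : ∃ v ∈ fx d₂, t v ≠ v) (ht₂ : ∀ v ∈ fx d₁, t v = v) :
    ∃ z, CaseO Γ T (fx d₂) (fx d₁) z := by
  obtain ⟨s, hs, hs₁, hs₂⟩ := exists_swap h p
  obtain ⟨z, hz1, hz₁, hz₂, hz⟩ := exists_z h p hs hs₁ hs₂ ht ht₁ (fun v hv => by rw [ht₂ v hv]; exact hv) hne
  have hs₁' : ∀ v ∈ fx d₁, s⁻¹ v ∈ fx d₂ := by
    -- `s : V₁ → V₂` is onto
    intro v hv
    rcases p.perm (inv_mem (h.syl.1 hs)) with h1 | h1
    · exfalso
      have h2 : s⁻¹ v ∈ fx d₁ := h1.2 v hv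
      have h3 : s (s⁻¹ v) ∈ fx d₂ := hs₂ _ h2
      have h4 : s (s⁻¹ v) = v := by rw [← MulAut.mul_apply, mul_inv_cancel, MulAut.one_apply]
      rw [h4] at h3
      -- `v = 1`; use a nontrivial element instead
      have hne1 : fx d₁ ≠ ⊥ := by
        intro h0
        have := p.r₁
        rw [h0, rk_bot] at this
        omega
      obtain ⟨⟨w, hw⟩, hw1⟩ := ne_bot_iff_exists_ne_one.1 hne1
      have h5 : s (s⁻¹ w) ∈ fx d₂ := hs₂ _ (h1.2 w hw)
      have h6 : s (s⁻¹ w) = w := by rw [← MulAut.mul_apply, mul_inv_cancel, MulAut.one_apply]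
      rw [h6] at h5
      have h7 : w ∈ fx d₁ ⊓ fx d₂ := ⟨hw, h5⟩
      rw [p.inf, mem_bot] at h7
      exact hw1 (Subtype.ext h7)
    · exact h1.2 v hv
  have hs₂' : ∀ v ∈ fx d₂, s⁻¹ v ∈ fx d₁ := by
    intro v hv
    rcases p.perm (inv_mem (h.syl.1 hs)) with h1 | h1
    · exfalso
      have hne1 : fx d₁ ≠ ⊥ := by
        intro h0
        have := p.r₁
        rw [h0, rk_bot] at this
        omega
      obtain ⟨⟨w, hw⟩, hw1⟩ := ne_bot_iff_exists_ne_one.1 hne1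
      have h5 := hs₁' w hw
      have h7 : s⁻¹ w ∈ fx d₁ ⊓ fx d₂ := ⟨h1.2 w hw, h5⟩
      rw [p.inf, mem_bot] at h7
      exact Pr.map_ne_one s⁻¹ (fun h0 => hw1 (Subtype.ext h0)) h7
    · exact h1.1 v hv
  have hcard : ∀ W : Subgroup V, rk W = 2 → Nat.card W = 4 := fun W hW => by
    rw [card_eq h.sq, hW]; norm_num
  refine ⟨z, hz1, hz, hcard _ p.r₂, hcard _ p.r₁, p.inf', by rw [sup_comm]; exact p.sup, ?_,
    ⟨s, hs, hs₁, hs₂⟩, ⟨t, ht, hne, ht₁, ht₂⟩, ?_, ?_, ?_, hz₁, hz₂⟩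
  · intro g hg
    exact p.perm hg
  · refine ⟨s * t * s⁻¹, mul_mem (mul_mem hs ht) (inv_mem hs), ?_, ?_, ?_⟩
    · obtain ⟨v, hv, hv'⟩ := hne
      refine ⟨s v, hs₁ v hv, fun h0 => hv' ?_⟩
      have h1 : s⁻¹ (s v) = v := by rw [← MulAut.mul_apply, inv_mul_cancel, MulAut.one_apply]
      rw [MulAut.mul_apply, MulAut.mul_apply, h1] at h0
      exact s.injective h0
    · intro v hv
      rw [MulAut.mul_apply, MulAut.mul_apply]
      exact hs₁ _ (ht₁ _ (hs₁' v hv))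
    · intro v hv
      rw [MulAut.mul_apply, MulAut.mul_apply, ht₂ _ (hs₂' v hv), ← MulAut.mul_apply, mul_inv_cancel,
        MulAut.one_apply]
  · refine ⟨d₁, o3_le Γ p.m₁, fun v hv hdv => ?_, p.d₁_inv₁, fun v hv => hv⟩
    have h1 : v ∈ fx d₁ ⊓ fx d₂ := ⟨hdv, hv⟩
    rwa [p.inf, mem_bot] at h1
  · refine ⟨d₂, o3_le Γ p.m₂, fun v hv hdv => ?_, p.symm.d₁_inv₁, fun v hv => hv⟩
    have h1 : v ∈ fx d₁ ⊓ fx d₂ := ⟨hv, hdv⟩
    rwa [p.inf, mem_bot] at h1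

/-- the stabilizer of `W` -/
def stb (W : Subgroup V) : Subgroup (MulAut V) where
  carrier := {g | ∀ v, g v ∈ W ↔ v ∈ W}
  one_mem' := fun v => Iff.rfl
  mul_mem' := by
    intro a b ha hb v
    rw [MulAut.mul_apply, ha, hb]
  inv_mem' := by
    intro a ha v
    have h1 : a (a⁻¹ v) = v := by rw [← MulAut.mul_apply, mul_inv_cancel, MulAut.one_apply]
    rw [← ha (a⁻¹ v), h1]

theorem mem_stb_of_inv {W : Subgroup V} {g : MulAut V} (h : Inv g W) : g ∈ stb W := by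
  have h1 : W.map g.toMonoidHom = W := by
    refine eq_of_le_of_card_ge ?_ ?_
    · rintro _ ⟨w, hw, rfl⟩
      exact h w hw
    · exact (Nat.card_congr ((W.equivMapOfInjective g.toMonoidHom g.injective).toEquiv)).le
  intro v
  refine ⟨fun hv => ?_, h v⟩
  have h2 : g v ∈ W.map g.toMonoidHom := by rw [h1]; exact hv
  obtain ⟨w, hw, hwv⟩ := h2
  have h3 : w = v := g.injective hwv
  rw [← h3]; exact hw

omit [Finite V] in
theorem ne_bot₁ (p : Pr Γ d₁ d₂) : fx d₂ ≠ ⊥ := by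
  intro h0
  have := p.r₂
  rw [h0, rk_bot] at this
  omega

/-- An element of `T` leaving `V₁` invariant leaves `V₂` invariant. -/
theorem inv₂ (p : Pr Γ d₁ d₂) {g : MulAut V} (hg : g ∈ Γ) (h₁ : Inv g (fx d₂)) : Inv g (fx d₁) := by
  rcases p.perm hg with h1 | h1
  · exact h1.2
  · exfalso
    obtain ⟨⟨w, hw⟩, hw1⟩ := ne_bot_iff_exists_ne_one.1 (ne_bot₁ p)
    have h2 : g w ∈ fx d₂ ⊓ fx d₁ := ⟨h₁ w hw, h1.1 w hw⟩
    rw [p.inf', mem_bot] at h2
    exact Pr.map_ne_one g (fun h0 => hw1 (Subtype.ext h0)) h2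

/-- a line of (X) -/
theorem line (h : Hyp Γ T E H) (p : Pr Γ d₁ d₂) {r : MulAut V} (hr : r ∈ T) (hrr : r * r = 1)
    (hr₁ : ∀ v ∈ fx d₂, r v ∈ fx d₁) (hr₂ : ∀ v ∈ fx d₁, r v ∈ fx d₂) (hrT : ∀ t ∈ T, t * r = r * t)
    {z : V} (hz₁ : z ∉ fx d₂) (hz₂ : z ∉ fx d₁) :
    Nat.card (fx r) = 4 ∧ (∀ t ∈ T, ∀ v ∈ fx r, t v ∈ fx r) ∧ ∃ g ∈ Γ, (∀ v ∈ fx r, g v ∈ fx r) ∧ g z ≠ z := by
  refine ⟨?_, fun t ht => Inv.fx (hrT t ht), ?_⟩
  · have e1 := rk_fx_add h.sq ⊤ r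
    have e2 : (⊤ : Subgroup V).map (cm r) ≤ fx r := by
      rintro _ ⟨w, -, rfl⟩
      rw [mem_fx, cm_apply, map_mul, ← MulAut.mul_apply, hrr, MulAut.one_apply, mul_comm]
    have e3 := rk_mono e2
    have e4 := rk_sup h.sq (fx r) (fx d₂)
    have e5 : fx r ⊓ fx d₂ = ⊥ := by
      rw [eq_bot_iff, ← p.inf']
      rintro v ⟨hv, hv₁⟩
      refine ⟨hv₁, ?_⟩
      have h1 : r v ∈ fx d₁ := hr₁ v hv₁
      have h2 : r v = v := hv
      rwa [h2] at h1
    have e6 : rk (fx r ⊔ fx d₂) ≤ rk (⊤ : Subgroup V) := rk_mono le_top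
    rw [e5, rk_bot, p.r₂] at e4
    rw [top_inf_eq] at e1
    have e7 := p.rt
    have e8 : rk (fx r) = 2 := by omega
    rw [card_eq h.sq, e8]
    norm_num
  · have hri : r⁻¹ = r := inv_eq_of_mul_eq_one_left hrr
    have hrΓ := h.syl.1 hr
    set c := r * d₁ * r⁻¹ with hc
    have hcΓ : c ∈ o3 Γ := (mem_normalizer_iff.1 (o3_norm Γ hrΓ) _).1 p.m₁
    have hcc : d₁ * c = c * d₁ := by
      obtain ⟨i, j, hij⟩ := p.o3_eq hcΓ
      rw [hij]
      have hC : Commute d₁ d₂ := p.c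
      exact ((Commute.refl d₁).pow_right i).mul_right (hC.pow_right j)
    have hcr : r * c = d₁ * r := by
      rw [hc, hri]
      calc r * (r * d₁ * r) = (r * r) * d₁ * r := by group
        _ = d₁ * r := by rw [hrr, one_mul]
    have hrc : r * d₁ = c * r := by rw [hc]; group
    have hcomm : d₁ * c * r = r * (d₁ * c) := by
      calc d₁ * c * r = d₁ * (c * r) := mul_assoc _ _ _
        _ = d₁ * (r * d₁) := by rw [hrc]
        _ = (d₁ * r) * d₁ := by group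
        _ = (r * c) * d₁ := by rw [hcr]
        _ = r * (c * d₁) := mul_assoc _ _ _
        _ = r * (d₁ * c) := by rw [hcc]
    refine ⟨d₁ * c, mul_mem (o3_le Γ p.m₁) (o3_le Γ hcΓ), Inv.fx hcomm, fun h0 => ?_⟩
    obtain ⟨x, hx, y, hy, hxy⟩ := decomp p z
    have hx1 : x ≠ 1 := by
      rintro rfl
      rw [one_mul] at hxy
      rw [hxy] at hy
      exact hz₂ hy
    have hcx : c x = x := by
      have h1 : r x ∈ fx d₁ := hr₁ x hx
      rw [hc, hri, MulAut.mul_apply, MulAut.mul_apply, show d₁ (r x) = r x from h1,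
        ← MulAut.mul_apply, hrr, MulAut.one_apply]
    have hcy : c y ∈ fx d₁ := by
      have h1 : r y ∈ fx d₂ := hr₂ y hy
      rw [hc, hri, MulAut.mul_apply, MulAut.mul_apply]
      exact hr₁ _ (p.d₁_inv₁ _ h1)
    have h1 : (d₁ * c) z = d₁ x * c y := by
      have e1 : (d₁ * c) x = d₁ (c x) := rfl
      have e2 : (d₁ * c) y = d₁ (c y) := rfl
      rw [← hxy, map_mul, e1, e2, hcx, show d₁ (c y) = c y from hcy]
    rw [h0, ← hxy] at h1
    have h2 := (uniq p hx (p.d₁_inv₁ x hx) hy hcy h1).1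
    have h3 : x ∈ fx d₂ ⊓ fx d₁ := ⟨hx, h2.symm⟩
    rw [p.inf', mem_bot] at h3
    exact hx1 h3

/-- **(X)** -/
theorem caseX (h : Hyp Γ T E H) (p : Pr Γ d₁ d₂) {A : Subgroup (MulAut V)} (hA : A ≤ T)
    (hA4 : Nat.card A = 4) (hAsq : ∀ a ∈ A, a * a = 1)
    (hno : ∀ t ∈ T, Inv t (fx d₂) → (∃ v ∈ fx d₂, t v ≠ v) → ¬ ∀ v ∈ fx d₁, t v = v) :
    ∃ A B z, CaseX Γ T A B z := by
  obtain ⟨s, hs, hs₁, hs₂⟩ := exists_swap h p
  have hsi : ∀ v, s (s⁻¹ v) = v := fun v => by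
    rw [← MulAut.mul_apply, mul_inv_cancel, MulAut.one_apply]
  have hsi' : ∀ v, s⁻¹ (s v) = v := fun v => by
    rw [← MulAut.mul_apply, inv_mul_cancel, MulAut.one_apply]
  -- `s⁻¹` swaps
  have hsw : (∀ v ∈ fx d₂, s⁻¹ v ∈ fx d₁) ∧ ∀ v ∈ fx d₁, s⁻¹ v ∈ fx d₂ := by
    rcases p.perm (inv_mem (h.syl.1 hs)) with h1 | h1
    · exfalso
      obtain ⟨⟨w, hw⟩, hw1⟩ := ne_bot_iff_exists_ne_one.1 (ne_bot₁ p)
      have h2 : s (s⁻¹ w) ∈ fx d₁ := hs₁ _ (h1.1 w hw)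
      rw [hsi] at h2
      have h3 : w ∈ fx d₂ ⊓ fx d₁ := ⟨hw, h2⟩
      rw [p.inf', mem_bot] at h3
      exact hw1 (Subtype.ext h3)
    · exact h1
  -- (N)
  have hN : ∀ t ∈ T, Inv t (fx d₂) → (∀ v ∈ fx d₂, t v = v) → t = 1 := by
    intro t ht ht₁ htr
    by_contra ht1
    have ht₂ := inv₂ p (h.syl.1 ht) ht₁
    -- `t` is not trivial on `V₂`
    have h1 : ∃ v ∈ fx d₁, t v ≠ v := by
      by_contra h0
      push Not at h0
      exact ht1 (p.ext' (fun v hv => by rw [htr v hv, MulAut.one_apply])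
        (fun v hv => by rw [h0 v hv, MulAut.one_apply]))
    refine hno (s * t * s⁻¹) (mul_mem (mul_mem hs ht) (inv_mem hs)) ?_ ?_ ?_
    · intro v hv
      rw [MulAut.mul_apply, MulAut.mul_apply]
      exact hs₂ _ (ht₂ _ (hsw.1 v hv))
    · obtain ⟨v, hv, hv'⟩ := h1
      refine ⟨s v, hs₂ v hv, fun h0 => hv' ?_⟩
      rw [MulAut.mul_apply, MulAut.mul_apply, hsi'] at h0
      exact s.injective h0
    · intro v hv
      rw [MulAut.mul_apply, MulAut.mul_apply, htr _ (hsw.2 v hv), hsi]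
  -- `T₀` and its fixed point `a`
  set T₀ := T ⊓ stb (fx d₂) with hT₀
  have hT₀inv : ∀ t ∈ T₀, Inv t (fx d₂) := fun t ht v hv => (ht.2 v).2 hv
  obtain ⟨a, ha, ha1, hTa⟩ := exists_fixed h.sq (h.syl.2.1.to_le (inf_le_left : T₀ ≤ T)) hT₀inv (ne_bot₁ p)
  obtain ⟨b, hb, hb1, hba⟩ : ∃ b ∈ fx d₂, b ≠ 1 ∧ b ≠ a := by
    refine ⟨d₁ a, p.d₁_inv₁ a ha, Pr.map_ne_one d₁ ha1, fun h0 => ?_⟩
    have h3 : a ∈ fx d₂ ⊓ fx d₁ := ⟨ha, h0⟩
    rw [p.inf', mem_bot] at h3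
    exact ha1 h3
  have hall := four_cases h.sq p.r₂ ha hb ha1 hb1 hba.symm
  have hT₀fix : ∀ t ∈ T₀, t b = b → t = 1 := by
    intro t ht htb
    refine hN t ht.1 (hT₀inv t ht) fun v hv => ?_
    rcases hall v hv with rfl | rfl | rfl | rfl
    · exact map_one t
    · exact hTa t ht
    · exact htb
    · rw [map_mul, hTa t ht, htb]
  have hT₀b : ∀ t ∈ T₀, t ≠ 1 → t b = a * b := by
    intro t ht ht1
    rcases hall (t b) (hT₀inv t ht b hb) with h1 | h1 | h1 | h1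
    · exact absurd h1 (Pr.map_ne_one t hb1)
    · exact absurd (t.injective (h1.trans (hTa t ht).symm)) hba
    · exact absurd (hT₀fix t ht h1) ht1
    · exact h1
  have hT₀eq : ∀ t ∈ T₀, ∀ t' ∈ T₀, t ≠ 1 → t' ≠ 1 → t = t' := by
    intro t ht t' ht' h1 h1'
    have h2 : (t⁻¹ * t') b = b := by
      rw [MulAut.mul_apply, hT₀b t' ht' h1', ← hT₀b t ht h1, ← MulAut.mul_apply, inv_mul_cancel,
        MulAut.one_apply]
    exact inv_mul_eq_one.1 (hT₀fix _ (mul_mem (inv_mem ht) ht') h2)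
  -- the elements of `T`
  have hTcases : ∀ t ∈ T, t ∈ T₀ ∨ s⁻¹ * t ∈ T₀ := by
    intro t ht
    rcases p.perm (h.syl.1 ht) with h1 | h1
    · exact Or.inl ⟨ht, mem_stb_of_inv h1.1⟩
    · right
      refine mem_inf.2 ⟨mul_mem (inv_mem hs) ht, mem_stb_of_inv fun v hv => ?_⟩
      rw [MulAut.mul_apply]
      exact hsw.2 _ (h1.1 v hv)
  obtain ⟨τ, hτ, hτ1⟩ : ∃ τ ∈ T₀, τ ≠ 1 := by
    by_contra h0
    push Not at h0
    have hsub : (T : Set (MulAut V)) ⊆ {1, s} := by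
      intro t ht
      rcases hTcases t ht with h1 | h1
      · exact Or.inl (h0 t h1)
      · exact Or.inr (inv_mul_eq_one.1 (h0 _ h1)).symm
    have h5 : Nat.card T ≤ 2 := by
      calc Nat.card T = Set.ncard (T : Set (MulAut V)) := Nat.card_coe_set_eq _
        _ ≤ Set.ncard ({1, s} : Set (MulAut V)) := Set.ncard_le_ncard hsub (Set.toFinite _)
        _ ≤ 2 := ncard_pair_le _ _
    have h6 : Nat.card A ≤ Nat.card T := Nat.le_of_dvd Nat.card_pos (card_dvd_of_le hA)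
    omega
  have hsub : (T : Set (MulAut V)) ⊆ {1, τ, s, s * τ} := by
    intro t ht
    rcases hTcases t ht with h1 | h1
    · by_cases ht1 : t = 1
      · exact Or.inl ht1
      · exact Or.inr (Or.inl (hT₀eq t h1 τ hτ ht1 hτ1))
    · by_cases ht1 : s⁻¹ * t = 1
      · exact Or.inr (Or.inr (Or.inl (inv_mul_eq_one.1 ht1).symm))
      · refine Or.inr (Or.inr (Or.inr ?_))
        have := hT₀eq _ h1 τ hτ ht1 hτ1
        rw [Set.mem_singleton_iff, ← this]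
        group
  have hTA : A = T := by
    refine eq_of_le_of_card_ge hA ?_
    rw [hA4]
    calc Nat.card T = Set.ncard (T : Set (MulAut V)) := Nat.card_coe_set_eq _
      _ ≤ Set.ncard ({1, τ, s, s * τ} : Set (MulAut V)) := Set.ncard_le_ncard hsub (Set.toFinite _)
      _ ≤ 4 := by
        refine (Set.ncard_insert_le _ _).trans ?_
        have := Set.ncard_insert_le τ ({s, s * τ} : Set (MulAut V))
        have := ncard_pair_le s (s * τ)
        omega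
  have hTsq : ∀ t ∈ T, t * t = 1 := fun t ht => hAsq t (hTA ▸ ht)
  have hTc : ∀ t ∈ T, ∀ r ∈ T, t * r = r * t := by
    intro t ht r hr
    have h1 := hTsq _ (mul_mem ht hr)
    have h2 : t⁻¹ = t := inv_eq_of_mul_eq_one_left (hTsq t ht)
    have h3 : r⁻¹ = r := inv_eq_of_mul_eq_one_left (hTsq r hr)
    calc t * r = (t * r)⁻¹ := (inv_eq_of_mul_eq_one_left h1).symm
      _ = r * t := by rw [mul_inv_rev, h2, h3]
  have hτT : τ ∈ T := hτ.1
  have hτ₁ := hT₀inv τ hτ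
  have hτ₂ := inv₂ p (h.syl.1 hτT) hτ₁
  have hτb : τ b ≠ b := by
    rw [hT₀b τ hτ hτ1]
    exact fun h0 => ha1 (mul_eq_right.1 h0)
  obtain ⟨z, hz1, hz₁, hz₂, hz⟩ := exists_z h p hs hs₁ hs₂ hτT hτ₁ hτ₂ ⟨b, hb, hτb⟩
  have hzT : z ∈ fxG T := (hz z).2 (Or.inr rfl)
  have hsτ : s * τ ∈ T := mul_mem hs hτT
  obtain ⟨c1, i1, m1⟩ := line h p hs (hTsq s hs) hs₁ hs₂ (fun t ht => hTc t ht s hs) hz₁ hz₂
  obtain ⟨c2, i2, m2⟩ := line h p hsτ (hTsq _ hsτ) (fun v hv => by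
      rw [MulAut.mul_apply]; exact hs₁ _ (hτ₁ v hv)) (fun v hv => by
      rw [MulAut.mul_apply]; exact hs₂ _ (hτ₂ v hv)) (fun t ht => hTc t ht _ hsτ) hz₁ hz₂
  refine ⟨fx s, fx (s * τ), z, hz1, hz, c1, c2, ?_, hzT s hs, hzT _ hsτ, i1, i2, m1, m2⟩
  intro h0
  have h1 : b * s b ∈ fx s := by
    change s (b * s b) = b * s b
    rw [map_mul, ← MulAut.mul_apply, hTsq s hs, MulAut.one_apply, mul_comm]
  have h2 : b * s b ∈ fx (s * τ) := by rw [← h0]; exact h1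
  have h3 : τ (b * s b) = b * s b := by
    have h4 : s (τ (b * s b)) = s (b * s b) := by
      have h5 : (s * τ) (b * s b) = b * s b := h2
      rw [MulAut.mul_apply] at h5
      rw [h5]
      exact h1.symm
    exact s.injective h4
  rw [map_mul] at h3
  exact hτb (uniq p (hτ₁ b hb) hb (hτ₂ _ (hs₁ b hb)) (hs₁ b hb) h3).1

/-- **Steps 3 and 5.** -/
theorem main (h : Hyp Γ T E H) : Nat.card V = 4 ∨ (Nat.card V = 16 ∧
    ((∃ e, CaseY T H e) ∨ (∃ A B z, CaseX Γ T A B z) ∨ ∃ V₁ V₂ z, CaseO Γ T V₁ V₂ z)) := by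
  have hcardV : Nat.card V = 2 ^ rk (⊤ : Subgroup V) := by rw [← card_eq h.sq, card_top]
  obtain ⟨n, e₀, y₀, -, -, -, -, -, -, -, -, -, -, hcases⟩ := h.dims
  have hrk : rk (⊤ : Subgroup V) = 2 ∨ rk (⊤ : Subgroup V) = 3 ∨ rk (⊤ : Subgroup V) = 4 := by omega
  rcases hrk with h2 | h3 | h4
  · left; rw [hcardV, h2]; norm_num
  · exact (h.not_three h3).elim
  right
  refine ⟨by rw [hcardV, h4]; norm_num, ?_⟩
  -- a central involution of `T`
  have hT : T ≠ ⊥ := fun h0 => h.Ene (le_bot_iff.1 (h.le.trans h0.le))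
  obtain ⟨⟨c, hc⟩, hc1'⟩ := ne_bot_iff_exists_ne_one.1 (Basic.zc_ne_bot h.syl.2.1 hT)
  have hc1 : c ≠ 1 := fun h0 => hc1' (Subtype.ext h0)
  have hc' := ChoiceBase.mem_zc.1 hc
  have hcc : c * c = 1 := by rw [← pow_two]; exact hc'.2.1
  by_cases huniq : ∀ t ∈ T, t * t = 1 → t = 1 ∨ t = c
  · exact Or.inl ⟨c, h.caseY h4 hcc hc1 huniq⟩
  right
  push Not at huniq
  obtain ⟨t, ht, htt, ht1, htc⟩ := huniq
  have hct : t * c = c * t := hc'.2.2 t ht
  -- the four-group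
  set A : Subgroup (MulAut V) := zpowers c ⊔ zpowers t with hA
  have hAT : A ≤ T := sup_le (by rw [zpowers_le]; exact hc'.1) (by rw [zpowers_le]; exact ht)
  have hsq : ∀ x : MulAut V, x * x = 1 → ∀ y ∈ zpowers x, y = 1 ∨ y = x := by
    intro x hx y hy
    rw [← mem_powers_iff_mem_zpowers] at hy
    obtain ⟨k, rfl⟩ := hy
    rcases Nat.even_or_odd' k with ⟨m, rfl | rfl⟩
    · left
      change x ^ (2 * m) = 1
      rw [pow_mul, pow_two, hx, one_pow]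
    · right
      change x ^ (2 * m + 1) = x
      rw [pow_succ, pow_mul, pow_two, hx, one_pow, one_mul]
  have hnorm : zpowers c ≤ normalizer (zpowers t : Set (MulAut V)) := by
    rw [zpowers_le]
    have h1 : c ∈ centralizer (zpowers t : Set (MulAut V)) := by
      rw [mem_centralizer_iff]
      intro y hy
      rcases hsq t htt y hy with rfl | rfl
      · rw [one_mul, mul_one]
      · exact hct
    exact centralizer_le_normalizer _ h1
  have hcardz : ∀ x : MulAut V, x * x = 1 → x ≠ 1 → Nat.card (zpowers x) = 2 := by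
    intro x hx hx1
    rw [Nat.card_zpowers]
    exact orderOf_eq_prime (by rw [pow_two]; exact hx) hx1
  have hA4 : Nat.card A = 4 := by
    have h1 := ZN.Block.card_sup_mul_card_inf hnorm
    have h2 : zpowers c ⊓ zpowers t = ⊥ := by
      rw [eq_bot_iff]
      rintro x ⟨hx, hx'⟩
      rw [mem_bot]
      rcases hsq c hcc x hx with h3 | h3
      · exact h3
      · rcases hsq t htt x hx' with h5 | h5
        · exact h5
        · exact absurd (h5.symm.trans h3) htc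
    rw [h2, card_bot, mul_one, hcardz c hcc hc1, hcardz t htt ht1] at h1
    exact h1
  have hAsq : ∀ a ∈ A, a * a = 1 := by
    intro a ha
    have ha' : a ∈ T := hAT ha
    have h1 : A ≤ (centralizer (A : Set (MulAut V))) := by
      refine sup_le ?_ ?_ <;> rw [zpowers_le, mem_centralizer_iff]
      · intro y hy
        exact hc'.2.2 y (hAT hy)
      · intro y hy
        have h3 : A ≤ centralizer ({t} : Set (MulAut V)) := by
          refine sup_le ?_ ?_ <;> rw [zpowers_le, mem_centralizer_singleton_iff]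
          exact hct.symm
        exact mem_centralizer_singleton_iff.1 (h3 hy)
    have key : A ≤ { carrier := {x | x ∈ A ∧ x * x = 1}
                     one_mem' := ⟨one_mem A, one_mul 1⟩
                     mul_mem' := by
                      rintro x y ⟨hx, hx'⟩ ⟨hy, hy'⟩
                      refine ⟨mul_mem hx hy, ?_⟩
                      have h5 : y * x = x * y := mem_centralizer_iff.1 (h1 hx) y hy
                      calc x * y * (x * y) = x * (y * x) * y := by group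
                        _ = (x * x) * (y * y) := by rw [h5]; group
                        _ = 1 := by rw [hx', hy', one_mul]
                     inv_mem' := by
                      rintro x ⟨hx, hx'⟩
                      refine ⟨inv_mem hx, ?_⟩
                      rw [← mul_inv_rev, hx', inv_one] } := by
      refine sup_le ?_ ?_ <;> rw [zpowers_le]
      · exact ⟨mem_sup_left (mem_zpowers c), hcc⟩
      · exact ⟨mem_sup_right (mem_zpowers t), htt⟩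
    exact (key ha).2
  obtain ⟨m, e, y, hcard, -, he, hy, hp, hD⟩ := exists_dih h.solv h.o2 (hAT.trans h.syl.1) hAsq
  have hm : m = 2 := by
    rw [hA4] at hcard
    have : 2 ^ 2 = 2 ^ m := hcard
    exact (Nat.pow_right_injective (le_refl 2) this).symm
  subst hm
  obtain ⟨d₁, d₂, p⟩ := exists_pr h h4 hD hy hp
  by_cases hno : ∀ t ∈ T, Inv t (fx d₂) → (∃ v ∈ fx d₂, t v ≠ v) → ¬ ∀ v ∈ fx d₁, t v = v
  · exact Or.inl (caseX h p hAT hA4 hAsq hno)
  · push Not at hno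
    obtain ⟨r, hr, hr₁, hr2, hr3⟩ := hno
    obtain ⟨z, hz⟩ := caseO h p hr hr₁ hr2 hr3
    exact Or.inr ⟨_, _, z, hz⟩

end Cfsg.Agent.MinSimple.EmptyE.SmallC
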