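import Cfsg.Agent.MinSimple.EmptyE.YFalse
import Cfsg.Agent.MinSimple.EmptyE.Hyper
import Cfsg.Agent.MinSimple.EmptyE.SmallC

/-!
# The case "(Empty)", Theorem E: from Step 5 (case (Y) for all minimal parabolics) to a contradiction

* `GY S H e` : the case (Y) of Step 5, in `G`;
* `false_of_all` : `GY` for every minimal parabolic `P ≤ C`, `P ≰ L`, is impossible;
* `gy_of_caseY` : `GY` from `Small.CaseY`.
-/

set_option autoImplicit false

namespace Cfsg.Agent.MinSimple.EmptyE.YPlug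

open Subgroup Cfsg Cfsg.Agent.ZN Cfsg.Agent.ZN.ChoiceBase Cfsg.Agent.ZN.ChoiceSit
open Cfsg.Agent.MinSimple.EmptyTI Cfsg.Agent.MinSimple.EmptySix
open Cfsg.Agent.MinSimple.EmptyE.YSet Cfsg.Agent.MinSimple.EmptyE.YBlock
open Cfsg.Agent.MinSimple.EmptyE.Closed Cfsg.Agent.MinSimple.EmptyE.YOf
open Cfsg.Agent.MinSimple.EmptyE.Hyper
open Cfsg.Agent.MinSimple.MinParabolic (IsMinPar)

universe u

variable {G : Type u} [Group G]

/-- The case (Y) of Step 5 in `G`. -/
structure GY (S : Sylow 2 G) (H : Subgroup G) (e : G) : Prop where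
  le : H ≤ vv (S : Subgroup G)
  card : Nat.card H = 4
  e_mem : e ∈ (S : Subgroup G)
  e_not : e ∉ centralizer (vv (S : Subgroup G) : Set G)
  e_sq : e * e ∈ centralizer (vv (S : Subgroup G) : Set G)
  fix : ∀ v ∈ vv (S : Subgroup G), (e * v = v * e ↔ v ∈ H)
  comm : ∀ v ∈ vv (S : Subgroup G), e * v * e⁻¹ * v⁻¹ ∈ H
  cases : (zc (S : Subgroup G) = H ∧ ∀ s ∈ (S : Subgroup G),
      s ∈ centralizer (vv (S : Subgroup G) : Set G) ∨
        s * e⁻¹ ∈ centralizer (vv (S : Subgroup G) : Set G)) ∨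
    (Nat.card (zc (S : Subgroup G)) = 2 ∧
      ∃ f ∈ (S : Subgroup G), f * f * e⁻¹ ∈ centralizer (vv (S : Subgroup G) : Set G) ∧
        ∀ s ∈ (S : Subgroup G), ∃ i : ℤ, s * f ^ i ∈ centralizer (vv (S : Subgroup G) : Set G))

/-- The involutions of a cyclic group of order 4. -/
theorem eq_of_cyclic {Γ : Type u} [Group Γ] {F E T : Γ} (hF : F * F = E) (hE : E * E = 1)
    (hE1 : E ≠ 1) {i : ℤ} (hT : T * F ^ i = 1) (hT1 : T ≠ 1) (hTT : T * T = 1) : T = E := by
  have hF4 : F ^ (4 : ℤ) = 1 := by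
    rw [show (4 : ℤ) = (1 + 1) + (1 + 1) by norm_num, zpow_add, zpow_add, zpow_one, hF, hE]
  have hT' : T = F ^ (-i) := by rw [zpow_neg]; exact eq_inv_of_mul_eq_one_left hT
  rcases Int.even_or_odd i with ⟨j, hj⟩ | ⟨j, hj⟩
  · rcases Int.even_or_odd j with ⟨k, hk⟩ | ⟨k, hk⟩
    · exfalso
      apply hT1
      rw [hT', hj, hk, show -(k + k + (k + k)) = 4 * (-k) by ring, zpow_mul, hF4, one_zpow]
    · rw [hT', hj, hk, show -(2 * k + 1 + (2 * k + 1)) = 4 * (-k - 1) + (1 + 1) by ring, zpow_add,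
        zpow_mul, hF4, one_zpow, one_mul, zpow_add, zpow_one, hF]
  · exfalso
    apply hE1
    have h1 : T * T = E := by
      rw [hT', ← zpow_add, hj, show -(2 * j + 1) + -(2 * j + 1) = 4 * (-j - 1) + (1 + 1) by ring,
        zpow_add, zpow_mul, hF4, one_zpow, one_mul, zpow_add, zpow_one, hF]
    rw [← h1, hTT]

section

variable [Finite G] {S : Sylow 2 G}

/-- The action of `L` on `V`. -/
theorem exists_act (h : ESit S) : ∃ φ : LL (S : Subgroup G) →* MulAut (vv (S : Subgroup G)),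
    (∀ (a : LL (S : Subgroup G)) (x : vv (S : Subgroup G)),
      ((φ a x : vv (S : Subgroup G)) : G) = a * x * (a : G)⁻¹) ∧
    ∀ a : LL (S : Subgroup G), φ a = 1 ↔ (a : G) ∈ centralizer (vv (S : Subgroup G) : Set G) := by
  refine ⟨Lib.CoprimeHyperplane.conjHom le_rfl, fun a x => rfl, fun a => ?_⟩
  rw [mem_cent]
  constructor
  · intro h v hv
    have h1 : ((Lib.CoprimeHyperplane.conjHom le_rfl a (⟨v, hv⟩ : vv (S : Subgroup G)) :
        vv (S : Subgroup G)) : G) = a * v * (a : G)⁻¹ := rfl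
    rw [h, MulAut.one_apply] at h1
    rw [comm_iff_conj]
    exact h1.symm
  · intro h
    ext x
    rw [MulAut.one_apply]
    exact comm_iff_conj.1 (h x x.2)

theorem GY.uniq (h : ESit S) {H : Subgroup G} {e : G} (g : GY S H e) {s : G}
    (hs : s ∈ (S : Subgroup G)) (hss : s * s ∈ centralizer (vv (S : Subgroup G) : Set G))
    (hs1 : s ∉ centralizer (vv (S : Subgroup G) : Set G)) :
    s * e⁻¹ ∈ centralizer (vv (S : Subgroup G) : Set G) := by
  rcases g.cases with ⟨-, h1⟩ | ⟨-, f, hf, hfe, hfS⟩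
  · exact (h1 s hs).resolve_left hs1
  · obtain ⟨φ, hφ, hker⟩ := exists_act h
    have hS : ∀ {s : G}, s ∈ (S : Subgroup G) → s ∈ LL (S : Subgroup G) := fun hs => h.le_LL hs
    obtain ⟨i, hi⟩ := hfS s hs
    have h1 := eq_of_cyclic (F := φ ⟨f, hS hf⟩) (E := φ ⟨e, hS g.e_mem⟩) (T := φ ⟨s, hS hs⟩)
      (i := i) (by
        rw [← map_mul, ← mul_inv_eq_one, ← map_inv, ← map_mul, hker]
        exact hfe) (by
        rw [← map_mul, hker]
        exact g.e_sq) (by
        rw [Ne, hker]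
        exact g.e_not) (by
        rw [← map_zpow, ← map_mul, hker]
        exact hi) (by
        rw [Ne, hker]
        exact hs1) (by
        rw [← map_mul, hker]
        exact hss)
    rw [← mul_inv_eq_one, ← map_inv, ← map_mul, hker] at h1
    exact h1

/-- `H` does not depend on the minimal parabolic. -/
theorem GY.eq (h : ESit S) {H K : Subgroup G} {e f : G} (g : GY S H e) (k : GY S K f) : H = K := by
  have h1 := g.uniq h k.e_mem k.e_sq k.e_not
  have key : ∀ v ∈ vv (S : Subgroup G), v ∈ H ↔ v ∈ K := by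
    intro v hv
    rw [← g.fix v hv, ← k.fix v hv, comm_iff_conj, comm_iff_conj,
      conj_eq_of_cong h1 ((mem_normalizer_iff.1 (h.le_LL g.e_mem) v).1 hv)]
  ext v
  exact ⟨fun hv => (key v (g.le hv)).1 hv, fun hv => (key v (k.le hv)).2 hv⟩

theorem GY.S_le (h : ESit S) {H : Subgroup G} {e : G} (g : GY S H e) :
    (S : Subgroup G) ≤ normalizer (H : Set G) := by
  intro s hs
  refine mem_normalizer_of_cj_le ?_
  rintro _ ⟨y, hy, rfl⟩
  change s * y * s⁻¹ ∈ H
  have hsL : s ∈ LL (S : Subgroup G) := h.le_LL hs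
  have hyV := g.le hy
  have hsV : s * y * s⁻¹ ∈ vv (S : Subgroup G) := (mem_normalizer_iff.1 hsL y).1 hyV
  have h0 : s⁻¹ * e * s ∈ (S : Subgroup G) := mul_mem (mul_mem (inv_mem hs) g.e_mem) hs
  have hl' : s⁻¹ ∈ LL (S : Subgroup G) := inv_mem hsL
  have h1 : s⁻¹ * e * s * (s⁻¹ * e * s) ∈ centralizer (vv (S : Subgroup G) : Set G) := by
    have h2 := (YDat.mem_centralizer_conj hl').2 g.e_sq
    have e1 : s⁻¹ * (e * e) * s⁻¹⁻¹ = s⁻¹ * e * s * (s⁻¹ * e * s) := by group
    rwa [e1] at h2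
  have h2 : s⁻¹ * e * s ∉ centralizer (vv (S : Subgroup G) : Set G) := by
    intro h3
    have e1 : s⁻¹ * e * s = s⁻¹ * e * s⁻¹⁻¹ := by group
    rw [e1, YDat.mem_centralizer_conj hl'] at h3
    exact g.e_not h3
  have h3 := g.uniq h h0 h1 h2
  have h4 : s⁻¹ * e * s * y = y * (s⁻¹ * e * s) := by
    rw [comm_iff_conj, conj_eq_of_cong h3 ((mem_normalizer_iff.1 (h.le_LL g.e_mem) y).1 hyV),
      ← comm_iff_conj]
    exact (g.fix y hyV).2 hy
  rw [← g.fix _ hsV]
  calc e * (s * y * s⁻¹) = s * (s⁻¹ * e * s * y) * s⁻¹ := by group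
    _ = s * (y * (s⁻¹ * e * s)) * s⁻¹ := by rw [h4]
    _ = s * y * s⁻¹ * e := by group

/-- If all minimal parabolics give (Y), we get a contradiction. -/
theorem false_of_all (h : ESit S) (hV : Nat.card (vv (S : Subgroup G)) = 16)
    (hP : ∀ P : Subgroup G, IsMinPar (S : Subgroup G) P → P ≤ CC (S : Subgroup G) →
      ¬ P ≤ LL (S : Subgroup G) → ∃ x e, (S : Subgroup G) ⊔ zpowers x = P ∧
        GY S (hh (S : Subgroup G) x) e) : False := by
  obtain ⟨P, hP1, hP2, hP3⟩ := Hyper.exists_minPar h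
  obtain ⟨x, e, hx, g⟩ := hP P hP1 hP2 hP3
  refine YFalse.false_of_raw (S := S) (Y := hh (S : Subgroup G) x) (e := e)
    { sit := h
      card_V := hV
      Y_le := g.le
      card_Y := g.card
      e_mem := g.e_mem
      e_not := g.e_not
      fix := g.fix
      comm := g.comm
      uniq := fun s hs hs2 hs1 => g.uniq h hs hs2 hs1
      alt := ?_
      par := ?_ }
  · rcases g.cases with ⟨h1, -⟩ | h1
    · exact Or.inl h1
    · exact Or.inr h1
  · intro P' hP1' hP2' hP3'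
    obtain ⟨x', e', hx', g'⟩ := hP P' hP1' hP2' hP3'
    have h1 := g'.eq h g
    rw [← hx', ← h1]
    refine sup_le (g'.S_le h) ?_
    rw [zpowers_le]
    refine centralizer_le_normalizer _ ?_
    rw [mem_cent]
    intro v hv
    exact (mem_hh.1 hv).2

end

end Cfsg.Agent.MinSimple.EmptyE.YPlug
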