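import Cfsg.Agent.MinSimple.EmptyE.XMp
import Cfsg.Agent.MinSimple.EmptyE.Plug
import Cfsg.Agent.MinSimple.EmptyE.YPlug
import Cfsg.Agent.MinSimple.EmptyE.YPlugB
import Cfsg.Agent.MinSimple.EmptyE.ToOm
import Cfsg.Agent.MinSimple.Omega.Final

/-!
# Theorem E, assembly (with `Mp`)

`main (h : ESit S) : OutE S`, i.e. `∃ V z M, Geo S V z ∧ Mp z M`. The case (X) of step 5 is one of the exits (`XMp`); the
case (Y) (`YPlug.false_of_all`) and the case (O) (`ToOm.om`, `Omega.Final.false_of_om`) do not occur.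
-/

set_option autoImplicit false

namespace Cfsg.Agent.MinSimple.EmptyE.MainMp

open Subgroup Cfsg Cfsg.Agent.ZN Cfsg.Agent.ZN.ChoiceBase Cfsg.Agent.ZN.ChoiceSit
open Cfsg.Agent.MinSimple.EmptyTI Cfsg.Agent.MinSimple.EmptySix
open Cfsg.Agent.MinSimple.MinParabolic (IsMinPar)
open Cfsg.Agent.MinSimple.EmptyE.Closed Cfsg.Agent.MinSimple.EmptyE.Hyper
open Cfsg.Agent.MinSimple.EmptyE.Small Cfsg.Agent.MinSimple.EmptyE.Plug
open Cfsg.Agent.MinSimple.EmptyE.XMp

universe u

variable {G : Type u} [Group G] [Finite G] {S : Sylow 2 G}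

section

attribute [local instance] YPlugB.vvComm

omit [Finite G] in
theorem mem_map_iff {A : Subgroup (vv (S : Subgroup G))} {v : vv (S : Subgroup G)} :
    (v : G) ∈ A.map (vv (S : Subgroup G)).subtype ↔ v ∈ A := by
  constructor
  · rintro ⟨w, hw, hwv⟩
    have : w = v := Subtype.ext hwv
    rwa [← this]
  · intro hv
    exact ⟨v, hv, rfl⟩

/-- elements stabilizing `A` in `Aut V` normalize `A` in `G` -/
theorem mem_normalizer_map {A : Subgroup (vv (S : Subgroup G))} {g : G} (hg : g ∈ LL (S : Subgroup G))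
    (hA : ∀ v ∈ A, act (S : Subgroup G) ⟨g, hg⟩ v ∈ A) :
    g ∈ normalizer ((A.map (vv (S : Subgroup G)).subtype : Subgroup G) : Set G) := by
  refine Geo.mem_normalizer_iff_cj.mpr (eq_of_le_of_card_ge ?_ ?_)
  · rintro _ ⟨_, ⟨v, hv, rfl⟩, rfl⟩
    exact ⟨_, hA v hv, rfl⟩
  · exact (card_map_of_injective (MulAut.conj g).injective).ge

/-- The case (X), in `G`. -/
theorem stepX_of_caseX (h : ESit S) {A B : Subgroup (vv (S : Subgroup G))} {z : vv (S : Subgroup G)}
    (hX : CaseX (im (S : Subgroup G) (LL (S : Subgroup G))) (im (S : Subgroup G) (S : Subgroup G))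
      A B z) :
    StepX (S : Subgroup G) (A.map (vv (S : Subgroup G)).subtype)
      (B.map (vv (S : Subgroup G)).subtype) (z : G) := by
  have hinj := (vv (S : Subgroup G)).subtype_injective
  have hnorm : ∀ C : Subgroup (vv (S : Subgroup G)),
      (∀ t ∈ im (S : Subgroup G) (S : Subgroup G), ∀ v ∈ C, t v ∈ C) →
      (S : Subgroup G) ≤ normalizer ((C.map (vv (S : Subgroup G)).subtype : Subgroup G) : Set G) := by
    intro C hC s hs
    exact mem_normalizer_map (h.le_LL hs) fun v hv => hC _ (mem_im.2 ⟨s, h.le_LL hs, hs, rfl⟩) v hv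
  have hmove : ∀ C : Subgroup (vv (S : Subgroup G)),
      (∃ g ∈ im (S : Subgroup G) (LL (S : Subgroup G)), (∀ v ∈ C, g v ∈ C) ∧ g z ≠ z) →
      ∃ g ∈ normalizer ((C.map (vv (S : Subgroup G)).subtype : Subgroup G) : Set G),
        g * (z : G) * g⁻¹ ≠ z := by
    rintro C ⟨γ, hγ, h1, h2⟩
    obtain ⟨g, hg, -, rfl⟩ := mem_im.1 hγ
    refine ⟨g, mem_normalizer_map hg h1, fun e => h2 (Subtype.ext ?_)⟩
    rw [act_apply]
    exact e
  exact
  { z_mem := by
      have h1 : z ∈ fxG (im (S : Subgroup G) (S : Subgroup G)) := (hX.fixT z).2 (Or.inr rfl)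
      refine h.mem_zc_of_comm z.2 fun s hs => ?_
      exact act_eq_iff.1 (h1 _ (mem_im.2 ⟨s, h.le_LL hs, hs, rfl⟩))
    z_ne := fun h0 => hX.ne (Subtype.ext h0)
    Z := by
      intro x hx
      have h1 : (⟨x, zc_le_vv _ hx⟩ : vv (S : Subgroup G)) ∈
          fxG (im (S : Subgroup G) (S : Subgroup G)) := by
        intro γ hγ
        obtain ⟨s, hs, hsS, rfl⟩ := mem_im.1 hγ
        exact act_eq_iff.2 ((ChoiceBase.mem_zc.1 hx).2.2 s hsS)
      rcases (hX.fixT _).1 h1 with h2 | h2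
      · left; exact congrArg Subtype.val h2
      · right; exact congrArg Subtype.val h2
    leA := map_subtype_le _
    leB := map_subtype_le _
    cardA := by rw [Subgroup.card_map_of_injective hinj]; exact hX.cardA
    cardB := by rw [Subgroup.card_map_of_injective hinj]; exact hX.cardB
    ne := fun e => hX.neAB (by
      ext v
      rw [← mem_map_iff, e, mem_map_iff])
    memA := mem_map_iff.2 hX.memA
    memB := mem_map_iff.2 hX.memB
    normA := hnorm A hX.invA
    normB := hnorm B hX.invB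
    moveA := hmove A hX.moveA
    moveB := hmove B hX.moveB }

/-- Step 5 in `G`, for one minimal parabolic. -/
theorem step_five (h : ESit S) (hcon : ¬ OutE (S : Subgroup G)) {P : Subgroup G}
    (hP : IsMinPar (S : Subgroup G) P) (hPC : P ≤ CC (S : Subgroup G))
    (hPL : ¬ P ≤ LL (S : Subgroup G)) : Nat.card (vv (S : Subgroup G)) = 16 ∧
      ∃ x e, (S : Subgroup G) ⊔ zpowers x = P ∧ YPlug.GY S (hh (S : Subgroup G) x) e := by
  have hno := (step_four h).resolve_left hcon
  obtain ⟨x, -, -, -, hgen, hZ, hne, hcl, E, hES, hE, hEc, hcard⟩ := Hyper.hyper h hP hPC hPL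
  have hyp' := Plug.hyp h hZ hne hcl hES hE hEc hcard (hno _ inf_le_left hcl)
  rcases SmallC.main hyp' with h4 | ⟨h16, ⟨e, hY⟩ | ⟨A, B, z, hX⟩ | ⟨V₁, V₂, z, hO⟩⟩
  · exact absurd (out_of_card_four h h4) hcon
  · refine ⟨h16, x, ?_⟩
    obtain ⟨e', he'⟩ := YPlugB.gy_of_caseY h (φ := act (S : Subgroup G)) (fun _ _ => rfl) rfl
      (K := hh (S : Subgroup G) x) inf_le_left hY
    exact ⟨e', hgen, he'⟩
  · exact absurd (out_of_stepX h h16 hno (stepX_of_caseX h hX)) hcon
  · exfalso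
    obtain ⟨V, o⟩ := in_of_caseO h hO
    exact Omega.Final.false_of_om (ToOm.om h o)

end

/-- **Theorem E**, with `Mp`. -/
theorem main (h : ESit S) : OutE (S : Subgroup G) := by
  by_contra hcon
  obtain ⟨P, hP1, hP2, hP3⟩ := Hyper.exists_minPar h
  have h16 := (step_five h hcon hP1 hP2 hP3).1
  exact YPlug.false_of_all h h16 fun P hP hPC hPL => (step_five h hcon hP hPC hPL).2

end Cfsg.Agent.MinSimple.EmptyE.MainMp
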