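import Cfsg.Agent.MinSimple.EmptyE.Four
import Cfsg.Agent.MinSimple.OddMp
import Cfsg.Agent.MinSimple.OddThreeM

/-!
# The case (Empty): the maximal 2-local subgroup over `C_G(z)`

`I` the TI-subgroup (`TIData S I`), `Geo S V z`.

* `normalizer_le` : `N_G(R) ≤ N_G(I)` for every 2-subgroup `R ≠ 1` normalized by `C_G(z)`;
* `mp` : `Mp z (N_G(I))` if `|vv S ∩ I| ≤ 4`; hence `OddMp.Max2 V z`;
* `max1` : `OddThreeM.Max1 z` if `|vv S ∩ I| ≤ 2`;
* `step_four'`, `of_card_four'` : the exit of step 4 of Theorem E, with `Max1 z`;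
* `card_inf_le_four` : `|vv S ∩ I| ≤ 4` if `|vv S| = 16` and `vv S` has no closed hyperplane.
-/

set_option autoImplicit false
set_option linter.unusedSectionVars false

namespace Cfsg.Agent.MinSimple.EmptyE.MaxLocal

open Subgroup Cfsg Cfsg.Agent.ZN Cfsg.Agent.ZN.ChoiceBase Cfsg.Agent.ZN.ChoiceSit
open Cfsg.Agent.MinSimple.EmptyTI Cfsg.Agent.MinSimple.EmptySix
open Cfsg.Agent.MinSimple.EmptyE.Closed

universe u

variable {G : Type u} [Group G] [Finite G] {S : Sylow 2 G} {H I V : Subgroup G} {z : G}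

theorem mem_zc_of_geo (hG : Geo.Geo (S : Subgroup G) V z) : z ∈ zc (S : Subgroup G) :=
  ChoiceBase.mem_zc.2 ⟨hG.V_le hG.z_mem, by rw [pow_two, hG.zz], fun _ hs =>
    mem_centralizer_singleton_iff.1 (hG.T_le hs)⟩

/-- `N_G(R) ≤ N_G(I)` for every 2-subgroup `R ≠ 1` normalized by `C_G(z)`. -/
theorem normalizer_le (h : ESit S) (hI : TIData (S : Subgroup G) I) (hz : z ∈ zc (S : Subgroup G))
    (hz1 : z ≠ 1) {R : Subgroup G} (hR : IsPGroup 2 R) (hR1 : R ≠ ⊥)
    (hC : centralizer ({z} : Set G) ≤ normalizer (R : Set G)) :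
    normalizer (R : Set G) ≤ normalizer (I : Set G) := by
  have hX : IsTwoLocal (normalizer (R : Set G)) := ⟨R, hR, hR1, rfl⟩
  have hSX : (S : Subgroup G) ≤ normalizer (R : Set G) :=
    (Glue.le_centralizer_of_mem_zc hz).trans hC
  have hJX : jj (S : Subgroup G) ≤ normalizer (R : Set G) := (ChoiceBase.jj_le _).trans hSX
  have h1 : jcl (jj (S : Subgroup G)) (normalizer (R : Set G)) ≤ centralizer ({z} : Set G) := by
    refine (h.jcl_le_centralizer hX hSX).trans (centralizer_le ?_)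
    rintro _ rfl
    exact VModule.zc_le_zl _ _ hz
  have h2 : jcl (jj (S : Subgroup G)) (normalizer (R : Set G)) =
      jcl (jj (S : Subgroup G)) (centralizer ({z} : Set G)) := by
    apply le_antisymm _ (jcl_mono hC)
    rw [← jcl_jcl S hJX]
    exact jcl_mono h1
  rw [hI.jcl_eq z (hI.zc_le hz) hz1] at h2
  have h3 := le_normalizer_jcl (jj (S : Subgroup G)) (normalizer (R : Set G))
  rw [h2, hI.normalizer_eq] at h3
  exact h3

theorem isPGroup_I (hI : TIData (S : Subgroup G) I) : IsPGroup 2 I :=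
  (isPGroup_zj S.isPGroup').to_le hI.le_zj

theorem normalizer_le_of_card (_hI : TIData (S : Subgroup G) I) (hz : z ∈ zc (S : Subgroup G))
    (hz1 : z ≠ 1) (h2 : Nat.card (zl (S : Subgroup G) (normalizer (I : Set G))) ≤ 2) :
    normalizer (I : Set G) ≤ centralizer ({z} : Set G) := by
  have hzz : z * z = 1 := by rw [← pow_two]; exact (ChoiceBase.mem_zc.1 hz).2.1
  have h3 : zpowers z = zl (S : Subgroup G) (normalizer (I : Set G)) := by
    refine eq_of_le_of_card_ge ?_ ?_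
    · rw [zpowers_le]
      exact VModule.zc_le_zl _ _ hz
    · rw [Nat.card_zpowers, orderOf_eq_prime (by rw [pow_two, hzz]) hz1]
      exact h2
  rw [← Geo.normalizer_zpowers hzz hz1, h3]
  exact VModule.le_normalizer_zl _ _

/-- `N_G(I)` is the maximal 2-local subgroup over `C_G(z)`. -/
theorem mp (h : ESit S) (hI : TIData (S : Subgroup G) I) (hz : z ∈ zc (S : Subgroup G))
    (hz1 : z ≠ 1) (h4 : Nat.card (vv (S : Subgroup G) ⊓ I : Subgroup G) ≤ 4) :
    OddMp.Mp z (normalizer (I : Set G)) where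
  le := hI.cent z (hI.zc_le hz) hz1
  loc := ⟨I, isPGroup_I hI, hI.ne, rfl⟩
  max := fun _ hR hR1 hC => normalizer_le h hI hz hz1 hR hR1 hC
  card := by
    have hf : Fact (Nat.Prime 2) := ⟨Nat.prime_two⟩
    by_cases h2 : Nat.card (zl (S : Subgroup G) (normalizer (I : Set G))) ≤ 2
    · exact Or.inl (normalizer_le_of_card hI hz hz1 h2)
    · right
      refine ⟨zl (S : Subgroup G) (normalizer (I : Set G)), ?_, VModule.zc_le_zl _ _ hz,
        VModule.le_normalizer_zl _ _⟩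
      have h5 := (Subgroup.card_le_of_le hI.zl_le).trans h4
      have h6 : IsPGroup 2 (zl (S : Subgroup G) (normalizer (I : Set G))) :=
        (isPGroup_I hI).to_le (hI.zl_le.trans inf_le_right)
      obtain ⟨n, hn⟩ := IsPGroup.iff_card.mp h6
      rw [hn] at h2 h5 ⊢
      have h7 : n = 2 := by
        have h8 : n < 3 := by
          by_contra h9
          have : 2 ^ 3 ≤ 2 ^ n := Nat.pow_le_pow_right (by norm_num) (by omega)
          omega
        have h9 : 1 < n := by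
          by_contra h9
          have : 2 ^ n ≤ 2 ^ 1 := Nat.pow_le_pow_right (by norm_num) (by omega)
          omega
        omega
      rw [h7]
      norm_num

/-- the maximality of `C_G(z)` from `M = C_G(z)` -/
theorem max1_of_mp {M : Subgroup G} (hM : OddMp.Mp z M) (hMC : M ≤ centralizer ({z} : Set G)) :
    OddThreeM.Max1 z := by
  rintro _ ⟨g, rfl⟩ R hR hR1 hC
  refine ((hM.conj g).max R hR hR1 hC).trans ?_
  have := Geo.cj_mono (g := g) hMC
  rwa [Geo.cj_centralizer_singleton] at this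

theorem max1 (h : ESit S) (hI : TIData (S : Subgroup G) I) (hz : z ∈ zc (S : Subgroup G))
    (hz1 : z ≠ 1) (h2 : Nat.card (vv (S : Subgroup G) ⊓ I : Subgroup G) ≤ 2) :
    OddThreeM.Max1 z :=
  max1_of_mp (mp h hI hz hz1 (by omega))
    (normalizer_le_of_card hI hz hz1 ((Subgroup.card_le_of_le hI.zl_le).trans h2))

/-- `Max2` from `|vv S ∩ I| ≤ 4`. -/
theorem max2 (h : ESit S) (hI : TIData (S : Subgroup G) I) (hG : OddLine.Odd (S : Subgroup G) V z)
    (h4 : Nat.card (vv (S : Subgroup G) ⊓ I : Subgroup G) ≤ 4) : OddMp.Max2 V z :=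
  OddMp.max2 hG (mp h hI (mem_zc_of_geo hG.toGeo) hG.z_ne h4)

/-- `|vv S ∩ I| ≤ 2` if `vv S` has a closed hyperplane. -/
theorem card_inf_le_two (h : ESit S) (hI : TIData (S : Subgroup G) I)
    (hH : H ≤ vv (S : Subgroup G)) (hcard : Nat.card (vv (S : Subgroup G)) = 2 * Nat.card H)
    (hcl : ∀ u ∈ H, u ≠ 1 → cl (S : Subgroup G) u ≤ H) :
    Nat.card (vv (S : Subgroup G) ⊓ I : Subgroup G) ≤ 2 := by
  by_contra hcon
  push Not at hcon
  refine Four.false_of_le h hH hcard hcl inf_le_left hcon fun v hv hv1 => ?_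
  rw [Four.cl_eq_inf hI hv.2 hv1]
  exact le_inf (zc_le_vv _) hI.zc_le

/-- `|vv S ∩ I| ≤ 4` if `|vv S| = 16` and `vv S` has no closed hyperplane. -/
theorem card_inf_le_four (h : ESit S) (hI : TIData (S : Subgroup G) I)
    (h16 : Nat.card (vv (S : Subgroup G)) = 16)
    (hno : ∀ H : Subgroup G, H ≤ vv (S : Subgroup G) →
        (∀ u ∈ H, u ≠ 1 → cl (S : Subgroup G) u ≤ H) →
        Nat.card (vv (S : Subgroup G)) ≠ 2 * Nat.card H) :
    Nat.card (vv (S : Subgroup G) ⊓ I : Subgroup G) ≤ 4 := by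
  have hd : Nat.card (vv (S : Subgroup G) ⊓ I : Subgroup G) ∣ 2 ^ 4 := by
    have := card_dvd_of_le (inf_le_left : vv (S : Subgroup G) ⊓ I ≤ vv (S : Subgroup G))
    rwa [h16] at this
  obtain ⟨n, hn, hn'⟩ := (Nat.dvd_prime_pow Nat.prime_two).1 hd
  have h8 : Nat.card (vv (S : Subgroup G) ⊓ I : Subgroup G) ≠ 8 := by
    intro h0
    refine hno (vv (S : Subgroup G) ⊓ I) inf_le_left (fun u hu hu1 => ?_) (by rw [h16, h0])
    exact (Four.cl_eq_inf hI hu.2 hu1).le
  have hne : Nat.card (vv (S : Subgroup G) ⊓ I : Subgroup G) ≠ 16 := by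
    intro h0
    have h1 : vv (S : Subgroup G) ⊓ I = vv (S : Subgroup G) :=
      eq_of_le_of_card_ge inf_le_left (by rw [h0, h16])
    obtain ⟨z, hz, hz1⟩ := (zc (S : Subgroup G)).bot_or_exists_ne_one.resolve_left h.zc_ne_bot
    apply h.not_CC_le
    have h2 := h.centralizer_le_of_cl_eq (zc_le_vv _ hz)
      ((Four.cl_eq_inf hI (hI.zc_le hz) hz1).trans h1)
    refine le_trans (fun x hx => ?_) h2
    rw [mem_centralizer_singleton_iff]
    exact (mem_centralizer_iff.1 hx z hz).symm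
  have h3 : n ≤ 2 := by
    by_contra h4
    have h5 : n = 3 ∨ n = 4 := by omega
    rcases h5 with rfl | rfl
    · exact h8 hn'
    · exact hne hn'
  rw [hn']
  calc 2 ^ n ≤ 2 ^ 2 := Nat.pow_le_pow_right (by norm_num) h3
    _ = 4 := by norm_num

/-- Step 4 of Theorem E, the exit with `Max1 z`. -/
theorem step_four' (h : ESit S) :
    (∃ (l : Subgroup G) (z : G), Geo.Geo (S : Subgroup G) l z ∧ OddThreeM.Max1 z) ∨
      ∀ H : Subgroup G, H ≤ vv (S : Subgroup G) →
        (∀ u ∈ H, u ≠ 1 → cl (S : Subgroup G) u ≤ H) →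
        Nat.card (vv (S : Subgroup G)) ≠ 2 * Nat.card H := by
  obtain ⟨I, hI⟩ := exists_tiData S h.ne_bot h.empty
  by_cases hex : ∃ H : Subgroup G, H ≤ vv (S : Subgroup G) ∧
      (∀ u ∈ H, u ≠ 1 → cl (S : Subgroup G) u ≤ H) ∧
      Nat.card (vv (S : Subgroup G)) = 2 * Nat.card H
  · left
    obtain ⟨H, hH, hcl, hcard⟩ := hex
    obtain ⟨l, z, -, -, hg⟩ := Four.four h hI hH hcard hcl
    exact ⟨l, z, hg, max1 h hI (mem_zc_of_geo hg) hg.z_ne (card_inf_le_two h hI hH hcard hcl)⟩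
  · right
    intro H hH hcl hcard
    exact hex ⟨H, hH, hcl, hcard⟩

/-- `|vv S| = 4` : the exit with `Max1 z`. -/
theorem of_card_four' (h : ESit S) (hV : Nat.card (vv (S : Subgroup G)) = 4) :
    ∃ (l : Subgroup G) (z : G), Geo.Geo (S : Subgroup G) l z ∧ OddThreeM.Max1 z := by
  obtain ⟨P, hP, hPC, hPL⟩ := Hyper.exists_minPar h
  obtain ⟨x, -, -, -, -, hZ, hne, hcl, -⟩ := Hyper.hyper h hP hPC hPL
  rcases step_four' h with h1 | h1
  · exact h1
  exfalso
  refine h1 (Hyper.hh (S : Subgroup G) x) inf_le_left hcl ?_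
  rw [hV]
  have h2 : Nat.card (Hyper.hh (S : Subgroup G) x) ∣ 4 := by
    rw [← hV]
    exact card_dvd_of_le inf_le_left
  have h3 : Nat.card (Hyper.hh (S : Subgroup G) x) ≠ 1 := by
    intro h0
    rw [card_eq_one] at h0
    exact h.zc_ne_bot (le_bot_iff.1 (hZ.trans h0.le))
  have h4 : Nat.card (Hyper.hh (S : Subgroup G) x) ≠ 4 := by
    intro h0
    exact hne (eq_of_le_of_card_ge inf_le_left (by rw [h0]; exact hV.le))
  have h5 : Nat.card (Hyper.hh (S : Subgroup G) x) ≤ 4 := Nat.le_of_dvd (by norm_num) h2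
  have h6 : 0 < Nat.card (Hyper.hh (S : Subgroup G) x) := Nat.card_pos
  interval_cases hc : Nat.card (Hyper.hh (S : Subgroup G) x) <;> omega

end Cfsg.Agent.MinSimple.EmptyE.MaxLocal
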