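import Cfsg.Agent.MinSimple.EmptyMod

/-!
# The case "(Empty)", steps 3 and 5: the modules `V`

`V` an elementary abelian 2-group, `Γ ≤ Aut V` solvable with `O₂(Γ) = 1`, `T` a Sylow 2-subgroup of `Γ`,
`1 ≠ E ≤ T` elementary abelian, `H < V` closed, `C_V(T) ≤ H ≤ C_V(E)`, `|V : H| ≤ 2|E|` (`Hyp`).
Then `|V| = 4` or `|V| = 16` and one of `CaseY`, `CaseX`, `CaseO` holds (`Hyp.main`).
-/

set_option autoImplicit false

namespace Cfsg.Agent.MinSimple.EmptyE.Small

open Subgroup Cfsg Cfsg.Agent.ZN Cfsg.Agent.ZN.ChoiceBase Cfsg.Agent.ZN.ChoiceSit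
open Cfsg.Agent.MinSimple.EmptyMod

universe u

variable {V : Type u} [CommGroup V]

/-- `C_V(P)` -/
def fxG (P : Subgroup (MulAut V)) : Subgroup V where
  carrier := {v | ∀ g ∈ P, g v = v}
  one_mem' := fun g _ => map_one g
  mul_mem' := by
    intro a b ha hb g hg
    rw [map_mul, ha g hg, hb g hg]
  inv_mem' := by
    intro a ha g hg
    rw [map_inv, ha g hg]

theorem mem_fxG {P : Subgroup (MulAut V)} {v : V} : v ∈ fxG P ↔ ∀ g ∈ P, g v = v := Iff.rfl

/-- The input. -/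
structure Hyp (Γ T E : Subgroup (MulAut V)) (H : Subgroup V) : Prop where
  sq : ∀ v : V, v * v = 1
  solv : Group.IsSolvable Γ
  o2 : o2 Γ = ⊥
  syl : Syl T Γ
  le : E ≤ T
  Esq : ∀ e ∈ E, e * e = 1
  Ene : E ≠ ⊥
  ne_top : H ≠ ⊤
  fixT : ∀ v : V, (∀ t ∈ T, t v = v) → v ∈ H
  fix : ∀ e ∈ E, ∀ h ∈ H, e h = h
  index : H.index ≤ 2 * Nat.card E
  nofix : ∀ v : V, (∀ g ∈ Γ, g v = v) → v = 1
  closed : ∀ u ∈ H, u ≠ 1 → ∀ T' : Subgroup (MulAut V), Syl T' (Γ ⊓ st u) →
    ∀ v : V, (∀ t ∈ T', t v = v) → v ∈ H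

/-- **(Y)** : `T` is cyclic of order 2 or 4 with the involution `e`, `H = C_V(e) = [V, e]` has order 4. -/
structure CaseY (T : Subgroup (MulAut V)) (H : Subgroup V) (e : MulAut V) : Prop where
  mem : e ∈ T
  sq : e * e = 1
  ne : e ≠ 1
  card : Nat.card H = 4
  fx_eq : fx e = H
  br_eq : br e = H
  cases : (T = zpowers e ∧ fxG T = H) ∨
    ∃ f ∈ T, f * f = e ∧ T = zpowers f ∧ ∃ z ∈ H, z ≠ 1 ∧ ∀ v : V, v ∈ fxG T ↔ v = 1 ∨ v = z

/-- **(X)** : two `T`-invariant subgroups `A`, `B` of order 4 containing `z`, `⟨z⟩ = C_V(T)`, whose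
stabilizers in `Γ` move `z`. -/
structure CaseX (Γ T : Subgroup (MulAut V)) (A B : Subgroup V) (z : V) : Prop where
  ne : z ≠ 1
  fixT : ∀ v : V, v ∈ fxG T ↔ v = 1 ∨ v = z
  cardA : Nat.card A = 4
  cardB : Nat.card B = 4
  neAB : A ≠ B
  memA : z ∈ A
  memB : z ∈ B
  invA : ∀ t ∈ T, ∀ v ∈ A, t v ∈ A
  invB : ∀ t ∈ T, ∀ v ∈ B, t v ∈ B
  moveA : ∃ g ∈ Γ, (∀ v ∈ A, g v ∈ A) ∧ g z ≠ z
  moveB : ∃ g ∈ Γ, (∀ v ∈ B, g v ∈ B) ∧ g z ≠ z

/-- **(O)** : `V = V₁ × V₂`, `Γ` permutes `{V₁, V₂}`, `T` swaps, `Γ ≥ S₃ × S₃`. -/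
structure CaseO (Γ T : Subgroup (MulAut V)) (V₁ V₂ : Subgroup V) (z : V) : Prop where
  ne : z ≠ 1
  fixT : ∀ v : V, v ∈ fxG T ↔ v = 1 ∨ v = z
  card₁ : Nat.card V₁ = 4
  card₂ : Nat.card V₂ = 4
  inf : V₁ ⊓ V₂ = ⊥
  sup : V₁ ⊔ V₂ = ⊤
  perm : ∀ g ∈ Γ, ((∀ v ∈ V₁, g v ∈ V₁) ∧ ∀ v ∈ V₂, g v ∈ V₂) ∨
    ((∀ v ∈ V₁, g v ∈ V₂) ∧ ∀ v ∈ V₂, g v ∈ V₁)
  swap : ∃ s ∈ T, (∀ v ∈ V₁, s v ∈ V₂) ∧ ∀ v ∈ V₂, s v ∈ V₁
  t₁ : ∃ t ∈ T, (∃ v ∈ V₁, t v ≠ v) ∧ (∀ v ∈ V₁, t v ∈ V₁) ∧ ∀ v ∈ V₂, t v = v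
  t₂ : ∃ t ∈ T, (∃ v ∈ V₂, t v ≠ v) ∧ (∀ v ∈ V₂, t v ∈ V₂) ∧ ∀ v ∈ V₁, t v = v
  d₁ : ∃ d ∈ Γ, (∀ v ∈ V₁, d v = v → v = 1) ∧ (∀ v ∈ V₁, d v ∈ V₁) ∧ ∀ v ∈ V₂, d v = v
  d₂ : ∃ d ∈ Γ, (∀ v ∈ V₂, d v = v → v = 1) ∧ (∀ v ∈ V₂, d v ∈ V₂) ∧ ∀ v ∈ V₁, d v = v
  not₁ : z ∉ V₁
  not₂ : z ∉ V₂

variable [Finite V]

/-- A `p`-group acting on a subgroup `W`. -/
theorem modEq {p : ℕ} [Fact p.Prime] {P : Subgroup (MulAut V)} (hP : IsPGroup p P) {W : Subgroup V}
    (hW : ∀ g ∈ P, Inv g W) : Nat.card W ≡ Nat.card (W ⊓ fxG P : Subgroup V) [MOD p] := by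
  let : MulAction P W :=
    { smul := fun t k => ⟨(t : MulAut V) k, hW t t.2 k k.2⟩
      one_smul := fun k => rfl
      mul_smul := fun a b k => rfl }
  have h1 := hP.card_modEq_card_fixedPoints W
  refine h1.trans ?_
  have h2 : Nat.card (MulAction.fixedPoints P W) = Nat.card (W ⊓ fxG P : Subgroup V) := by
    refine Nat.card_congr
      { toFun := fun w => ⟨w.1.1, w.1.2, fun g hg => congrArg Subtype.val (w.2 ⟨g, hg⟩)⟩
        invFun := fun w => ⟨⟨w.1, w.2.1⟩, fun g => Subtype.ext (w.2.2 g g.2)⟩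
        left_inv := fun w => rfl
        right_inv := fun w => rfl }
  rw [h2]

omit [Finite V] in
theorem fxG_zpowers (f : MulAut V) : fxG (zpowers f) = fx f := by
  ext v
  rw [mem_fxG, mem_fx]
  constructor
  · intro h; exact h f (mem_zpowers f)
  · intro h g hg
    have h1 : zpowers f ≤ st v := by rw [zpowers_le]; exact h
    exact h1 hg

omit [Finite V] in
theorem isPGroup_of_prime {f : MulAut V} {p : ℕ} (h : orderOf f = p) : IsPGroup p (zpowers f) := by
  rw [← h]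
  intro g
  refine ⟨1, ?_⟩
  rw [pow_one]
  have h1 : Nat.card (zpowers f) = orderOf f := Nat.card_zpowers f
  rw [← h1]
  exact pow_card_eq_one'

/-- orders of elements of prime order without fixed points -/
theorem dvd_of_fpf (hV : ∀ v : V, v * v = 1) {f : MulAut V} (hf : (orderOf f).Prime) {W : Subgroup V}
    (hW : Inv f W) (hfix : W ⊓ fx f = ⊥) : orderOf f ∣ 2 ^ rk W - 1 := by
  have : Fact (orderOf f).Prime := ⟨hf⟩
  have h1 := modEq (isPGroup_of_prime (rfl : orderOf f = orderOf f)) (W := W) (by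
    intro g hg w hw
    have h2 : ∀ g ∈ zpowers f, ∀ w ∈ W, g w ∈ W := by
      intro g hg
      rw [← mem_powers_iff_mem_zpowers] at hg
      obtain ⟨n, rfl⟩ := hg
      intro w hw
      induction n with
      | zero => exact hw
      | succ n ih =>
        change (f ^ (n + 1)) w ∈ W
        rw [pow_succ', MulAut.mul_apply]
        exact hW _ ih
    exact h2 g hg w hw)
  rw [fxG_zpowers, hfix, card_bot, card_eq hV] at h1
  exact (Nat.modEq_iff_dvd' Nat.one_le_two_pow).1 h1.symm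

theorem ncard_pair_le {α : Type*} (a b : α) : Set.ncard ({a, b} : Set α) ≤ 2 :=
  (Set.ncard_insert_le a {b}).trans (by rw [Set.ncard_singleton])

/-! ### `O₃(Γ)` -/

/-- `O₃(Γ)` -/
def o3 (Γ : Subgroup (MulAut V)) : Subgroup (MulAut V) := (pCore 3 Γ).map Γ.subtype

omit [Finite V] in
theorem o3_le (Γ : Subgroup (MulAut V)) : o3 Γ ≤ Γ := map_subtype_le _

omit [Finite V] in
theorem o3_isPGroup (Γ : Subgroup (MulAut V)) : IsPGroup 3 (o3 Γ) := by
  have : Fact (Nat.Prime 3) := ⟨Nat.prime_three⟩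
  exact (Lib.Cores.pCore_isPGroup 3).map _

omit [Finite V] in
theorem o3_norm (Γ : Subgroup (MulAut V)) : Γ ≤ normalizer (o3 Γ : Set (MulAut V)) :=
  OddOrderLocal.FitAux.le_normalizer_map_subtype (Lib.Cores.pCore_normal 3)

theorem mem_o3 {Γ : Subgroup (MulAut V)} {y : MulAut V} (hy : y ∈ fittingOf Γ) (h3 : orderOf y = 3) :
    y ∈ o3 Γ := by
  have : Fact (Nat.Prime 3) := ⟨Nat.prime_three⟩
  obtain ⟨x, hx, rfl⟩ := hy
  refine ⟨x, ?_, rfl⟩
  refine Lib.GenFitting.mem_pCore_of_mem_nilpotent_normal Lib.Cores.fittingSubgroup_normal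
    Lib.Cores.fittingSubgroup_isNilpotent (k := 1) hx (Subtype.ext ?_)
  have := pow_orderOf_eq_one (Γ.subtype x)
  rw [h3] at this
  rw [pow_one]
  exact this

theorem card_le_two_of_rk (hV : ∀ v : V, v * v = 1) {W : Subgroup V} (h : rk W = 1) {a b : V}
    (ha : a ∈ W) (hb : b ∈ W) (ha1 : a ≠ 1) (hb1 : b ≠ 1) : a = b := by
  have h1 : Nat.card W = 2 := by rw [card_eq hV, h, pow_one]
  obtain ⟨x, y, hxy, hu⟩ := Nat.card_eq_two_iff.1 h1
  have hall : ∀ w : W, w = x ∨ w = y := fun w => by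
    have : w ∈ ({x, y} : Set W) := by rw [hu]; exact Set.mem_univ w
    exact this
  have e1 := hall 1
  have e2 := hall ⟨a, ha⟩
  have e3 := hall ⟨b, hb⟩
  have n2 : (⟨a, ha⟩ : W) ≠ 1 := fun h0 => ha1 (congrArg Subtype.val h0)
  have n3 : (⟨b, hb⟩ : W) ≠ 1 := fun h0 => hb1 (congrArg Subtype.val h0)
  have h4 : (⟨a, ha⟩ : W) = ⟨b, hb⟩ := by
    rcases e1 with e1 | e1 <;> rcases e2 with e2 | e2 <;> rcases e3 with e3 | e3 <;>
      first
      | exact e2.trans e3.symm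
      | exact absurd (e2.trans e1.symm) n2
      | exact absurd (e3.trans e1.symm) n3
  exact congrArg Subtype.val h4

namespace Hyp

variable {Γ T E : Subgroup (MulAut V)} {H : Subgroup V}

theorem H_ne_bot (h : Hyp Γ T E H) : H ≠ ⊥ := by
  intro h0
  have h1 : (⊤ : Subgroup V) ≠ ⊥ := fun h2 => h.ne_top (by rw [h0, h2])
  obtain ⟨w, -, hw1, hw⟩ := exists_fixed h.sq h.syl.2.1 (K := ⊤) (fun t _ v _ => mem_top _) h1
  have h2 := h.fixT w hw
  rw [h0, mem_bot] at h2
  exact hw1 h2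

/-- (3a) -/
theorem inf_fx (h : Hyp Γ T E H) {e y : MulAut V} (he : e ∈ E) (hy : y ∈ fittingOf Γ)
    (hinv : e * y * e⁻¹ = y⁻¹) (hy1 : y ≠ 1) : H ⊓ fx y = ⊥ := by
  rw [eq_bot_iff]
  rintro u ⟨hu, huy⟩
  rw [mem_bot]
  by_contra hu1
  have hodd := fit_odd h.o2
  have h1 := comm_of_fixed h.sq (E := E) (u := u) hodd (fit_le Γ) (fit_norm Γ) (h.le.trans h.syl.1)
    (fun e he => h.fix e he u hu) (fun T' hT' v hv e he => h.fix e he v (h.closed u hu hu1 T' hT' v hv))
    e he y hy huy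
  rw [h1, mul_inv_cancel_right] at hinv
  have h2 : y * y = 1 := by
    nth_rewrite 1 [hinv]
    exact inv_mul_cancel y
  exact hy1 (fit_sq h.o2 y hy h2)

theorem rk_top_le (h : Hyp Γ T E H) {n : ℕ} (hn : Nat.card E = 2 ^ n) :
    rk (⊤ : Subgroup V) ≤ rk H + n + 1 := by
  have h1 := card_mul_index H
  have h2 := h.index
  rw [hn] at h2
  rw [← card_top (G := V), card_eq h.sq, card_eq h.sq] at h1
  have h3 : 2 ^ rk (⊤ : Subgroup V) ≤ 2 ^ (rk H + n + 1) := by
    rw [← h1, pow_add, pow_add, mul_assoc]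
    refine Nat.mul_le_mul_left _ ?_
    rw [pow_one, mul_comm]
    exact h2
  exact (Nat.pow_le_pow_iff_right (by norm_num)).1 h3

/-- The dimensions: `|E| = 2` and `|V| ≤ 4 |H|`, `|H| ≤ 4`, or `|E| = 4` and `|V| = 16`. -/
theorem dims (h : Hyp Γ T E H) : ∃ (n : ℕ) (e y : Fin n → MulAut V), Nat.card E = 2 ^ n ∧
    E = closure (Set.range e) ∧ (∀ j, e j ∈ E) ∧ (∀ j, y j ∈ fittingOf Γ) ∧
    (∀ j, (orderOf (y j)).Prime) ∧ Dih e y ∧ (∀ j, H ⊓ fx (y j) = ⊥) ∧ 0 < n ∧
    (∀ j, rk H ≤ rk (fxs e Set.univ ⊓ br (y j))) ∧ 0 < rk H ∧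
    ((n = 1 ∧ rk H = 1 ∧ (rk (⊤ : Subgroup V) = 2 ∨ rk (⊤ : Subgroup V) = 3)) ∨
      (n = 1 ∧ rk H = 2 ∧ rk (⊤ : Subgroup V) = 4) ∨
      (n = 2 ∧ rk H = 1 ∧ rk (⊤ : Subgroup V) = 4)) := by
  obtain ⟨n, e, y, hcard, hcl, he, hy, hp, hD⟩ := exists_dih h.solv h.o2 (h.le.trans h.syl.1) h.Esq
  have hn : 0 < n := by
    rcases Nat.eq_zero_or_pos n with h0 | h0
    · rw [h0, pow_zero, card_eq_one] at hcard
      exact absurd hcard h.Ene
    · exact h0
  have hfix : ∀ j, H ⊓ fx (y j) = ⊥ := fun j => h.inf_fx (he j) (hy j) (hD.inv j) (hD.ne j)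
  have hH : H ≤ fxs e Set.univ := fun v hv i _ => h.fix _ (he i) v hv
  have h1 : ∀ j, rk H ≤ rk (fxs e Set.univ ⊓ br (y j)) := fun j => hD.rk_le h.sq hH j (hfix j)
  have h2 := rk_pos h.sq h.H_ne_bot
  refine ⟨n, e, y, hcard, hcl, he, hy, hp, hD, hfix, hn, h1, h2, ?_⟩
  have h3 := h.rk_top_le hcard
  have h4 := hD.sum_le h.sq Finset.univ
  have h5 : n * rk H ≤ ∑ i : Fin n, rk (fxs e Set.univ ⊓ br (y i)) := by
    calc n * rk H = ∑ _i : Fin n, rk H := by simp
      _ ≤ _ := Finset.sum_le_sum fun i _ => h1 i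
  rw [Finset.coe_univ] at h4
  have h6 : rk H ≤ rk (fxs e Set.univ) := rk_mono hH
  have h7 := hD.two_mul_card_le h.sq n Finset.univ (by simp) ⊤ (fun _ _ _ _ => mem_top _)
    (fun _ _ _ _ => mem_top _) (fun i _ hle => hD.ne i (by
      ext v
      exact hle (mem_top v)))
  rw [Finset.card_univ, Fintype.card_fin] at h7
  -- arithmetic
  have h8 : n * rk H ≤ n + 1 := by omega
  have h9 : rk H ≤ 2 := by
    by_contra h0
    push Not at h0
    nlinarith
  have h10 : n ≤ 1 ∨ rk H ≤ 1 := by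
    by_contra h0
    push Not at h0
    nlinarith
  rcases h10 with h10 | h10
  · have hn1 : n = 1 := by omega
    subst hn1
    omega
  · have hr1 : rk H = 1 := by omega
    rw [hr1] at h3 h5 h6
    omega

theorem rk_br (h : Hyp Γ T E H) {e y : MulAut V} (hy : Odd (orderOf y)) (he : e * e = 1)
    (hinv : e * y * e⁻¹ = y⁻¹) : rk (br y) = 2 * rk (br y ⊓ fx e) := by
  refine rk_eq_two_mul h.sq hy he hinv (Inv.br' hinv) (Inv.br rfl) ?_
  rw [inf_comm]; exact fx_inf_br h.sq hy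

omit [Finite V] in
theorem br_ne_bot (h : Hyp Γ T E H) {y : MulAut V} (hy1 : y ≠ 1) : br y ≠ ⊥ := by
  intro h0
  apply hy1
  ext v
  have h1 : v * y v ∈ br y := ⟨v, rfl⟩
  rw [h0, mem_bot, mul_eq_one_iff_eq_inv, inv_eq h.sq] at h1
  exact h1.symm

theorem not_three (h : Hyp Γ T E H) (h3 : rk (⊤ : Subgroup V) = 3) : False := by
  obtain ⟨n, e, y, -, -, he, hy, hp, hD, hfix, hn, h1, h2, hcases⟩ := h.dims
  have hn1 : n = 1 := by omega
  subst hn1
  set i : Fin 1 := 0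
  have e1 := h.rk_br (hD.odd i) (hD.esq i) (hD.inv i)
  have e2 := rk_pos h.sq (h.br_ne_bot (hD.ne i))
  have e3 := rk_inv h.sq (hD.odd i) (W := ⊤) (fun _ _ => mem_top _)
  rw [top_inf_eq, top_inf_eq] at e3
  have e4 : rk (br (y i)) = 2 := by omega
  have e5 : rk (fx (y i)) = 1 := by omega
  have e6 := dvd_of_fpf h.sq (hp i) (W := br (y i)) (Inv.br rfl)
    (by rw [inf_comm]; exact fx_inf_br h.sq (hD.odd i))
  rw [e4] at e6
  have e7 : orderOf (y i) = 3 := (Nat.prime_dvd_prime_iff_eq (hp i) Nat.prime_three).1 e6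
  have e8 := mem_o3 (hy i) e7
  have : Fact (Nat.Prime 3) := ⟨Nat.prime_three⟩
  have e9 := modEq (o3_isPGroup Γ) (W := ⊤) (fun _ _ _ _ => mem_top _)
  rw [top_inf_eq, card_eq h.sq, h3, card_eq h.sq] at e9
  have e10 : fxG (o3 Γ) ≠ ⊥ := by
    intro h0
    rw [h0, rk_bot] at e9
    revert e9
    decide
  obtain ⟨⟨f, hf⟩, hf1⟩ := ne_bot_iff_exists_ne_one.1 e10
  have hf1' : f ≠ 1 := fun h0 => hf1 (Subtype.ext h0)
  refine hf1' (h.nofix f fun g hg => ?_)
  have hgf : g f ∈ fxG (o3 Γ) := by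
    intro x hx
    have h5 : g⁻¹ * x * g ∈ o3 Γ := by
      have := (mem_normalizer_iff.1 (o3_norm Γ (inv_mem hg)) x).1 hx
      rwa [inv_inv] at this
    have h6 := hf _ h5
    rw [MulAut.mul_apply, MulAut.mul_apply] at h6
    calc x (g f) = (g * g⁻¹) (x (g f)) := by rw [mul_inv_cancel, MulAut.one_apply]
      _ = g (g⁻¹ (x (g f))) := rfl
      _ = g f := by rw [h6]
  have hgf1 : g f ≠ 1 := fun h0 => hf1' (by
    have := congrArg (fun v => g⁻¹ v) h0
    simpa using this)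
  exact card_le_two_of_rk h.sq e5 (hgf _ e8) (hf _ e8) hgf1 hf1'

/-- The unique involution: `H = C_V(e) = [V, e]`. -/
theorem fx_eq_of_unique (h : Hyp Γ T E H) (h4 : rk (⊤ : Subgroup V) = 4) {e : MulAut V} (he : e * e = 1)
    (huniq : ∀ t ∈ T, t * t = 1 → t = 1 ∨ t = e) : rk H = 2 ∧ fx e = H ∧ br e = H ∧ e ∈ E := by
  obtain ⟨n, b, y, hcard, -, hb, hy, hp, hD, hfix, hn, h1, h2, hcases⟩ := h.dims
  have hE : ∀ x ∈ E, x = 1 ∨ x = e := fun x hx => huniq x (h.le hx) (h.Esq x hx)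
  have hc : Nat.card E ≤ 2 := by
    have hsub : (E : Set (MulAut V)) ⊆ {1, e} := fun x hx => hE x hx
    calc Nat.card E = Set.ncard (E : Set (MulAut V)) := Nat.card_coe_set_eq _
      _ ≤ Set.ncard ({1, e} : Set (MulAut V)) := Set.ncard_le_ncard hsub (Set.toFinite _)
      _ ≤ 2 := ncard_pair_le _ _
  have hn1 : n = 1 := by
    rw [hcard] at hc
    have : n ≤ 1 := by
      by_contra h0
      push Not at h0
      have h5 : 2 ^ 2 ≤ 2 ^ n := Nat.pow_le_pow_right (by norm_num) h0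
      omega
    omega
  subst hn1
  set i : Fin 1 := 0
  have hbe : b i = e := by
    rcases hE (b i) (hb i) with h5 | h5
    · exfalso
      have h6 := hD.inv i
      rw [h5, one_mul, inv_one, mul_one] at h6
      have h7 : y i * y i = 1 := by
        nth_rewrite 1 [h6]
        exact inv_mul_cancel _
      exact hD.ne i (fit_sq h.o2 _ (hy i) h7)
    · exact h5
  have hfxs : fxs b Set.univ = fx e := by
    ext v
    rw [mem_fxs, mem_fx]
    constructor
    · intro h5; rw [← hbe]; exact h5 i (Set.mem_univ i)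
    · intro h5 j _
      have : j = i := Subsingleton.elim _ _
      rw [this, hbe]; exact h5
  have h5 : rk H = 2 := by omega
  have h6 := h1 i
  have h7 := h.rk_br (hD.odd i) (hD.esq i) (hD.inv i)
  rw [hfxs, inf_comm, ← hbe] at h6
  have h8 : rk (br (y i)) ≤ rk (⊤ : Subgroup V) := rk_mono le_top
  have h9 : br (y i) = ⊤ := eq_of_rk h.sq le_top (by omega)
  rw [h9, top_inf_eq, h4] at h7
  have h10 : H ≤ fx e := fun v hv => h.fix e (hbe ▸ hb i) v hv
  have h11 : H = fx e := eq_of_rk h.sq h10 (by rw [← hbe]; omega)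
  have h12 := rk_fx_add h.sq ⊤ e
  rw [top_inf_eq, ← MonoidHom.range_eq_map] at h12
  change rk ⊤ = rk (fx e) + rk (br e) at h12
  have h13 : br e ≤ fx e := by
    rintro _ ⟨w, rfl⟩
    rw [mem_fx, cm_apply, map_mul, ← MulAut.mul_apply, he, MulAut.one_apply, mul_comm]
  rw [← h11] at h12 h13
  exact ⟨h5, h11.symm, eq_of_rk h.sq h13 (by omega), hbe ▸ hb i⟩

omit [Finite V] in
/-- No element of order 4 centralizes `C_V(e)`. -/
theorem no_four (hV : ∀ v : V, v * v = 1) {e f : MulAut V} (hf : f * f = e) (hne : e ≠ 1)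
    (hfx : ∀ v : V, e v = v → f v = v) (hbr : ∀ v : V, e (v * e v) = v * e v) : False := by
  apply hne
  have hff : ∀ v, f (f v) = e v := fun v => by rw [← MulAut.mul_apply, hf]
  ext v
  rw [MulAut.one_apply]
  -- `w = v * f v`, `u = w * f w = v * e v`
  have h1 : (v * f v) * f (v * f v) = v * e v := by
    rw [map_mul, hff]
    calc v * f v * (f v * e v) = v * (f v * f v) * e v := by simp only [mul_assoc]
      _ = v * e v := by rw [hV, mul_one]
  have h2 : f (v * e v) = v * e v := hfx _ (hbr v)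
  have h3 : (v * f v) * e (v * f v) = 1 := by
    have h4 : f ((v * f v) * f (v * f v)) = (v * f v) * f (v * f v) := by rw [h1, h2]
    rw [map_mul, hff] at h4
    have h5 : (v * f v) * f (v * f v) * (f (v * f v) * e (v * f v)) = 1 := by rw [h4, hV]
    calc (v * f v) * e (v * f v) = (v * f v) * (f (v * f v) * f (v * f v)) * e (v * f v) := by
          rw [hV, mul_one]
      _ = (v * f v) * f (v * f v) * (f (v * f v) * e (v * f v)) := by simp only [mul_assoc]
      _ = 1 := h5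
  have h4 : e (v * f v) = v * f v := by
    rw [mul_eq_one_iff_eq_inv, inv_eq hV] at h3; exact h3.symm
  have h5 := hfx _ h4
  rw [h5, hV] at h1
  have h6 := h1.symm
  rw [mul_eq_one_iff_eq_inv, inv_eq hV] at h6
  exact h6.symm

/-- **Case I** : `T` has a unique involution. -/
theorem caseY (h : Hyp Γ T E H) (h4 : rk (⊤ : Subgroup V) = 4) {e : MulAut V} (he : e * e = 1)
    (hne : e ≠ 1) (huniq : ∀ t ∈ T, t * t = 1 → t = 1 ∨ t = e) : CaseY T H e := by
  obtain ⟨hr, hfx, hbr, heE⟩ := h.fx_eq_of_unique h4 he huniq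
  have heT := h.le heE
  -- `e` is central in `T`
  have hcen : ∀ t ∈ T, t * e = e * t := by
    intro t ht
    rcases huniq (t * e * t⁻¹) (mul_mem (mul_mem ht heT) (inv_mem ht)) (by
      calc t * e * t⁻¹ * (t * e * t⁻¹) = t * (e * e) * t⁻¹ := by group
        _ = 1 := by rw [he]; group) with h1 | h1
    · exfalso
      apply hne
      calc e = t⁻¹ * (t * e * t⁻¹) * t := by group
        _ = 1 := by rw [h1]; group
    · calc t * e = (t * e * t⁻¹) * t := by group
        _ = e * t := by rw [h1]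
  -- `C_T(H) = ⟨e⟩`
  have hbr' : ∀ v : V, e (v * e v) = v * e v := fun v => by
    have : v * e v ∈ fx e := by rw [hfx, ← hbr]; exact ⟨v, rfl⟩
    exact this
  have hC : ∀ f ∈ T, (∀ v ∈ H, f v = v) → f = 1 ∨ f = e := by
    intro f hf hfH
    obtain ⟨k, hk⟩ := h.syl.2.1 ⟨f, hf⟩
    have hk' : f ^ 2 ^ k = 1 := congrArg Subtype.val hk
    -- descend to an element of order 4
    have key : ∀ k : ℕ, ∀ f ∈ T, (∀ v ∈ H, f v = v) → f ^ 2 ^ k = 1 → f * f = 1 := by
      intro k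
      induction k with
      | zero =>
        intro f _ _ h0
        rw [pow_zero, pow_one] at h0
        rw [h0, one_mul]
      | succ k ih =>
        intro f hf hfH h0
        have h1 := ih (f * f) (mul_mem hf hf) (fun v hv => by
          rw [MulAut.mul_apply, hfH v hv, hfH v hv]) (by
          rw [← pow_two, ← pow_mul, ← pow_succ', h0])
        rcases huniq (f * f) (mul_mem hf hf) h1 with h2 | h2
        · exact h2
        · exact (no_four h.sq h2 hne (fun v hv => hfH v (by rw [← hfx]; exact hv)) hbr').elim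
    exact huniq f hf (key k f hf hfH hk')
  -- the fixed point `z`
  have hHne := h.H_ne_bot
  have hinvH : ∀ t ∈ T, Inv t H := fun t ht => by rw [← hfx]; exact Inv.fx (hcen t ht)
  obtain ⟨z, hz, hz1, hTz⟩ := exists_fixed h.sq h.syl.2.1 hinvH hHne
  have hcardH : Nat.card H = 4 := by rw [card_eq h.sq, hr]; norm_num
  -- `H = {1, z, a, z a}`
  obtain ⟨a, ha, ha1, haz⟩ : ∃ a ∈ H, a ≠ 1 ∧ a ≠ z := by
    by_contra h0
    push Not at h0
    have hsub : (H : Set V) ⊆ {1, z} := fun x hx => by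
      by_cases hx1 : x = 1
      · exact Or.inl hx1
      · exact Or.inr (h0 x hx hx1)
    have h5 : Nat.card H ≤ 2 := by
      calc Nat.card H = Set.ncard (H : Set V) := Nat.card_coe_set_eq _
        _ ≤ Set.ncard ({1, z} : Set V) := Set.ncard_le_ncard hsub (Set.toFinite _)
        _ ≤ 2 := ncard_pair_le _ _
    omega
  have hall : ∀ x ∈ H, x = 1 ∨ x = z ∨ x = a ∨ x = z * a := by
    have hza : z * a ≠ 1 := fun h0 => haz (by
      rw [mul_eq_one_iff_eq_inv, inv_eq h.sq] at h0; exact h0.symm)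
    have hza1 : z * a ≠ z := fun h0 => ha1 (mul_eq_left.1 h0)
    have hza2 : z * a ≠ a := fun h0 => hz1 (mul_eq_right.1 h0)
    have h5 : Set.ncard ({1, z, a, z * a} : Set V) = 4 := by
      rw [Set.ncard_insert_of_notMem, Set.ncard_insert_of_notMem, Set.ncard_pair hza2.symm]
      · rintro (h0 | h0)
        · exact haz h0.symm
        · exact hza1 h0.symm
      · rintro (h0 | h0 | h0)
        · exact hz1 h0.symm
        · exact ha1 h0.symm
        · exact hza h0.symm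
    have hsub : ({1, z, a, z * a} : Set V) ⊆ (H : Set V) := by
      rintro x (rfl | rfl | rfl | rfl)
      · exact one_mem H
      · exact hz
      · exact ha
      · exact mul_mem hz ha
    have h6 : ({1, z, a, z * a} : Set V) = (H : Set V) := by
      refine Set.eq_of_subset_of_ncard_le hsub ?_ (Set.toFinite _)
      rw [h5, ← Nat.card_coe_set_eq]
      exact hcardH.le
    intro x hx
    have h7 : x ∈ ({1, z, a, z * a} : Set V) := by rw [h6]; exact hx
    exact h7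
  have hta : ∀ t ∈ T, t a = a ∨ t a = z * a := by
    intro t ht
    rcases hall (t a) (hinvH t ht a ha) with h5 | h5 | h5 | h5
    · exact absurd (by simpa using congrArg (fun v => t⁻¹ v) h5 : a = 1) ha1
    · exfalso
      apply haz
      have h6 : t a = t z := by rw [h5, hTz t ht]
      exact t.injective h6
    · exact Or.inl h5
    · exact Or.inr h5
  -- an element of `T` fixing `a` lies in `⟨e⟩`
  have hfixa : ∀ t ∈ T, t a = a → t = 1 ∨ t = e := by
    intro t ht hta'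
    refine hC t ht fun v hv => ?_
    rcases hall v hv with rfl | rfl | rfl | rfl
    · exact map_one t
    · exact hTz t ht
    · exact hta'
    · rw [map_mul, hta', hTz t ht]
  refine ⟨heT, he, hne, hcardH, hfx, hbr, ?_⟩
  by_cases hc : ∀ t ∈ T, t a = a
  · left
    have hT : T = zpowers e := by
      apply le_antisymm
      · intro t ht
        rcases hfixa t ht (hc t ht) with rfl | rfl
        · exact one_mem _
        · exact mem_zpowers _
      · rw [zpowers_le]; exact heT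
    refine ⟨hT, ?_⟩
    rw [hT, fxG_zpowers, hfx]
  · right
    push Not at hc
    obtain ⟨f, hf, hfa⟩ := hc
    have hfa' : f a = z * a := (hta f hf).resolve_left hfa
    have hffa : (f * f) a = a := by
      rw [MulAut.mul_apply, hfa', map_mul, hTz f hf, hfa', ← mul_assoc, h.sq, one_mul]
    have hff : f * f = e := by
      rcases hfixa (f * f) (mul_mem hf hf) hffa with h5 | h5
      · exfalso
        rcases huniq f hf h5 with h6 | h6
        · rw [h6] at hfa; exact hfa rfl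
        · apply hfa
          rw [h6]
          have : a ∈ fx e := by rw [hfx]; exact ha
          exact this
      · exact h5
    refine ⟨f, hf, hff, ?_, z, hz, hz1, fun v => ?_⟩
    · apply le_antisymm
      · intro t ht
        rcases hta t ht with h5 | h5
        · rcases hfixa t ht h5 with rfl | rfl
          · exact one_mem _
          · rw [← hff]; exact mul_mem (mem_zpowers f) (mem_zpowers f)
        · have h6 : (f⁻¹ * t) a = a := by
            rw [MulAut.mul_apply, h5, ← hfa', ← MulAut.mul_apply, inv_mul_cancel, MulAut.one_apply]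
          rcases hfixa (f⁻¹ * t) (mul_mem (inv_mem hf) ht) h6 with h7 | h7
          · rw [inv_mul_eq_one] at h7; rw [← h7]; exact mem_zpowers f
          · rw [inv_mul_eq_iff_eq_mul] at h7
            rw [h7, ← hff]
            exact mul_mem (mem_zpowers f) (mul_mem (mem_zpowers f) (mem_zpowers f))
      · rw [zpowers_le]; exact hf
    · constructor
      · intro hv
        rcases hall v (h.fixT v hv) with rfl | rfl | rfl | rfl
        · exact Or.inl rfl
        · exact Or.inr rfl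
        · exact absurd (hv f hf) hfa
        · exfalso
          have h6 := hv f hf
          rw [map_mul, hTz f hf, hfa'] at h6
          exact hz1 (mul_eq_right.1 (mul_left_cancel h6))
      · rintro (rfl | rfl)
        · exact one_mem _
        · exact hTz

end Hyp

end Cfsg.Agent.MinSimple.EmptyE.Small
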