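import Cfsg.Agent.MinSimple.EmptyE.Small

/-!
# The case "(Empty)", step 5: a four-group in `T`

If `|V| = 16` and the Sylow 2-subgroup `T` of `Γ` contains a four-group then `O₃(Γ)` has order 9 and
`V = V₁ × V₂` with `{V₁, V₂}` permuted by `Γ`.
-/

set_option autoImplicit false

namespace Cfsg.Agent.MinSimple.EmptyE.SmallB

open Subgroup Cfsg Cfsg.Agent.ZN Cfsg.Agent.ZN.ChoiceBase Cfsg.Agent.ZN.ChoiceSit
open Cfsg.Agent.MinSimple.EmptyMod Cfsg.Agent.MinSimple.EmptyE.Small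

universe u

variable {V : Type u} [CommGroup V] [Finite V]

/-- The elements of a subgroup of order 4. -/
theorem four_cases (hV : ∀ v : V, v * v = 1) {W : Subgroup V} (hr : rk W = 2) {a b : V} (ha : a ∈ W)
    (hb : b ∈ W) (ha1 : a ≠ 1) (hb1 : b ≠ 1) (hab : a ≠ b) :
    ∀ w ∈ W, w = 1 ∨ w = a ∨ w = b ∨ w = a * b := by
  have h1 : a * b ≠ 1 := fun h0 => hab (by rw [mul_eq_one_iff_eq_inv, inv_eq hV] at h0; exact h0)
  have h2 : a * b ≠ a := fun h0 => hb1 (mul_eq_left.1 h0)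
  have h3 : a * b ≠ b := fun h0 => ha1 (mul_eq_right.1 h0)
  have h5 : Set.ncard ({1, a, b, a * b} : Set V) = 4 := by
    rw [Set.ncard_insert_of_notMem, Set.ncard_insert_of_notMem, Set.ncard_pair h3.symm]
    · rintro (h0 | h0)
      · exact hab h0
      · exact h2 h0.symm
    · rintro (h0 | h0 | h0)
      · exact ha1 h0.symm
      · exact hb1 h0.symm
      · exact h1 h0.symm
  have hsub : ({1, a, b, a * b} : Set V) ⊆ (W : Set V) := by
    rintro x (rfl | rfl | rfl | rfl)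
    · exact one_mem W
    · exact ha
    · exact hb
    · exact mul_mem ha hb
  have h6 : ({1, a, b, a * b} : Set V) = (W : Set V) := by
    refine Set.eq_of_subset_of_ncard_le hsub ?_ (Set.toFinite _)
    rw [h5, ← Nat.card_coe_set_eq]
    change Nat.card W ≤ 4
    rw [card_eq hV, hr]; norm_num
  intro x hx
  have h7 : x ∈ ({1, a, b, a * b} : Set V) := by rw [h6]; exact hx
  exact h7

omit [Finite V] in
theorem sq_apply (hV : ∀ v : V, v * v = 1) {y : MulAut V} {W : Subgroup V} (hW : Inv y W)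
    (hfix : W ⊓ fx y = ⊥) (h3 : y ^ 3 = 1) {v : V} (hv : v ∈ W) : y (y v) = v * y v := by
  have h1 : v * y v * y (y v) ∈ W ⊓ fx y := by
    refine ⟨mul_mem (mul_mem hv (hW v hv)) (hW _ (hW v hv)), ?_⟩
    change y (v * y v * y (y v)) = v * y v * y (y v)
    have h2 : y (y (y v)) = v := by
      have h4 : y * (y * y) = 1 := by rw [← h3, pow_succ, pow_two]; group
      exact DFunLike.congr_fun h4 v
    rw [map_mul, map_mul, h2]
    exact (mul_rotate v (y v) (y (y v))).symm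
  rw [hfix, mem_bot, mul_eq_one_iff_inv_eq, inv_eq hV] at h1
  exact h1.symm

/-- `O₃(Γ) ∋ d₁, d₂` of order 3 with `V = C_V(d₂) × C_V(d₁)` -/
structure Pr (Γ : Subgroup (MulAut V)) (d₁ d₂ : MulAut V) : Prop where
  sq : ∀ v : V, v * v = 1
  rt : rk (⊤ : Subgroup V) = 4
  m₁ : d₁ ∈ o3 Γ
  m₂ : d₂ ∈ o3 Γ
  c : d₁ * d₂ = d₂ * d₁
  o₁ : d₁ ^ 3 = 1
  o₂ : d₂ ^ 3 = 1
  r₁ : rk (fx d₁) = 2
  r₂ : rk (fx d₂) = 2
  inf : fx d₁ ⊓ fx d₂ = ⊥

omit [Finite V] in
theorem Pr.symm {Γ : Subgroup (MulAut V)} {d₁ d₂ : MulAut V} (h : Pr Γ d₁ d₂) : Pr Γ d₂ d₁ :=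
  ⟨h.sq, h.rt, h.m₂, h.m₁, h.c.symm, h.o₂, h.o₁, h.r₂, h.r₁, by rw [inf_comm]; exact h.inf⟩

theorem Pr.sup {Γ : Subgroup (MulAut V)} {d₁ d₂ : MulAut V} (h : Pr Γ d₁ d₂) : fx d₁ ⊔ fx d₂ = ⊤ := by
  refine eq_of_rk h.sq le_top ?_
  have h1 := rk_sup h.sq (fx d₁) (fx d₂)
  rw [h.inf, rk_bot, h.r₁, h.r₂] at h1
  rw [h.rt]; omega

theorem odd_of_prime {p : ℕ} (hp : p.Prime) (h2 : p ≠ 2) : Odd p := hp.odd_of_ne_two h2

omit [Finite V] in
theorem fx_inv (f : MulAut V) : fx f⁻¹ = fx f := by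
  have key : ∀ f : MulAut V, fx f ≤ fx f⁻¹ := by
    intro f v hv
    rw [mem_fx] at hv ⊢
    conv_lhs => rw [← hv]
    rw [← MulAut.mul_apply, inv_mul_cancel, MulAut.one_apply]
  refine le_antisymm ?_ (key f)
  have := key f⁻¹
  rwa [inv_inv] at this

omit [Finite V] in
/-- `rk (C_V(g f g⁻¹)) = rk C_V(f)` -/
theorem rk_fx_conj (g f : MulAut V) : rk (fx (g * f * g⁻¹)) = rk (fx f) := by
  rw [rk, rk]
  congr 1
  refine Nat.card_congr
    { toFun := fun v => ⟨g⁻¹ v, by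
        have h1 : (g * f * g⁻¹) v = v := v.2
        change f (g⁻¹ v) = g⁻¹ v
        conv_rhs => rw [← h1]
        simp⟩
      invFun := fun v => ⟨g v, by
        have h1 : f v = v := v.2
        change (g * f * g⁻¹) (g v) = g v
        simp [h1]⟩
      left_inv := fun v => Subtype.ext (by simp)
      right_inv := fun v => Subtype.ext (by simp) }

/-- (d') -/
theorem pr_of_fpf (hV : ∀ v : V, v * v = 1) (h4 : rk (⊤ : Subgroup V) = 4) {Γ : Subgroup (MulAut V)}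
    {x y e : MulAut V} (hx : x ∈ o3 Γ) (hy : y ∈ o3 Γ) (hc : x * y = y * x) (hx3 : x ^ 3 = 1)
    (hy3 : y ^ 3 = 1) (hfx : fx x = ⊥) (hfy : fx y = ⊥) (hex : e * x * e⁻¹ = x⁻¹) (hey : e * y = y * e) :
    Pr Γ (x * y) (x * y⁻¹) := by
  have hC : Commute x y := hc
  have hcomm : (x * y) * (x * y⁻¹) = (x * y⁻¹) * (x * y) :=
    ((Commute.refl x).mul_right (hC.inv_right)).mul_left (hC.symm.mul_right (Commute.refl y).inv_right)
  have hinf : fx (x * y) ⊓ fx (x * y⁻¹) = ⊥ := by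
    rw [eq_bot_iff, ← hfx]
    rintro v ⟨hv1, hv2⟩
    have h1 : (x * y) v = v := hv1
    have h2 : (x * y⁻¹) v = v := hv2
    have h3 : (x * y) * (x * y⁻¹) = x ^ 2 := by
      calc (x * y) * (x * y⁻¹) = x * (y * x) * y⁻¹ := by group
        _ = x * (x * y) * y⁻¹ := by rw [hc]
        _ = x ^ 2 := by rw [pow_two]; group
    have h4 : (x ^ 2) v = v := by rw [← h3, MulAut.mul_apply, h2, h1]
    change x v = v
    have h5 : x * x ^ 2 = 1 := by rw [← pow_succ', hx3]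
    calc x v = x ((x ^ 2) v) := by rw [h4]
      _ = (x * x ^ 2) v := rfl
      _ = v := by rw [h5, MulAut.one_apply]
  have hsqx : ∀ v, x (x v) = v * x v := fun v =>
    sq_apply hV (W := ⊤) (fun _ _ => mem_top _) (by rw [hfx, inf_bot_eq]) hx3 (mem_top v)
  have hsqy : ∀ v, y (y v) = v * y v := fun v =>
    sq_apply hV (W := ⊤) (fun _ _ => mem_top _) (by rw [hfy, inf_bot_eq]) hy3 (mem_top v)
  have hxy : ∀ v, x (y v) = y (x v) := fun v => by
    rw [← MulAut.mul_apply, hc, MulAut.mul_apply]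
  -- the map `w ↦ y w * x w`
  have hrk : rk (⊤ : Subgroup V) ≤ rk (fx (x * y⁻¹)) + rk (fx (x * y)) := by
    let φ : V →* V := { toFun := fun w => y w * x w
                        map_one' := by rw [map_one, map_one, mul_one]
                        map_mul' := fun a b => by
                          rw [map_mul, map_mul]; exact mul_mul_mul_comm _ _ _ _ }
    have hφ : ∀ w, φ w = y w * x w := fun w => rfl
    have h1 := rk_map hV ⊤ φ
    rw [top_inf_eq] at h1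
    have h2 : φ.ker ≤ fx (x * y⁻¹) := by
      intro w hw
      rw [MonoidHom.mem_ker, hφ, mul_eq_one_iff_eq_inv, inv_eq hV] at hw
      change (x * y⁻¹) w = w
      have h3 : x * y⁻¹ = y⁻¹ * x := hC.inv_right
      rw [h3, MulAut.mul_apply, ← hw, ← MulAut.mul_apply, inv_mul_cancel, MulAut.one_apply]
    have h3 : (⊤ : Subgroup V).map φ ≤ fx (x * y) := by
      rintro _ ⟨w, -, rfl⟩
      change (x * y) (φ w) = φ w
      rw [hφ, MulAut.mul_apply, map_mul, map_mul, hsqy, map_mul, ← hxy w, hsqx (y w)]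
      calc x w * x (y w) * (y w * x (y w)) = x w * (x (y w) * x (y w)) * y w := by
            rw [mul_comm (y w)]; simp only [mul_assoc]
        _ = y w * x w := by rw [hV, mul_one, mul_comm]
    have h4 := rk_mono h2
    have h5 := rk_mono h3
    omega
  have hrk2 := rk_sup hV (fx (x * y)) (fx (x * y⁻¹))
  rw [hinf, rk_bot] at hrk2
  have hrk3 : rk (fx (x * y) ⊔ fx (x * y⁻¹)) ≤ rk (⊤ : Subgroup V) := rk_mono le_top
  have hrk4 : rk (fx (x * y⁻¹)) = rk (fx (x * y)) := by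
    have h1 : e * (x * y) * e⁻¹ = (x * y⁻¹)⁻¹ := by
      have h2 : e * y * e⁻¹ = y := by rw [hey]; group
      calc e * (x * y) * e⁻¹ = (e * x * e⁻¹) * (e * y * e⁻¹) := by group
        _ = x⁻¹ * y := by rw [hex, h2]
        _ = y * x⁻¹ := hC.symm.inv_right.symm
        _ = (x * y⁻¹)⁻¹ := by group
    rw [← fx_inv (x * y⁻¹), ← h1, rk_fx_conj]
  refine ⟨hV, h4, mul_mem hx hy, mul_mem hx (inv_mem hy), hcomm, ?_, ?_, by omega, by omega, hinf⟩
  · rw [hC.mul_pow, hx3, hy3, one_mul]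
  · rw [hC.inv_right.mul_pow, hx3, inv_pow, hy3, inv_one, one_mul]

namespace Pr

variable {Γ : Subgroup (MulAut V)} {d₁ d₂ : MulAut V}

omit [Finite V] in
theorem inv_of_mem {P : Subgroup (MulAut V)} (hP : IsPGroup 3 P) {g : MulAut V} (hg : g ∈ P) :
    ∃ k : ℕ, g ^ (2 * k + 1) = 1 := by
  obtain ⟨m, hm⟩ := hP ⟨g, hg⟩
  have h1 : g ^ 3 ^ m = 1 := congrArg Subtype.val hm
  obtain ⟨k, hk⟩ : Odd (3 ^ m) := Odd.pow (by decide)
  exact ⟨k, by rw [← hk]; exact h1⟩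

omit [Finite V] in
theorem map_ne_one (g : MulAut V) {v : V} (hv : v ≠ 1) : g v ≠ 1 := by
  intro h
  apply hv
  have := congrArg (fun w => g⁻¹ w) h
  simpa using this

omit [Finite V] in
theorem d₁_inv₁ (h : Pr Γ d₁ d₂) : Inv d₁ (fx d₂) := Inv.fx h.c

omit [Finite V] in
theorem inf' (h : Pr Γ d₁ d₂) : fx d₂ ⊓ fx d₁ = ⊥ := by rw [inf_comm]; exact h.inf

/-- `V₁ = {1, a, d₁ a, a d₁ a}` -/
theorem cases₁ (h : Pr Γ d₁ d₂) {a : V} (ha : a ∈ fx d₂) (ha1 : a ≠ 1) :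
    ∀ w ∈ fx d₂, w = 1 ∨ w = a ∨ w = d₁ a ∨ w = a * d₁ a := by
  refine four_cases h.sq h.r₂ ha (h.d₁_inv₁ a ha) ha1 (map_ne_one d₁ ha1) ?_
  intro h0
  have h1 : a ∈ fx d₂ ⊓ fx d₁ := ⟨ha, h0.symm⟩
  rw [h.inf', mem_bot] at h1
  exact ha1 h1

/-- An element of a 3-group containing `d₁` and leaving `V₁` invariant acts on `V₁` as a power of `d₁`. -/
theorem exists_pow (h : Pr Γ d₁ d₂) {P : Subgroup (MulAut V)} (hP : IsPGroup 3 P) (hd : d₁ ∈ P)
    {g : MulAut V} (hg : g ∈ P) (hinv : Inv g (fx d₂)) : ∃ i : ℕ, ∀ v ∈ fx d₂, g v = (d₁ ^ i) v := by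
  have hne : fx d₂ ≠ ⊥ := by
    intro h0
    have := h.r₂
    rw [h0, rk_bot] at this
    omega
  obtain ⟨⟨a, ha⟩, ha1'⟩ := ne_bot_iff_exists_ne_one.1 hne
  have ha1 : a ≠ 1 := fun h0 => ha1' (Subtype.ext h0)
  have hsq := sq_apply h.sq h.d₁_inv₁ h.inf' h.o₁ ha
  -- the power
  obtain ⟨i, hi⟩ : ∃ i : ℕ, g a = (d₁ ^ i) a := by
    rcases h.cases₁ ha ha1 (g a) (hinv a ha) with h1 | h1 | h1 | h1
    · exact absurd h1 (map_ne_one g ha1)
    · exact ⟨0, by rw [h1, pow_zero, MulAut.one_apply]⟩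
    · exact ⟨1, by rw [h1, pow_one]⟩
    · exact ⟨2, by rw [h1, pow_two, MulAut.mul_apply, hsq]⟩
  refine ⟨i, ?_⟩
  set g₁ := (d₁ ^ i)⁻¹ * g with hg₁
  have hg₁P : g₁ ∈ P := mul_mem (inv_mem (pow_mem hd i)) hg
  have hg₁a : g₁ a = a := by
    rw [hg₁, MulAut.mul_apply, hi, ← MulAut.mul_apply, inv_mul_cancel, MulAut.one_apply]
  have hinvd : ∀ n : ℕ, Inv (d₁ ^ n)⁻¹ (fx d₂) := by
    intro n
    refine Inv.fx ?_
    have hC : Commute d₁ d₂ := h.c
    exact (hC.pow_left n).inv_left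
  have hinv₁ : Inv g₁ (fx d₂) := fun v hv => hinvd i _ (hinv v hv)
  set b := d₁ a with hb
  have hbV : b ∈ fx d₂ := h.d₁_inv₁ a ha
  have hb1 : b ≠ 1 := map_ne_one d₁ ha1
  have hba : b ≠ a := by
    intro h0
    have h1 : a ∈ fx d₂ ⊓ fx d₁ := ⟨ha, h0⟩
    rw [h.inf', mem_bot] at h1
    exact ha1 h1
  have hg₁b : g₁ b = b := by
    rcases h.cases₁ ha ha1 (g₁ b) (hinv₁ b hbV) with h1 | h1 | h1 | h1
    · exact absurd h1 (map_ne_one g₁ hb1)
    · exact absurd (g₁.injective (h1.trans hg₁a.symm)) hba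
    · exact h1
    · exfalso
      obtain ⟨k, hk⟩ := inv_of_mem hP hg₁P
      have h2 : (g₁ ^ 2) b = b := by
        rw [pow_two, MulAut.mul_apply, h1, map_mul, hg₁a, h1, ← mul_assoc, h.sq, one_mul]
      have h3 : (g₁ ^ (2 * k)) b = b := by
        rw [pow_mul]; exact pow_apply_of (g₁ ^ 2) h2 k
      have h4 : g₁ b = b := by
        calc g₁ b = g₁ ((g₁ ^ (2 * k)) b) := by rw [h3]
          _ = (g₁ ^ (2 * k + 1)) b := by rw [pow_succ']; rfl
          _ = b := by rw [hk, MulAut.one_apply]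
      rw [h4] at h1
      exact ha1 (mul_eq_right.1 h1.symm)
  intro v hv
  have h5 : g₁ v = v := by
    rcases h.cases₁ ha ha1 v hv with rfl | rfl | rfl | rfl
    · exact map_one g₁
    · exact hg₁a
    · exact hg₁b
    · rw [map_mul, hg₁a, hg₁b]
  calc g v = (d₁ ^ i) (((d₁ ^ i)⁻¹ * g) v) := by
        rw [← MulAut.mul_apply, mul_inv_cancel_left]
    _ = (d₁ ^ i) v := by rw [← hg₁, h5]

/-- Two automorphisms agreeing on `V₁` and `V₂` agree. -/
theorem ext' (h : Pr Γ d₁ d₂) {f g : MulAut V} (h1 : ∀ v ∈ fx d₂, f v = g v)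
    (h2 : ∀ v ∈ fx d₁, f v = g v) : f = g := by
  ext v
  have hv : v ∈ fx d₁ ⊔ fx d₂ := by rw [h.sup]; exact mem_top v
  obtain ⟨a, ha, b, hb, rfl⟩ := mem_sup.1 hv
  rw [map_mul, map_mul, h1 b hb, h2 a ha]

omit [Finite V] in
theorem pow_apply_fx {d : MulAut V} {v : V} (hv : v ∈ fx d) (n : ℕ) : (d ^ n) v = v :=
  pow_apply_of d hv n

/-- the products `d₁ ^ i * d₂ ^ j` -/
theorem eq_pow (h : Pr Γ d₁ d₂) {P : Subgroup (MulAut V)} (hP : IsPGroup 3 P) (hd₁ : d₁ ∈ P)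
    (hd₂ : d₂ ∈ P) {g : MulAut V} (hg : g ∈ P) (hinv₁ : Inv g (fx d₂)) (hinv₂ : Inv g (fx d₁)) :
    ∃ i j : ℕ, g = d₁ ^ i * d₂ ^ j := by
  obtain ⟨i, hi⟩ := h.exists_pow hP hd₁ hg hinv₁
  obtain ⟨j, hj⟩ := h.symm.exists_pow hP hd₂ hg hinv₂
  refine ⟨i, j, h.ext' (fun v hv => ?_) (fun v hv => ?_)⟩
  · rw [hi v hv, MulAut.mul_apply, pow_apply_fx hv]
  · have hC : Commute d₁ d₂ := h.c
    rw [hj v hv, (hC.pow_pow i j).eq, MulAut.mul_apply, pow_apply_fx hv]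

/-- If `g d₁ g⁻¹ = d₁ ^ i * d₂ ^ j` then `g V₂ ∈ {V₁, V₂}`. -/
theorem map_cases (h : Pr Γ d₁ d₂) {g : MulAut V} {i j : ℕ} (hg : g * d₁ * g⁻¹ = d₁ ^ i * d₂ ^ j) :
    (∀ v ∈ fx d₁, g v ∈ fx d₁) ∨ (∀ v ∈ fx d₁, g v ∈ fx d₂) := by
  have hgv : ∀ v ∈ fx d₁, (d₁ ^ i * d₂ ^ j) (g v) = g v := by
    intro v hv
    rw [← hg, MulAut.mul_apply, MulAut.mul_apply]
    have h1 : g⁻¹ (g v) = v := by rw [← MulAut.mul_apply, inv_mul_cancel, MulAut.one_apply]
    rw [h1]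
    exact congrArg g hv
  have hC : Commute d₁ d₂ := h.c
  -- `d ^ i` fixes a point outside `C_V(d)` only if `d ^ i = 1`
  have key : ∀ d : MulAut V, d ^ 3 = 1 → ∀ n : ℕ, d ^ n = 1 ∨ fx (d ^ n) = fx d := by
    intro d hd n
    have h1 : d ^ n = d ^ (n % 3) := by
      conv_lhs => rw [← Nat.div_add_mod n 3, pow_add, pow_mul, hd, one_pow, one_mul]
    have h2 : n % 3 < 3 := Nat.mod_lt _ (by norm_num)
    rw [h1]
    interval_cases (n % 3)
    · exact Or.inl (pow_zero d)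
    · exact Or.inr (by rw [pow_one])
    · right
      have h3 : d ^ 2 = d⁻¹ := by
        rw [eq_inv_iff_mul_eq_one, ← pow_succ, hd]
      rw [h3, fx_inv]
  rcases key d₁ h.o₁ i with hi | hi
  · right
    rcases key d₂ h.o₂ j with hj | hj
    · exfalso
      rw [hi, hj, one_mul] at hg
      have h1 : d₁ = 1 := by
        calc d₁ = g⁻¹ * (g * d₁ * g⁻¹) * g := by group
          _ = 1 := by rw [hg]; group
      have h2 := h.r₁
      have h3 : fx d₁ = ⊤ := by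
        rw [eq_top_iff]
        intro v _
        change d₁ v = v
        rw [h1, MulAut.one_apply]
      rw [h3, h.rt] at h2
      omega
    · intro v hv
      have h1 := hgv v hv
      rw [hi, one_mul] at h1
      rw [← hj]
      exact h1
  · rcases key d₂ h.o₂ j with hj | hj
    · left
      intro v hv
      have h1 := hgv v hv
      rw [hj, mul_one] at h1
      rw [← hi]
      exact h1
    · -- `C_V(d₁ ^ i * d₂ ^ j) = 1`
      exfalso
      have hne : fx d₁ ≠ ⊥ := by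
        intro h0
        have := h.r₁
        rw [h0, rk_bot] at this
        omega
      obtain ⟨⟨a, ha⟩, ha1'⟩ := ne_bot_iff_exists_ne_one.1 hne
      have ha1 : a ≠ 1 := fun h0 => ha1' (Subtype.ext h0)
      have h1 := hgv a ha
      have hw : g a ∈ fx d₁ ⊔ fx d₂ := by rw [h.sup]; exact mem_top _
      obtain ⟨x, hx, y, hy, hxy⟩ := mem_sup.1 hw
      rw [← hxy] at h1
      have h2 : (d₁ ^ i * d₂ ^ j) (x * y) = (d₂ ^ j) x * (d₁ ^ i) y := by
        rw [map_mul]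
        congr 1
        · rw [(hC.pow_pow i j).eq, MulAut.mul_apply, pow_apply_fx hx]
        · rw [MulAut.mul_apply, pow_apply_fx hy]
      rw [h2] at h1
      have h3 : (d₂ ^ j) x ∈ fx d₁ := (Inv.fx (hC.symm.pow_left j)) x hx
      have h4 : (d₁ ^ i) y ∈ fx d₂ := (Inv.fx (hC.pow_left i)) y hy
      have h5 : x⁻¹ * (d₂ ^ j) x = y * ((d₁ ^ i) y)⁻¹ := by
        rw [inv_mul_eq_iff_eq_mul, ← mul_assoc, ← h1, mul_inv_cancel_right]
      have h6 : x⁻¹ * (d₂ ^ j) x ∈ fx d₁ ⊓ fx d₂ :=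
        mem_inf.2 ⟨mul_mem (inv_mem hx) h3, by rw [h5]; exact mul_mem hy (inv_mem h4)⟩
      rw [h.inf, mem_bot] at h6
      have h7 : (d₂ ^ j) x = x := (inv_mul_eq_one.1 h6).symm
      have h8 : (d₁ ^ i) y = y := by rw [h7] at h1; exact mul_left_cancel h1
      have h9 : x ∈ fx d₁ ⊓ fx d₂ := ⟨hx, by rw [← hj]; exact h7⟩
      have h10 : y ∈ fx d₁ ⊓ fx d₂ := ⟨by rw [← hi]; exact h8, hy⟩
      rw [h.inf, mem_bot] at h9 h10
      rw [h9, h10, one_mul] at hxy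
      exact map_ne_one g ha1 hxy.symm

/-- `g` permutes `{V₁, V₂}` if it normalizes `⟨d₁, d₂⟩`. -/
theorem perm_of (h : Pr Γ d₁ d₂) {g : MulAut V} (h1 : ∃ i j : ℕ, g * d₁ * g⁻¹ = d₁ ^ i * d₂ ^ j)
    (h2 : ∃ i j : ℕ, g * d₂ * g⁻¹ = d₁ ^ i * d₂ ^ j) :
    ((∀ v ∈ fx d₂, g v ∈ fx d₂) ∧ ∀ v ∈ fx d₁, g v ∈ fx d₁) ∨
      ((∀ v ∈ fx d₂, g v ∈ fx d₁) ∧ ∀ v ∈ fx d₁, g v ∈ fx d₂) := by
  obtain ⟨i, j, h1⟩ := h1
  obtain ⟨i', j', h2⟩ := h2
  have hC : Commute d₁ d₂ := h.c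
  have k1 := h.map_cases h1
  have k2 := h.symm.map_cases (h2.trans (hC.pow_pow i' j').eq)
  -- `g` is surjective
  have key : ∀ W : Subgroup V, rk W = 2 → (∀ v ∈ fx d₁, g v ∈ W) → (∀ v ∈ fx d₂, g v ∈ W) → False := by
    intro W hW e1 e2
    have h3 : (⊤ : Subgroup V) ≤ W := by
      intro v _
      have hv : g⁻¹ v ∈ fx d₁ ⊔ fx d₂ := by rw [h.sup]; exact mem_top _
      obtain ⟨a, ha, b, hb, hab⟩ := mem_sup.1 hv
      have h4 : v = g (g⁻¹ v) := by rw [← MulAut.mul_apply, mul_inv_cancel, MulAut.one_apply]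
      rw [h4, ← hab, map_mul]
      exact mul_mem (e1 a ha) (e2 b hb)
    have h4 := rk_mono h3
    rw [h.rt, hW] at h4
    omega
  rcases k1 with k1 | k1
  · rcases k2 with k2 | k2
    · exact Or.inl ⟨k2, k1⟩
    · exact (key _ h.r₁ k1 k2).elim
  · rcases k2 with k2 | k2
    · exact (key _ h.r₂ k1 k2).elim
    · exact Or.inr ⟨k2, k1⟩

/-- `O₃(Γ) = ⟨d₁, d₂⟩` -/
theorem o3_eq (h : Pr Γ d₁ d₂) {g : MulAut V} (hg : g ∈ o3 Γ) : ∃ i j : ℕ, g = d₁ ^ i * d₂ ^ j := by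
  have hP := o3_isPGroup Γ
  have hf3 : Fact (Nat.Prime 3) := ⟨Nat.prime_three⟩
  have hC : Commute d₁ d₂ := h.c
  -- `D = ⟨d₁, d₂⟩`
  let D : Subgroup (MulAut V) := closure {d₁, d₂}
  have hD : ∀ x ∈ D, ∃ i j : ℕ, x = d₁ ^ i * d₂ ^ j := by
    intro x hx
    induction hx using closure_induction with
    | mem x hx =>
      rcases hx with rfl | rfl
      · exact ⟨1, 0, by rw [pow_one, pow_zero, mul_one]⟩
      · exact ⟨0, 1, by rw [pow_one, pow_zero, one_mul]⟩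
    | one => exact ⟨0, 0, by rw [pow_zero, pow_zero, mul_one]⟩
    | mul x y _ _ hx hy =>
      obtain ⟨i, j, rfl⟩ := hx
      obtain ⟨k, l, rfl⟩ := hy
      refine ⟨i + k, j + l, ?_⟩
      rw [pow_add, pow_add]
      calc d₁ ^ i * d₂ ^ j * (d₁ ^ k * d₂ ^ l) = d₁ ^ i * (d₂ ^ j * d₁ ^ k) * d₂ ^ l := by
            simp only [mul_assoc]
        _ = d₁ ^ i * (d₁ ^ k * d₂ ^ j) * d₂ ^ l := by rw [(hC.pow_pow k j).eq]
        _ = _ := by simp only [mul_assoc]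
    | inv x _ hx =>
      obtain ⟨i, j, rfl⟩ := hx
      refine ⟨2 * i, 2 * j, ?_⟩
      rw [inv_eq_iff_mul_eq_one]
      have e1 : d₁ ^ i * d₁ ^ (2 * i) = 1 := by
        rw [← pow_add, show i + 2 * i = 3 * i by ring, pow_mul, h.o₁, one_pow]
      have e2 : d₂ ^ j * d₂ ^ (2 * j) = 1 := by
        rw [← pow_add, show j + 2 * j = 3 * j by ring, pow_mul, h.o₂, one_pow]
      calc d₁ ^ i * d₂ ^ j * (d₁ ^ (2 * i) * d₂ ^ (2 * j))
          = d₁ ^ i * (d₂ ^ j * d₁ ^ (2 * i)) * d₂ ^ (2 * j) := by simp only [mul_assoc]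
        _ = d₁ ^ i * (d₁ ^ (2 * i) * d₂ ^ j) * d₂ ^ (2 * j) := by rw [(hC.pow_pow (2 * i) j).eq]
        _ = (d₁ ^ i * d₁ ^ (2 * i)) * (d₂ ^ j * d₂ ^ (2 * j)) := by simp only [mul_assoc]
        _ = 1 := by rw [e1, e2, mul_one]
  have hd₁ : d₁ ∈ D := subset_closure (Or.inl rfl)
  have hd₂ : d₂ ∈ D := subset_closure (Or.inr rfl)
  have hDP : D ≤ o3 Γ := by
    rw [closure_le]
    rintro x (rfl | rfl)
    · exact h.m₁
    · exact h.m₂
  -- `N_P(D) = D`
  have hN : ∀ g ∈ o3 Γ, g ∈ normalizer (D : Set (MulAut V)) → g ∈ D := by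
    intro g hg hgD
    have k1 := hD _ ((mem_normalizer_iff.1 hgD d₁).1 hd₁)
    have k2 := hD _ ((mem_normalizer_iff.1 hgD d₂).1 hd₂)
    have hinv : Inv g (fx d₂) ∧ Inv g (fx d₁) := by
      rcases h.perm_of k1 k2 with k3 | k3
      · exact k3
      · exfalso
        obtain ⟨k, hk⟩ := inv_of_mem hP hg
        have hev : ∀ n : ℕ, ∀ v ∈ fx d₂, (g ^ (2 * n)) v ∈ fx d₂ := by
          intro n
          induction n with
          | zero => intro v hv; exact hv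
          | succ n ih =>
            intro v hv
            have h5 : g ^ (2 * (n + 1)) = g * (g * g ^ (2 * n)) := by
              rw [show 2 * (n + 1) = (2 * n + 1) + 1 by ring, pow_succ', pow_succ']
            rw [h5]
            exact k3.2 _ (k3.1 _ (ih v hv))
        have hne : fx d₂ ≠ ⊥ := by
          intro h0
          have := h.r₂
          rw [h0, rk_bot] at this
          omega
        obtain ⟨⟨a, ha⟩, ha1'⟩ := ne_bot_iff_exists_ne_one.1 hne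
        have h6 : (g ^ (2 * k + 1)) a ∈ fx d₁ := by
          rw [pow_succ']
          exact k3.1 _ (hev k a ha)
        rw [hk, MulAut.one_apply] at h6
        have h7 : a ∈ fx d₁ ⊓ fx d₂ := ⟨h6, ha⟩
        rw [h.inf, mem_bot] at h7
        exact ha1' (Subtype.ext h7)
    obtain ⟨i, j, rfl⟩ := h.eq_pow hP h.m₁ h.m₂ hg hinv.1 hinv.2
    exact mul_mem (pow_mem hd₁ i) (pow_mem hd₂ j)
  -- the normalizer condition
  have hDtop : D.subgroupOf (o3 Γ) = ⊤ := by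
    by_contra hne
    have : Finite (o3 Γ) := inferInstance
    have hnil : Group.IsNilpotent (o3 Γ) := hP.isNilpotent
    have h1 := Group.normalizerCondition_of_isNilpotent (G := o3 Γ) (D.subgroupOf (o3 Γ))
      (lt_top_iff_ne_top.2 hne)
    obtain ⟨x, hx, hxD⟩ := SetLike.exists_of_lt h1
    apply hxD
    rw [mem_subgroupOf]
    refine hN x x.2 ?_
    rw [mem_normalizer_iff]
    intro y
    constructor
    · intro hy
      have h2 := (mem_normalizer_iff.1 hx ⟨y, hDP hy⟩).1 (mem_subgroupOf.2 hy)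
      exact mem_subgroupOf.1 h2
    · intro hy
      have hyP : y ∈ o3 Γ := by
        have h3 : y = (x : MulAut V)⁻¹ * (x * y * (x : MulAut V)⁻¹) * x := by group
        rw [h3]
        exact mul_mem (mul_mem (inv_mem x.2) (hDP hy)) x.2
      have h2 := (mem_normalizer_iff.1 hx ⟨y, hyP⟩).2 (mem_subgroupOf.2 hy)
      exact mem_subgroupOf.1 h2
  have hg' : g ∈ D := by
    have : (⟨g, hg⟩ : o3 Γ) ∈ D.subgroupOf (o3 Γ) := by rw [hDtop]; exact mem_top _
    exact mem_subgroupOf.1 this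
  exact hD g hg'

/-- `Γ` permutes `{V₁, V₂}`. -/
theorem perm (h : Pr Γ d₁ d₂) {g : MulAut V} (hg : g ∈ Γ) :
    ((∀ v ∈ fx d₂, g v ∈ fx d₂) ∧ ∀ v ∈ fx d₁, g v ∈ fx d₁) ∨
      ((∀ v ∈ fx d₂, g v ∈ fx d₁) ∧ ∀ v ∈ fx d₁, g v ∈ fx d₂) :=
  h.perm_of (h.o3_eq ((mem_normalizer_iff.1 (o3_norm Γ hg) _).1 h.m₁))
    (h.o3_eq ((mem_normalizer_iff.1 (o3_norm Γ hg) _).1 h.m₂))

end Pr

section Exists

variable {Γ T E : Subgroup (MulAut V)} {H : Subgroup V}

/-- If `|[V, y j]| = 4` then `y i`, `i ≠ j`, centralizes `[V, y j]`. -/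
theorem br_le_fx (h : Hyp Γ T E H) {ι : Type} {e y : ι → MulAut V} (hD : Dih e y) {i j : ι} (hij : i ≠ j)
    (hr : rk (br (y j)) = 2) : br (y j) ≤ fx (y i) := by
  have e1 := h.rk_br (hD.odd j) (hD.esq j) (hD.inv j)
  have e2 : rk (br (y j) ⊓ fx (e j)) = 1 := by omega
  have hne : br (y j) ⊓ fx (e j) ≠ ⊥ := by
    intro h0; rw [h0, rk_bot] at e2; omega
  obtain ⟨⟨w, hw⟩, hw1⟩ := ne_bot_iff_exists_ne_one.1 hne
  have hw1' : w ≠ 1 := fun h0 => hw1 (Subtype.ext h0)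
  have hinv : Inv (y i) (br (y j) ⊓ fx (e j)) :=
    (Inv.br (hD.yy i j)).inf (Inv.fx (hD.ey j i hij.symm).symm)
  have hyw : y i w = w := by
    refine card_le_two_of_rk h.sq e2 (hinv w hw) hw ?_ hw1'
    intro h0
    exact hw1' (by simpa using congrArg (fun v => (y i)⁻¹ v) h0)
  have e3 := rk_inv h.sq (hD.odd i) (W := br (y j)) (Inv.br (hD.yy i j))
  have e4 : (br (y j) ⊓ br (y i)) ⊓ fx (y i) = ⊥ := by
    rw [eq_bot_iff, ← fx_inf_br h.sq (hD.odd i)]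
    exact le_inf inf_le_right (inf_le_left.trans inf_le_right)
  have e5 := rk_eq_two_mul h.sq (hD.odd i) (hD.esq i) (hD.inv i)
    ((Inv.br (hD.ey i j hij)).inf (Inv.br' (hD.inv i))) ((Inv.br (hD.yy i j)).inf (Inv.br rfl)) e4
  have e6 : br (y j) ⊓ fx (y i) ≠ ⊥ := by
    intro h0
    have : w ∈ br (y j) ⊓ fx (y i) := ⟨hw.1, hyw⟩
    rw [h0, mem_bot] at this
    exact hw1' this
  have e7 := rk_pos h.sq e6
  have e8 : br (y j) ⊓ fx (y i) = br (y j) := eq_of_rk h.sq inf_le_left (by omega)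
  rw [← e8]; exact inf_le_right

omit [Finite V] in
theorem pow_three_of {y : MulAut V} (h : orderOf y = 3) : y ^ 3 = 1 := by rw [← h]; exact pow_orderOf_eq_one y

/-- The types (c') and (d'). -/
theorem exists_pr (h : Hyp Γ T E H) (h4 : rk (⊤ : Subgroup V) = 4) {e y : Fin 2 → MulAut V} (hD : Dih e y)
    (hy : ∀ j, y j ∈ fittingOf Γ) (hp : ∀ j, (orderOf (y j)).Prime) : ∃ d₁ d₂, Pr Γ d₁ d₂ := by
  have hr : ∀ i, rk (⊤ : Subgroup V) = rk (fx (y i)) + rk (br (y i)) := fun i => by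
    have := rk_inv h.sq (hD.odd i) (W := ⊤) (fun _ _ => mem_top _)
    rwa [top_inf_eq, top_inf_eq] at this
  have hev : ∀ i, rk (br (y i)) = 2 * rk (br (y i) ⊓ fx (e i)) := fun i =>
    h.rk_br (hD.odd i) (hD.esq i) (hD.inv i)
  have hpos : ∀ i, 0 < rk (br (y i)) := fun i => rk_pos h.sq (h.br_ne_bot (hD.ne i))
  have hcase : ∀ i, rk (br (y i)) = 2 ∨ rk (br (y i)) = 4 := fun i => by
    have := hr i; have := hev i; have := hpos i; omega
  have h01 : (0 : Fin 2) ≠ 1 := by decide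
  by_cases hc : rk (br (y 0)) = 2 ∧ rk (br (y 1)) = 2
  · -- (c')
    obtain ⟨hc0, hc1⟩ := hc
    have k0 := br_le_fx h hD h01.symm hc0
    have k1 := br_le_fx h hD h01 hc1
    have r0 := hr 0
    have r1 := hr 1
    have f0 : br (y 1) = fx (y 0) := eq_of_rk h.sq k1 (by omega)
    have f1 : br (y 0) = fx (y 1) := eq_of_rk h.sq k0 (by omega)
    have ho : ∀ i, rk (br (y i)) = 2 → orderOf (y i) = 3 := by
      intro i hi
      have h5 := dvd_of_fpf h.sq (hp i) (W := br (y i)) (Inv.br rfl)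
        (by rw [inf_comm]; exact fx_inf_br h.sq (hD.odd i))
      rw [hi] at h5
      exact (Nat.prime_dvd_prime_iff_eq (hp i) Nat.prime_three).1 h5
    exact ⟨y 0, y 1, h.sq, h4, mem_o3 (hy 0) (ho 0 hc0), mem_o3 (hy 1) (ho 1 hc1), hD.yy 0 1,
      pow_three_of (ho 0 hc0), pow_three_of (ho 1 hc1), by omega, by omega, by
        rw [← f1]; exact fx_inf_br h.sq (hD.odd 0)⟩
  · -- (d')
    have hb : ∀ i, rk (br (y i)) = 4 := by
      by_contra hcon
      push Not at hcon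
      obtain ⟨i, hi⟩ := hcon
      have hi2 := (hcase i).resolve_right hi
      obtain ⟨j, hji⟩ : ∃ j : Fin 2, j ≠ i := ⟨if i = 0 then 1 else 0, by
        split_ifs with h0
        · rw [h0]; decide
        · exact fun h1 => h0 h1.symm⟩
      have k := br_le_fx h hD hji hi2
      have hj4 : rk (br (y j)) = 4 := by
        refine (hcase j).resolve_left fun hj2 => hc ?_
        fin_cases i <;> fin_cases j <;> first | exact ⟨hi2, hj2⟩ | exact ⟨hj2, hi2⟩ | exact absurd rfl hji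
      have rj := hr j
      have h5 := rk_mono k
      omega
    have hf : ∀ i, fx (y i) = ⊥ := fun i => rk_eq_zero h.sq (by have := hr i; have := hb i; omega)
    have hfe : ∀ i, rk (fx (e i)) = 2 := fun i => by
      have h5 := rk_eq_two_mul h.sq (hD.odd i) (hD.esq i) (hD.inv i) (W := ⊤) (fun _ _ => mem_top _)
        (fun _ _ => mem_top _) (by rw [top_inf_eq, hf i])
      rw [top_inf_eq] at h5
      omega
    have ho : ∀ i j, j ≠ i → orderOf (y i) = 3 := by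
      intro i j hji
      have h5 := dvd_of_fpf h.sq (hp i) (W := fx (e j)) (Inv.fx (hD.ey j i hji).symm)
        (by rw [hf i, inf_bot_eq])
      rw [hfe j] at h5
      exact (Nat.prime_dvd_prime_iff_eq (hp i) Nat.prime_three).1 h5
    have o0 := ho 0 1 h01.symm
    have o1 := ho 1 0 h01
    have p0 := pow_three_of o0
    have p1 := pow_three_of o1
    exact ⟨_, _, pr_of_fpf h.sq h4 (mem_o3 (hy 0) o0) (mem_o3 (hy 1) o1) (hD.yy 0 1) p0 p1 (hf 0) (hf 1)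
      (hD.inv 0) (hD.ey 0 1 h01)⟩

end Exists

end Cfsg.Agent.MinSimple.EmptyE.SmallB
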