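import Cfsg.Agent.MinSimple.EmptyE.SmallC

/-!
# Theorem E, Steps 3 and 5: the case (X) with the decomposition `V = V₁ × V₂`

* `CaseX2 Γ T V₁ V₂ z` : as `Small.CaseO`, but `T` elementary abelian of order at most 4 without transvections;
* `main2` : `SmallC.main` with `CaseX2` in place of `CaseX`.
-/

set_option autoImplicit false

namespace Cfsg.Agent.MinSimple.EmptyE.SmallX

open Subgroup Cfsg Cfsg.Agent.ZN Cfsg.Agent.ZN.ChoiceBase Cfsg.Agent.ZN.ChoiceSit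
open Cfsg.Agent.MinSimple.EmptyMod Cfsg.Agent.MinSimple.EmptyE.Small
open Cfsg.Agent.MinSimple.EmptyE.SmallB Cfsg.Agent.MinSimple.EmptyE.SmallC

universe u

variable {V : Type u} [CommGroup V]

/-- **(X)** : `V = V₁ × V₂`, `Γ` permutes `{V₁, V₂}`, `|T| ≤ 4`, `T` elementary abelian, no transvections in `T`. -/
structure CaseX2 (Γ T : Subgroup (MulAut V)) (V₁ V₂ : Subgroup V) (z : V) : Prop where
  ne : z ≠ 1
  fixT : ∀ v : V, v ∈ fxG T ↔ v = 1 ∨ v = z
  card₁ : Nat.card V₁ = 4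
  card₂ : Nat.card V₂ = 4
  inf : V₁ ⊓ V₂ = ⊥
  sup : V₁ ⊔ V₂ = ⊤
  perm : ∀ g ∈ Γ, ((∀ v ∈ V₁, g v ∈ V₁) ∧ ∀ v ∈ V₂, g v ∈ V₂) ∨
    ((∀ v ∈ V₁, g v ∈ V₂) ∧ ∀ v ∈ V₂, g v ∈ V₁)
  d₁ : ∃ d ∈ Γ, (∀ v ∈ V₁, d v = v → v = 1) ∧ (∀ v ∈ V₁, d v ∈ V₁) ∧ ∀ v ∈ V₂, d v = v
  d₂ : ∃ d ∈ Γ, (∀ v ∈ V₂, d v = v → v = 1) ∧ (∀ v ∈ V₂, d v ∈ V₂) ∧ ∀ v ∈ V₁, d v = v
  not₁ : z ∉ V₁
  not₂ : z ∉ V₂
  cardT : Nat.card T ≤ 4
  sqT : ∀ t ∈ T, t * t = 1
  ntv : ∀ t ∈ T, t ≠ 1 → Nat.card (fx t) ≤ 4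

variable [Finite V]

variable {Γ T E : Subgroup (MulAut V)} {H : Subgroup V} {d₁ d₂ : MulAut V}

/-- **(X)** -/
theorem caseX2 (h : Hyp Γ T E H) (p : Pr Γ d₁ d₂) {A : Subgroup (MulAut V)} (hA : A ≤ T)
    (hA4 : Nat.card A = 4) (hAsq : ∀ a ∈ A, a * a = 1)
    (hno : ∀ t ∈ T, Inv t (fx d₂) → (∃ v ∈ fx d₂, t v ≠ v) → ¬ ∀ v ∈ fx d₁, t v = v) :
    ∃ z, CaseX2 Γ T (fx d₂) (fx d₁) z := by
  obtain ⟨s, hs, hs₁, hs₂⟩ := exists_swap h p
  have hsi : ∀ v, s (s⁻¹ v) = v := fun v => by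
    rw [← MulAut.mul_apply, mul_inv_cancel, MulAut.one_apply]
  have hsi' : ∀ v, s⁻¹ (s v) = v := fun v => by
    rw [← MulAut.mul_apply, inv_mul_cancel, MulAut.one_apply]
  -- `s⁻¹` swaps
  have hsw : (∀ v ∈ fx d₂, s⁻¹ v ∈ fx d₁) ∧ ∀ v ∈ fx d₁, s⁻¹ v ∈ fx d₂ := by
    rcases p.perm (inv_mem (h.syl.1 hs)) with h1 | h1
    · exfalso
      obtain ⟨⟨w, hw⟩, hw1⟩ := ne_bot_iff_exists_ne_one.1 (ne_bot₁ p)
      have h2 : s (s⁻¹ w) ∈ fx d₁ := hs₁ _ (h1.1 w hw)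
      rw [hsi] at h2
      have h3 : w ∈ fx d₂ ⊓ fx d₁ := ⟨hw, h2⟩
      rw [p.inf', mem_bot] at h3
      exact hw1 (Subtype.ext h3)
    · exact h1
  -- (N)
  have hN : ∀ t ∈ T, Inv t (fx d₂) → (∀ v ∈ fx d₂, t v = v) → t = 1 := by
    intro t ht ht₁ htr
    by_contra ht1
    have ht₂ := inv₂ p (h.syl.1 ht) ht₁
    -- `t` is not trivial on `V₂`
    have h1 : ∃ v ∈ fx d₁, t v ≠ v := by
      by_contra h0
      push Not at h0
      exact ht1 (p.ext' (fun v hv => by rw [htr v hv, MulAut.one_apply])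
        (fun v hv => by rw [h0 v hv, MulAut.one_apply]))
    refine hno (s * t * s⁻¹) (mul_mem (mul_mem hs ht) (inv_mem hs)) ?_ ?_ ?_
    · intro v hv
      rw [MulAut.mul_apply, MulAut.mul_apply]
      exact hs₂ _ (ht₂ _ (hsw.1 v hv))
    · obtain ⟨v, hv, hv'⟩ := h1
      refine ⟨s v, hs₂ v hv, fun h0 => hv' ?_⟩
      rw [MulAut.mul_apply, MulAut.mul_apply, hsi'] at h0
      exact s.injective h0
    · intro v hv
      rw [MulAut.mul_apply, MulAut.mul_apply, htr _ (hsw.2 v hv), hsi]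
  -- `T₀` and its fixed point `a`
  set T₀ := T ⊓ stb (fx d₂) with hT₀
  have hT₀inv : ∀ t ∈ T₀, Inv t (fx d₂) := fun t ht v hv => (ht.2 v).2 hv
  obtain ⟨a, ha, ha1, hTa⟩ := exists_fixed h.sq (h.syl.2.1.to_le (inf_le_left : T₀ ≤ T)) hT₀inv (ne_bot₁ p)
  obtain ⟨b, hb, hb1, hba⟩ : ∃ b ∈ fx d₂, b ≠ 1 ∧ b ≠ a := by
    refine ⟨d₁ a, p.d₁_inv₁ a ha, Pr.map_ne_one d₁ ha1, fun h0 => ?_⟩
    have h3 : a ∈ fx d₂ ⊓ fx d₁ := ⟨ha, h0⟩
    rw [p.inf', mem_bot] at h3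
    exact ha1 h3
  have hall := four_cases h.sq p.r₂ ha hb ha1 hb1 hba.symm
  have hT₀fix : ∀ t ∈ T₀, t b = b → t = 1 := by
    intro t ht htb
    refine hN t ht.1 (hT₀inv t ht) fun v hv => ?_
    rcases hall v hv with rfl | rfl | rfl | rfl
    · exact map_one t
    · exact hTa t ht
    · exact htb
    · rw [map_mul, hTa t ht, htb]
  have hT₀b : ∀ t ∈ T₀, t ≠ 1 → t b = a * b := by
    intro t ht ht1
    rcases hall (t b) (hT₀inv t ht b hb) with h1 | h1 | h1 | h1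
    · exact absurd h1 (Pr.map_ne_one t hb1)
    · exact absurd (t.injective (h1.trans (hTa t ht).symm)) hba
    · exact absurd (hT₀fix t ht h1) ht1
    · exact h1
  have hT₀eq : ∀ t ∈ T₀, ∀ t' ∈ T₀, t ≠ 1 → t' ≠ 1 → t = t' := by
    intro t ht t' ht' h1 h1'
    have h2 : (t⁻¹ * t') b = b := by
      rw [MulAut.mul_apply, hT₀b t' ht' h1', ← hT₀b t ht h1, ← MulAut.mul_apply, inv_mul_cancel,
        MulAut.one_apply]
    exact inv_mul_eq_one.1 (hT₀fix _ (mul_mem (inv_mem ht) ht') h2)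
  -- the elements of `T`
  have hTcases : ∀ t ∈ T, t ∈ T₀ ∨ s⁻¹ * t ∈ T₀ := by
    intro t ht
    rcases p.perm (h.syl.1 ht) with h1 | h1
    · exact Or.inl ⟨ht, mem_stb_of_inv h1.1⟩
    · right
      refine mem_inf.2 ⟨mul_mem (inv_mem hs) ht, mem_stb_of_inv fun v hv => ?_⟩
      rw [MulAut.mul_apply]
      exact hsw.2 _ (h1.1 v hv)
  obtain ⟨τ, hτ, hτ1⟩ : ∃ τ ∈ T₀, τ ≠ 1 := by
    by_contra h0
    push Not at h0
    have hsub : (T : Set (MulAut V)) ⊆ {1, s} := by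
      intro t ht
      rcases hTcases t ht with h1 | h1
      · exact Or.inl (h0 t h1)
      · exact Or.inr (inv_mul_eq_one.1 (h0 _ h1)).symm
    have h5 : Nat.card T ≤ 2 := by
      calc Nat.card T = Set.ncard (T : Set (MulAut V)) := Nat.card_coe_set_eq _
        _ ≤ Set.ncard ({1, s} : Set (MulAut V)) := Set.ncard_le_ncard hsub (Set.toFinite _)
        _ ≤ 2 := ncard_pair_le _ _
    have h6 : Nat.card A ≤ Nat.card T := Nat.le_of_dvd Nat.card_pos (card_dvd_of_le hA)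
    omega
  have hsub : (T : Set (MulAut V)) ⊆ {1, τ, s, s * τ} := by
    intro t ht
    rcases hTcases t ht with h1 | h1
    · by_cases ht1 : t = 1
      · exact Or.inl ht1
      · exact Or.inr (Or.inl (hT₀eq t h1 τ hτ ht1 hτ1))
    · by_cases ht1 : s⁻¹ * t = 1
      · exact Or.inr (Or.inr (Or.inl (inv_mul_eq_one.1 ht1).symm))
      · refine Or.inr (Or.inr (Or.inr ?_))
        have := hT₀eq _ h1 τ hτ ht1 hτ1
        rw [Set.mem_singleton_iff, ← this]
        group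
  have hTA : A = T := by
    refine eq_of_le_of_card_ge hA ?_
    rw [hA4]
    calc Nat.card T = Set.ncard (T : Set (MulAut V)) := Nat.card_coe_set_eq _
      _ ≤ Set.ncard ({1, τ, s, s * τ} : Set (MulAut V)) := Set.ncard_le_ncard hsub (Set.toFinite _)
      _ ≤ 4 := by
        refine (Set.ncard_insert_le _ _).trans ?_
        have := Set.ncard_insert_le τ ({s, s * τ} : Set (MulAut V))
        have := ncard_pair_le s (s * τ)
        omega
  have hTsq : ∀ t ∈ T, t * t = 1 := fun t ht => hAsq t (hTA ▸ ht)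
  have hTc : ∀ t ∈ T, ∀ r ∈ T, t * r = r * t := by
    intro t ht r hr
    have h1 := hTsq _ (mul_mem ht hr)
    have h2 : t⁻¹ = t := inv_eq_of_mul_eq_one_left (hTsq t ht)
    have h3 : r⁻¹ = r := inv_eq_of_mul_eq_one_left (hTsq r hr)
    calc t * r = (t * r)⁻¹ := (inv_eq_of_mul_eq_one_left h1).symm
      _ = r * t := by rw [mul_inv_rev, h2, h3]
  have hτT : τ ∈ T := hτ.1
  have hτ₁ := hT₀inv τ hτ
  have hτ₂ := inv₂ p (h.syl.1 hτT) hτ₁
  have hτb : τ b ≠ b := by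
    rw [hT₀b τ hτ hτ1]
    exact fun h0 => ha1 (mul_eq_right.1 h0)
  obtain ⟨z, hz1, hz₁, hz₂, hz⟩ := exists_z h p hs hs₁ hs₂ hτT hτ₁ hτ₂ ⟨b, hb, hτb⟩
  have hcard : ∀ W : Subgroup V, rk W = 2 → Nat.card W = 4 := fun W hW => by
    rw [card_eq h.sq, hW]; norm_num
  have hle4 : ∀ W : Subgroup V, rk W ≤ 2 → Nat.card W ≤ 4 := fun W hW => by
    rw [card_eq h.sq]
    exact Nat.pow_le_pow_right (n := 2) (by norm_num) hW
  refine ⟨z, hz1, hz, hcard _ p.r₂, hcard _ p.r₁, p.inf', by rw [sup_comm]; exact p.sup, ?_, ?_, ?_,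
    hz₁, hz₂, ?_, hTsq, ?_⟩
  · intro g hg
    exact p.perm hg
  · refine ⟨d₁, o3_le Γ p.m₁, fun v hv hdv => ?_, p.d₁_inv₁, fun v hv => hv⟩
    have h1 : v ∈ fx d₁ ⊓ fx d₂ := ⟨hdv, hv⟩
    rwa [p.inf, mem_bot] at h1
  · refine ⟨d₂, o3_le Γ p.m₂, fun v hv hdv => ?_, p.symm.d₁_inv₁, fun v hv => hv⟩
    have h1 : v ∈ fx d₁ ⊓ fx d₂ := ⟨hv, hdv⟩
    rwa [p.inf, mem_bot] at h1
  · rw [← hTA, hA4]
  · intro t ht ht1
    refine hle4 _ ?_
    rcases p.perm (h.syl.1 ht) with h1 | h1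
    · -- `t` acts nontrivially on both factors
      have e1 : ¬ ∀ v ∈ fx d₂, t v = v := fun h0 => ht1 (hN t ht h1.1 h0)
      have e2 : ¬ ∀ v ∈ fx d₁, t v = v := by
        push Not at e1
        exact hno t ht h1.1 e1
      have e3 : ∀ W : Subgroup V, rk W = 2 → (¬ ∀ v ∈ W, t v = v) → rk (W ⊓ fx t) ≤ 1 := by
        intro W hW h0
        have h2 : rk (W ⊓ fx t) ≤ rk W := rk_mono inf_le_left
        have h3 : rk (W ⊓ fx t) ≠ 2 := by
          intro h4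
          have h5 : W ⊓ fx t = W := eq_of_rk h.sq inf_le_left (by rw [hW, h4])
          exact h0 fun v hv => by
            rw [← h5] at hv
            exact hv.2
        omega
      have e4 : fx t ≤ (fx d₂ ⊓ fx t) ⊔ (fx d₁ ⊓ fx t) := by
        intro v hv
        obtain ⟨x, hx, y, hy, hxy⟩ := decomp p v
        have h2 : t v = v := hv
        rw [← hxy, map_mul] at h2
        obtain ⟨h3, h4⟩ := uniq p (h1.1 x hx) hx (h1.2 y hy) hy h2
        rw [← hxy]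
        exact mul_mem (mem_sup_left ⟨hx, h3⟩) (mem_sup_right ⟨hy, h4⟩)
      have e5 := rk_mono e4
      have e6 := rk_sup h.sq (fx d₂ ⊓ fx t) (fx d₁ ⊓ fx t)
      have e7 := e3 _ p.r₂ e1
      have e8 := e3 _ p.r₁ e2
      omega
    · -- `t` swaps
      have e1 : fx t ⊓ fx d₂ = ⊥ := by
        rw [eq_bot_iff, ← p.inf']
        rintro v ⟨hv, hv₁⟩
        refine ⟨hv₁, ?_⟩
        have h2 : t v ∈ fx d₁ := h1.1 v hv₁
        have h3 : t v = v := hv
        rwa [h3] at h2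
      have e2 := rk_sup h.sq (fx t) (fx d₂)
      have e3 : rk (fx t ⊔ fx d₂) ≤ rk (⊤ : Subgroup V) := rk_mono le_top
      rw [e1, rk_bot, p.r₂] at e2
      have e4 := p.rt
      omega

/-- **Steps 3 and 5.** -/
theorem main2 (h : Hyp Γ T E H) : Nat.card V = 4 ∨ (Nat.card V = 16 ∧
    ((∃ e, CaseY T H e) ∨ (∃ V₁ V₂ z, CaseX2 Γ T V₁ V₂ z) ∨ ∃ V₁ V₂ z, CaseO Γ T V₁ V₂ z)) := by
  have hcardV : Nat.card V = 2 ^ rk (⊤ : Subgroup V) := by rw [← card_eq h.sq, card_top]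
  obtain ⟨n, e₀, y₀, -, -, -, -, -, -, -, -, -, -, hcases⟩ := h.dims
  have hrk : rk (⊤ : Subgroup V) = 2 ∨ rk (⊤ : Subgroup V) = 3 ∨ rk (⊤ : Subgroup V) = 4 := by omega
  rcases hrk with h2 | h3 | h4
  · left; rw [hcardV, h2]; norm_num
  · exact (h.not_three h3).elim
  right
  refine ⟨by rw [hcardV, h4]; norm_num, ?_⟩
  -- a central involution of `T`
  have hT : T ≠ ⊥ := fun h0 => h.Ene (le_bot_iff.1 (h.le.trans h0.le))
  obtain ⟨⟨c, hc⟩, hc1'⟩ := ne_bot_iff_exists_ne_one.1 (Basic.zc_ne_bot h.syl.2.1 hT)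
  have hc1 : c ≠ 1 := fun h0 => hc1' (Subtype.ext h0)
  have hc' := ChoiceBase.mem_zc.1 hc
  have hcc : c * c = 1 := by rw [← pow_two]; exact hc'.2.1
  by_cases huniq : ∀ t ∈ T, t * t = 1 → t = 1 ∨ t = c
  · exact Or.inl ⟨c, h.caseY h4 hcc hc1 huniq⟩
  right
  push Not at huniq
  obtain ⟨t, ht, htt, ht1, htc⟩ := huniq
  have hct : t * c = c * t := hc'.2.2 t ht
  -- the four-group
  set A : Subgroup (MulAut V) := zpowers c ⊔ zpowers t with hA
  have hAT : A ≤ T := sup_le (by rw [zpowers_le]; exact hc'.1) (by rw [zpowers_le]; exact ht)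
  have hsq : ∀ x : MulAut V, x * x = 1 → ∀ y ∈ zpowers x, y = 1 ∨ y = x := by
    intro x hx y hy
    rw [← mem_powers_iff_mem_zpowers] at hy
    obtain ⟨k, rfl⟩ := hy
    rcases Nat.even_or_odd' k with ⟨m, rfl | rfl⟩
    · left
      change x ^ (2 * m) = 1
      rw [pow_mul, pow_two, hx, one_pow]
    · right
      change x ^ (2 * m + 1) = x
      rw [pow_succ, pow_mul, pow_two, hx, one_pow, one_mul]
  have hnorm : zpowers c ≤ normalizer (zpowers t : Set (MulAut V)) := by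
    rw [zpowers_le]
    have h1 : c ∈ centralizer (zpowers t : Set (MulAut V)) := by
      rw [mem_centralizer_iff]
      intro y hy
      rcases hsq t htt y hy with rfl | rfl
      · rw [one_mul, mul_one]
      · exact hct
    exact centralizer_le_normalizer _ h1
  have hcardz : ∀ x : MulAut V, x * x = 1 → x ≠ 1 → Nat.card (zpowers x) = 2 := by
    intro x hx hx1
    rw [Nat.card_zpowers]
    exact orderOf_eq_prime (by rw [pow_two]; exact hx) hx1
  have hA4 : Nat.card A = 4 := by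
    have h1 := ZN.Block.card_sup_mul_card_inf hnorm
    have h2 : zpowers c ⊓ zpowers t = ⊥ := by
      rw [eq_bot_iff]
      rintro x ⟨hx, hx'⟩
      rw [mem_bot]
      rcases hsq c hcc x hx with h3 | h3
      · exact h3
      · rcases hsq t htt x hx' with h5 | h5
        · exact h5
        · exact absurd (h5.symm.trans h3) htc
    rw [h2, card_bot, mul_one, hcardz c hcc hc1, hcardz t htt ht1] at h1
    exact h1
  have hAsq : ∀ a ∈ A, a * a = 1 := by
    intro a ha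
    have ha' : a ∈ T := hAT ha
    have h1 : A ≤ (centralizer (A : Set (MulAut V))) := by
      refine sup_le ?_ ?_ <;> rw [zpowers_le, mem_centralizer_iff]
      · intro y hy
        exact hc'.2.2 y (hAT hy)
      · intro y hy
        have h3 : A ≤ centralizer ({t} : Set (MulAut V)) := by
          refine sup_le ?_ ?_ <;> rw [zpowers_le, mem_centralizer_singleton_iff]
          exact hct.symm
        exact mem_centralizer_singleton_iff.1 (h3 hy)
    have key : A ≤ { carrier := {x | x ∈ A ∧ x * x = 1}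
                     one_mem' := ⟨one_mem A, one_mul 1⟩
                     mul_mem' := by
                      rintro x y ⟨hx, hx'⟩ ⟨hy, hy'⟩
                      refine ⟨mul_mem hx hy, ?_⟩
                      have h5 : y * x = x * y := mem_centralizer_iff.1 (h1 hx) y hy
                      calc x * y * (x * y) = x * (y * x) * y := by group
                        _ = (x * x) * (y * y) := by rw [h5]; group
                        _ = 1 := by rw [hx', hy', one_mul]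
                     inv_mem' := by
                      rintro x ⟨hx, hx'⟩
                      refine ⟨inv_mem hx, ?_⟩
                      rw [← mul_inv_rev, hx', inv_one] } := by
      refine sup_le ?_ ?_ <;> rw [zpowers_le]
      · exact ⟨mem_sup_left (mem_zpowers c), hcc⟩
      · exact ⟨mem_sup_right (mem_zpowers t), htt⟩
    exact (key ha).2
  obtain ⟨m, e, y, hcard, -, he, hy, hp, hD⟩ := exists_dih h.solv h.o2 (hAT.trans h.syl.1) hAsq
  have hm : m = 2 := by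
    rw [hA4] at hcard
    have : 2 ^ 2 = 2 ^ m := hcard
    exact (Nat.pow_right_injective (le_refl 2) this).symm
  subst hm
  obtain ⟨d₁, d₂, p⟩ := exists_pr h h4 hD hy hp
  by_cases hno : ∀ t ∈ T, Inv t (fx d₂) → (∃ v ∈ fx d₂, t v ≠ v) → ¬ ∀ v ∈ fx d₁, t v = v
  · obtain ⟨z, hz⟩ := caseX2 h p hAT hA4 hAsq hno
    exact Or.inl ⟨_, _, z, hz⟩
  · push Not at hno
    obtain ⟨r, hr, hr₁, hr2, hr3⟩ := hno
    obtain ⟨z, hz⟩ := caseO h p hr hr₁ hr2 hr3
    exact Or.inr ⟨_, _, z, hz⟩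
end Cfsg.Agent.MinSimple.EmptyE.SmallX
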