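import Cfsg.Agent.MinSimple.EmptyE.SmallC
import Cfsg.Agent.MinSimple.EmptyE.Hyper

/-!
# Theorem E: the transport of the data of `V = vv S` to `MulAut V`

* `Tr S ι φ` : `V` a commutative group, `ι : V → G` injective with image `vv S`, `φ : N_G(vv S) → MulAut V` the
  conjugation action;
* `Tr.hyp` : the hypotheses `Small.Hyp` for a closed subgroup `H ≥ Ω₁(Z(S))` of `vv S`, `E ≤ S`.
-/

set_option autoImplicit false

namespace Cfsg.Agent.MinSimple.EmptyE.Trans

open Subgroup Cfsg Cfsg.Agent.ZN Cfsg.Agent.ZN.ChoiceBase Cfsg.Agent.ZN.ChoiceSit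
open Cfsg.Agent.MinSimple.EmptyTI Cfsg.Agent.MinSimple.EmptySix
open Cfsg.Agent.MinSimple.EmptyE.Closed Cfsg.Agent.MinSimple.EmptyMod
open Cfsg.Agent.PLocal.ThompsonJ

universe u

/-! ### Sylow subgroups -/

section Syl

theorem syl_of_not_dvd {A : Type*} [Group A] [Finite A] {T X : Subgroup A} (hTX : T ≤ X)
    (hT : IsPGroup 2 T) (h : ¬ 2 ∣ T.relIndex X) : Syl T X := by
  have hf : Fact (Nat.Prime 2) := ⟨Nat.prime_two⟩
  refine ⟨hTX, hT, fun Q hQX hQ hTQ => ?_⟩
  obtain ⟨k, hk⟩ := hQ.index (T.subgroupOf Q)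
  have h1 : T.relIndex Q ∣ T.relIndex X := by
    rw [← relIndex_mul_relIndex T Q X hTQ hQX]
    exact dvd_mul_right _ _
  have h2 : T.relIndex Q = 1 := by
    change T.relIndex Q = 2 ^ k at hk
    rcases Nat.eq_zero_or_pos k with h0 | h0
    · rw [hk, h0, pow_zero]
    · exfalso
      apply h
      refine dvd_trans ?_ h1
      rw [hk]
      exact dvd_pow_self 2 (by omega)
  exact le_antisymm (relIndex_eq_one.1 h2) hTQ

theorem syl_map {A B : Type*} [Group A] [Group B] [Finite A] [Finite B] (f : A →* B)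
    {T X : Subgroup A} (h : Syl T X) : Syl (T.map f) (X.map f) := by
  refine syl_of_not_dvd (map_mono h.1) (h.2.1.map f) fun h0 => syl_not_dvd h (h0.trans ?_)
  rw [← relIndex_comap]
  exact relIndex_dvd_of_le_left _ (le_comap_map f T)

/-- The image of a Sylow 2-subgroup of `X ≤ L`. -/
theorem syl_im {A B : Type*} [Group A] [Group B] [Finite A] [Finite B] {L : Subgroup A} (f : L →* B)
    {T X : Subgroup A} (h : Syl T X) (hX : X ≤ L) :
    Syl ((T.subgroupOf L).map f) ((X.subgroupOf L).map f) := by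
  refine syl_map f ⟨fun x hx => h.1 hx, ?_, fun Q hQ hQ2 hTQ => ?_⟩
  · exact h.2.1.comap_of_injective _ L.subtype_injective
  · have h1 := h.2.2 (Q.map L.subtype) (by
      rintro _ ⟨q, hq, rfl⟩
      exact hQ hq) (hQ2.map _) (by
      intro t ht
      exact ⟨⟨t, hX (h.1 ht)⟩, hTQ (mem_subgroupOf.2 ht), rfl⟩)
    rw [← h1]
    exact (comap_map_eq_self_of_injective L.subtype_injective Q).symm

end Syl

/-! ### The transport -/

variable {G : Type u} [Group G]

/-- The conjugation action of `N_G(vv S)` on `V ≃ vv S`. -/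
structure Tr (S : Subgroup G) {V : Type u} [CommGroup V] (ι : V →* G) (φ : LL S →* MulAut V) : Prop where
  inj : Function.Injective ι
  range : ∀ x : G, x ∈ vv S ↔ ∃ v, ι v = x
  act : ∀ (a : LL S) (v : V), ι (φ a v) = a * ι v * (a : G)⁻¹

theorem exists_tr [Finite G] (S : Sylow 2 G) : ∃ (V : Type u) (_ : CommGroup V) (ι : V →* G)
    (φ : LL (S : Subgroup G) →* MulAut V), Tr (S : Subgroup G) ι φ :=
  letI : CommGroup (vv (S : Subgroup G)) := { (inferInstance : Group (vv (S : Subgroup G))) with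
      mul_comm := fun a b => Subtype.ext (vv_comm a.2 b.2) }
  ⟨vv (S : Subgroup G), inferInstance, (vv (S : Subgroup G)).subtype,
    Lib.CoprimeHyperplane.conjHom le_rfl, (vv (S : Subgroup G)).subtype_injective,
    fun x => ⟨fun hx => ⟨⟨x, hx⟩, rfl⟩, by rintro ⟨v, rfl⟩; exact v.2⟩, fun _ _ => rfl⟩

/-- The image of a subgroup of `N_G(vv S)`. -/
def im {S : Subgroup G} {V : Type u} [CommGroup V] (φ : LL S →* MulAut V) (X : Subgroup G) :
    Subgroup (MulAut V) := (X.subgroupOf (LL S)).map φ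

theorem mem_im {S : Subgroup G} {V : Type u} [CommGroup V] {φ : LL S →* MulAut V} {X : Subgroup G}
    {f : MulAut V} : f ∈ im φ X ↔ ∃ x ∈ X, ∃ hx : x ∈ LL S, φ ⟨x, hx⟩ = f := by
  constructor
  · rintro ⟨⟨x, hx⟩, hX, rfl⟩
    exact ⟨x, hX, hx, rfl⟩
  · rintro ⟨x, hX, hx, rfl⟩
    exact ⟨⟨x, hx⟩, hX, rfl⟩

namespace Tr

variable [Finite G] {S : Sylow 2 G} {V : Type u} [CommGroup V] {ι : V →* G}
  {φ : LL (S : Subgroup G) →* MulAut V}

omit [Finite G] in
theorem mem (t : Tr (S : Subgroup G) ι φ) (v : V) : ι v ∈ vv (S : Subgroup G) :=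
  (t.range _).2 ⟨v, rfl⟩

omit [Finite G] in
theorem exists_of_mem (t : Tr (S : Subgroup G) ι φ) {x : G} (hx : x ∈ vv (S : Subgroup G)) :
    ∃ v, ι v = x := (t.range _).1 hx

theorem finite (t : Tr (S : Subgroup G) ι φ) : Finite V := Finite.of_injective ι t.inj

omit [Finite G] in
theorem map_range (t : Tr (S : Subgroup G) ι φ) : (⊤ : Subgroup V).map ι = vv (S : Subgroup G) := by
  ext x
  rw [t.range]
  constructor
  · rintro ⟨v, -, rfl⟩; exact ⟨v, rfl⟩
  · rintro ⟨v, rfl⟩; exact ⟨v, mem_top _, rfl⟩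

omit [Finite G] in
theorem card_map (t : Tr (S : Subgroup G) ι φ) (A : Subgroup V) : Nat.card (A.map ι) = Nat.card A :=
  Nat.card_congr (A.equivMapOfInjective ι t.inj).toEquiv.symm

omit [Finite G] in
theorem card_eq (t : Tr (S : Subgroup G) ι φ) : Nat.card V = Nat.card (vv (S : Subgroup G)) := by
  rw [← t.map_range, t.card_map, card_top]

omit [Finite G] in
theorem map_le (t : Tr (S : Subgroup G) ι φ) (A : Subgroup V) : A.map ι ≤ vv (S : Subgroup G) := by
  rw [← t.map_range]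
  exact map_mono le_top

omit [Finite G] in
theorem map_comap (t : Tr (S : Subgroup G) ι φ) {A : Subgroup G} (hA : A ≤ vv (S : Subgroup G)) :
    (A.comap ι).map ι = A := by
  ext x
  constructor
  · rintro ⟨v, hv, rfl⟩; exact hv
  · intro hx
    obtain ⟨v, rfl⟩ := t.exists_of_mem (hA hx)
    exact ⟨v, hx, rfl⟩

omit [Finite G] in
theorem card_comap (t : Tr (S : Subgroup G) ι φ) {A : Subgroup G} (hA : A ≤ vv (S : Subgroup G)) :
    Nat.card (A.comap ι) = Nat.card A := by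
  conv_rhs => rw [← t.map_comap hA]
  rw [t.card_map]

omit [Finite G] in
theorem fix (t : Tr (S : Subgroup G) ι φ) {a : LL (S : Subgroup G)} {v : V} :
    φ a v = v ↔ a * ι v = ι v * a := by
  rw [← t.inj.eq_iff, t.act, mul_inv_eq_iff_eq_mul]

omit [Finite G] in
theorem ker (t : Tr (S : Subgroup G) ι φ) {a : LL (S : Subgroup G)} :
    φ a = 1 ↔ (a : G) ∈ centralizer (vv (S : Subgroup G) : Set G) := by
  rw [mem_centralizer_iff]
  constructor
  · intro h x hx
    obtain ⟨v, rfl⟩ := t.exists_of_mem hx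
    have h1 : φ a v = v := by rw [h, MulAut.one_apply]
    exact (t.fix.1 h1).symm
  · intro h
    ext v
    rw [MulAut.one_apply]
    exact t.fix.2 (h _ (t.mem v)).symm

theorem sq (t : Tr (S : Subgroup G) ι φ) (v : V) : v * v = 1 :=
  t.inj (by rw [map_mul, map_one]; exact vv_mul_self (t.mem v))

omit [Finite G] in
theorem ne_one (t : Tr (S : Subgroup G) ι φ) {v : V} (hv : v ≠ 1) : ι v ≠ 1 := fun h0 =>
  hv (t.inj (by rw [h0, map_one]))

theorem solv (_t : Tr (S : Subgroup G) ι φ) (h : ESit S) : Group.IsSolvable φ.range := by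
  have : Group.IsSolvable (LL (S : Subgroup G)) := h.solv _ h.isTwoLocal_LL
  exact Group.isSolvable_of_surjective (f := φ.rangeRestrict) φ.rangeRestrict_surjective

theorem o2_eq (t : Tr (S : Subgroup G) ι φ) (h : ESit S) : o2 φ.range = ⊥ := by
  have := t.finite
  rw [eq_bot_iff]
  have h2 : ∀ x ∈ ((o2 φ.range).comap φ).map (LL (S : Subgroup G)).subtype,
      x ∈ centralizer (vv (S : Subgroup G) : Set G) := by
    have h1 := Basic.le_centralizer_zl_of_pow (S := (S : Subgroup G)) h.le_LL S.isPGroup'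
      (Basic.not_dvd_relIndex S h.le_LL)
      (D := ((o2 φ.range).comap φ).map (LL (S : Subgroup G)).subtype) (map_subtype_le _) ?_ ?_
    · rw [h.zl_LL] at h1; exact h1
    · rintro g hg
      rw [mem_normalizer_iff]
      have key : ∀ g ∈ LL (S : Subgroup G), ∀ x ∈ ((o2 φ.range).comap φ).map (LL (S : Subgroup G)).subtype,
          g * x * g⁻¹ ∈ ((o2 φ.range).comap φ).map (LL (S : Subgroup G)).subtype := by
        rintro g hg _ ⟨x, hx, rfl⟩
        refine ⟨⟨g, hg⟩ * x * ⟨g, hg⟩⁻¹, ?_, rfl⟩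
        change φ (⟨g, hg⟩ * x * ⟨g, hg⟩⁻¹) ∈ o2 φ.range
        rw [map_mul, map_mul, map_inv]
        exact (mem_normalizer_iff.1 (ZN.ChoiceSit.le_normalizer_o2 φ.range ⟨_, rfl⟩) _).1 hx
      refine fun x => ⟨key g hg x, fun hx => ?_⟩
      have h1 := key g⁻¹ (inv_mem hg) _ hx
      have h2 : g⁻¹ * (g * x * g⁻¹) * g⁻¹⁻¹ = x := by group
      rwa [h2] at h1
    · rintro _ ⟨x, hx, rfl⟩
      have hp : Fact (Nat.Prime 2) := ⟨Nat.prime_two⟩
      obtain ⟨k, hk⟩ := VModule.o2_isPGroup φ.range ⟨φ x, hx⟩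
      refine ⟨k, ?_⟩
      have h1 : φ (x ^ 2 ^ k) = 1 := by
        rw [map_pow]
        exact congrArg Subtype.val hk
      rw [h.zl_LL]
      exact t.ker.1 h1
  intro γ hγ
  obtain ⟨x, rfl⟩ : ∃ x, φ x = γ := VModule.o2_le _ hγ
  rw [mem_bot, t.ker]
  exact h2 x ⟨x, hγ, rfl⟩

omit [Finite G] in
theorem range_eq (_t : Tr (S : Subgroup G) ι φ) : im φ (LL (S : Subgroup G)) = φ.range := by
  ext f
  rw [mem_im, MonoidHom.mem_range]
  constructor
  · rintro ⟨x, -, hx, rfl⟩; exact ⟨_, rfl⟩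
  · rintro ⟨x, rfl⟩; exact ⟨x, x.2, x.2, rfl⟩

theorem syl (t : Tr (S : Subgroup G) ι φ) (h : ESit S) : Syl (im φ (S : Subgroup G)) φ.range := by
  have := t.finite
  rw [← t.range_eq]
  exact syl_im φ (syl_of_le h.le_LL) le_rfl

omit [Finite G] in
theorem im_mono (_t : Tr (S : Subgroup G) ι φ) {X Y : Subgroup G} (h : X ≤ Y) : im φ X ≤ im φ Y := by
  intro f hf
  obtain ⟨x, hx, hxL, rfl⟩ := mem_im.1 hf
  exact mem_im.2 ⟨x, h hx, hxL, rfl⟩

omit [Finite G] in
theorem card_im (t : Tr (S : Subgroup G) ι φ) {X : Subgroup G} (hX : X ≤ LL (S : Subgroup G)) :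
    Nat.card (im φ X) = (centralizer (vv (S : Subgroup G) : Set G)).relIndex X := by
  have h1 : im φ X = (φ.comp (inclusion hX)).range := by
    ext f
    rw [mem_im, MonoidHom.mem_range]
    constructor
    · rintro ⟨x, hx, -, rfl⟩; exact ⟨⟨x, hx⟩, rfl⟩
    · rintro ⟨x, rfl⟩; exact ⟨x, x.2, hX x.2, rfl⟩
  rw [h1, ← index_ker, relIndex]
  congr 1
  ext x
  rw [MonoidHom.mem_ker, mem_subgroupOf]
  exact t.ker

omit [Finite G] in
/-- The stabilizer of `u` in `Γ` is the image of `C_L(u)`. -/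
theorem im_inf_centralizer (t : Tr (S : Subgroup G) ι φ) (u : V) :
    im φ (LL (S : Subgroup G) ⊓ centralizer ({ι u} : Set G)) = φ.range ⊓ st u := by
  ext f
  rw [mem_im, mem_inf, MonoidHom.mem_range, mem_st]
  constructor
  · rintro ⟨x, hx, hxL, rfl⟩
    exact ⟨⟨_, rfl⟩, t.fix.2 (mem_centralizer_singleton_iff.1 hx.2)⟩
  · rintro ⟨⟨x, rfl⟩, hx⟩
    exact ⟨x, ⟨x.2, mem_centralizer_singleton_iff.2 (t.fix.1 hx)⟩, x.2, rfl⟩

theorem mem_cl_of_syl (t : Tr (S : Subgroup G) ι φ) (h : ESit S) {u : V} (hu : u ≠ 1)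
    {T' : Subgroup (MulAut V)} (hT : Syl T' (φ.range ⊓ st u)) {v : V} (hv : ∀ t ∈ T', t v = v) :
    ι v ∈ cl (S : Subgroup G) (ι u) := by
  have := t.finite
  obtain ⟨T₁, hT₁, -⟩ := exists_syl (X := LL (S : Subgroup G) ⊓ centralizer ({ι u} : Set G))
    (T := ⊥) IsPGroup.of_bot bot_le
  have h1 := syl_im φ hT₁ inf_le_left
  change Syl (im φ T₁) (im φ _) at h1
  rw [t.im_inf_centralizer] at h1
  obtain ⟨γ, hγ, hγT⟩ := syl_conj h1 hT
  rw [← t.im_inf_centralizer] at hγ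
  obtain ⟨c, hc, hcL, rfl⟩ := mem_im.1 hγ
  refine h.inf_centralizer_le (t.mem u) (t.ne_one hu) (syl_cj_of_mem hc hT₁) (mem_inf.2 ⟨t.mem v, ?_⟩)
  rw [mem_centralizer_iff]
  rintro _ ⟨x, hx, rfl⟩
  have hxL : x ∈ LL (S : Subgroup G) := (hT₁.1 hx).1
  have h2 : φ ⟨c, hcL⟩ * φ ⟨x, hxL⟩ * (φ ⟨c, hcL⟩)⁻¹ ∈ T' := by
    rw [← hγT]
    exact ⟨φ ⟨x, hxL⟩, mem_im.2 ⟨x, hx, hxL, rfl⟩, rfl⟩
  have h3 := hv _ h2
  rw [← map_inv, ← map_mul, ← map_mul, t.fix] at h3
  exact h3

/-- **The hypotheses `Small.Hyp`.** -/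
theorem hyp (t : Tr (S : Subgroup G) ι φ) (h : ESit S) {H E : Subgroup G}
    (hZ : zc (S : Subgroup G) ≤ H) (hHV : H ≤ vv (S : Subgroup G)) (hne : H ≠ vv (S : Subgroup G))
    (hcl : ∀ u ∈ H, u ≠ 1 → cl (S : Subgroup G) u ≤ H) (hES : E ≤ (S : Subgroup G))
    (hEe : IsElementaryAbelian 2 E) (hEH : E ≤ centralizer (H : Set G))
    (hcard : Nat.card (vv (S : Subgroup G)) ≤ 2 * Nat.card H *
      (centralizer (vv (S : Subgroup G) : Set G)).relIndex E)
    (hEne : ¬ E ≤ centralizer (vv (S : Subgroup G) : Set G)) :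
    Small.Hyp φ.range (im φ (S : Subgroup G)) (im φ E) (H.comap ι) := by
  have := t.finite
  have hEL : E ≤ LL (S : Subgroup G) := hES.trans h.le_LL
  refine
    { sq := t.sq
      solv := t.solv h
      o2 := t.o2_eq h
      syl := t.syl h
      le := t.im_mono hES
      Esq := ?_
      Ene := ?_
      ne_top := ?_
      fixT := ?_
      fix := ?_
      index := ?_
      nofix := ?_
      closed := ?_ }
  · intro f hf
    obtain ⟨x, hx, hxL, rfl⟩ := mem_im.1 hf
    rw [← map_mul, ← map_one φ]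
    refine congrArg φ (Subtype.ext ?_)
    change x * x = 1
    rw [← pow_two]
    exact (isElementaryAbelian_iff.1 hEe).2 x hx
  · intro h0
    apply hEne
    intro x hx
    have h1 : φ ⟨x, hEL hx⟩ ∈ im φ E := mem_im.2 ⟨x, hx, hEL hx, rfl⟩
    rw [h0, mem_bot] at h1
    exact t.ker.1 h1
  · intro h0
    apply hne
    rw [← t.map_comap hHV, h0, t.map_range]
  · intro v hv
    refine hZ (h.mem_zc_of_comm (t.mem v) fun s hs => ?_)
    exact t.fix.1 (hv _ (mem_im.2 ⟨s, hs, h.le_LL hs, rfl⟩))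
  · intro f hf v hv
    obtain ⟨x, hx, hxL, rfl⟩ := mem_im.1 hf
    exact t.fix.2 (mem_centralizer_iff.1 (hEH hx) _ hv).symm
  · have h1 := card_mul_index (H.comap ι)
    rw [t.card_comap hHV, t.card_eq] at h1
    rw [t.card_im hEL]
    have h2 : 0 < Nat.card H := Nat.card_pos
    refine Nat.le_of_mul_le_mul_left (c := Nat.card H) ?_ h2
    rw [h1]
    calc _ ≤ _ := hcard
      _ = _ := by ring
  · intro v hv
    refine t.inj ?_
    rw [map_one]
    refine h.eq_one_of_comm (t.mem v) fun g hg => ?_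
    exact t.fix.1 (hv _ ⟨⟨g, hg⟩, rfl⟩)
  · intro u hu hu1 T' hT' v hv
    exact hcl _ hu (t.ne_one hu1) (t.mem_cl_of_syl h hu1 hT' hv)

end Tr

end Cfsg.Agent.MinSimple.EmptyE.Trans
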