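import Cfsg.Agent.MinSimple.EmptyE.ToOm

/-!
# The case "(Empty)", case (X): the input

`XIn S V z`: `vv S = V 0 × V 1`, `|V i| = 4`, `L = N_G(vv S)` permutes the `V i`, `Ω₁(Z(S)) = ⟨z⟩`, `z ∉ V i`,
`L` contains elements fixed point free on `V i`, trivial on the other factor (`ToOm.Pre`); the group `T` induced
by `S` on `vv S` is elementary abelian of order at most 4 without transvections.
(`blueprints/P21-Empty-X-helper420.md`)
-/

set_option autoImplicit false

namespace Cfsg.Agent.MinSimple.EmptyE.XDefs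

open Subgroup Cfsg Cfsg.Agent.ZN Cfsg.Agent.ZN.ChoiceSit
open Cfsg.Agent.MinSimple.EmptySix

universe u

/-- The input of case (X). -/
structure XIn {G : Type u} [Group G] (S : Subgroup G) (V : Fin 2 → Subgroup G) (z : G) : Prop
    extends ToOm.Pre S V z where
  idx : (centralizer (vv S : Set G)).relIndex S ≤ 4
  sqT : ∀ s ∈ S, ∀ v ∈ vv S, s * s * v = v * (s * s)
  ntv : ∀ s ∈ S, s ∉ centralizer (vv S : Set G) →
    Nat.card (vv S ⊓ centralizer ({s} : Set G) : Subgroup G) ≤ 4

end Cfsg.Agent.MinSimple.EmptyE.XDefs
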