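import Cfsg.Agent.MinSimple.EmptyE.XDefs
import Cfsg.Agent.PLocal.ElemAbSup

/-!
# The case "(Empty)", case (X): the action of `L` on `V = V 0 × V 1`
-/

set_option autoImplicit false

namespace Cfsg.Agent.MinSimple.EmptyE.XLem

open Subgroup Cfsg Cfsg.Agent.ZN Cfsg.Agent.ZN.ChoiceSit
open Cfsg.Agent.ZN.ChoiceBase (cj mem_cj cj_cj cj_one cj_inv_cj cj_cj_inv cj_mono cj_le_iff
  mem_normalizer_iff_cj cj_inf cj_normalizer cj_centralizer card_cj cj_eq_of_mem_normalizer)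
open Cfsg.Agent.MinSimple.EmptyTI Cfsg.Agent.MinSimple.EmptySix
open Cfsg.Agent.MinSimple.EmptyE.Closed
open Cfsg.Agent.MinSimple.EmptyE.ToOm (Pre V_le eq_of_mem norm_of_fix fix_all mem_of_mem)
open Cfsg.Agent.MinSimple.EmptyE.XDefs (XIn)

universe u

variable {G : Type u} [Group G] {S : Sylow 2 G} {V : Fin 2 → Subgroup G} {z : G}

/-! ### `V = V i × V j` -/

theorem sup_eq (o : Pre (S : Subgroup G) V z) {i j : Fin 2} (hij : i ≠ j) :
    V i ⊔ V j = vv (S : Subgroup G) := by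
  rw [← o.sup]
  apply le_antisymm
  · exact sup_le (le_iSup V i) (le_iSup V j)
  · refine iSup_le fun k => ?_
    have : k = i ∨ k = j := by omega
    rcases this with rfl | rfl
    · exact le_sup_left
    · exact le_sup_right

theorem inf_eq (o : Pre (S : Subgroup G) V z) {i j : Fin 2} (hij : i ≠ j) : V i ⊓ V j = ⊥ := by
  rw [eq_bot_iff]
  rintro v ⟨hi, hj⟩
  rw [mem_bot]
  by_contra hv
  exact hij (eq_of_mem o hi hj hv)

variable [Finite G]

theorem comm (o : Pre (S : Subgroup G) V z) (i j : Fin 2) {v w : G} (hv : v ∈ V i) (hw : w ∈ V j) :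
    v * w = w * v := vv_comm (V_le o i hv) (V_le o j hw)

theorem sq (o : Pre (S : Subgroup G) V z) (i : Fin 2) {v : G} (hv : v ∈ V i) : v * v = 1 :=
  vv_mul_self (V_le o i hv)

theorem sq' (o : Pre (S : Subgroup G) V z) (i : Fin 2) : ∀ v ∈ V i, v ^ 2 = 1 := fun _ hv =>
  vv_sq (V_le o i hv)

theorem card_mul (H K : Subgroup G) (hH : H ≤ vv (S : Subgroup G)) (hK : K ≤ vv (S : Subgroup G)) :
    Nat.card (H ⊔ K : Subgroup G) * Nat.card (H ⊓ K : Subgroup G) = Nat.card H * Nat.card K := by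
  refine PLocal.ElemAbSup.card_sup_mul_card_inf fun k hk => ?_
  rw [mem_centralizer_iff]
  exact fun x hx => vv_comm (hH hx) (hK hk)

theorem card_vv (o : Pre (S : Subgroup G) V z) : Nat.card (vv (S : Subgroup G)) = 16 := by
  have h1 := card_mul (V 0) (V 1) (V_le o 0) (V_le o 1)
  rwa [sup_eq o (by omega), o.disj, card_bot, mul_one, o.card, o.card] at h1

theorem mem_sup' {H K : Subgroup G} (hH : H ≤ vv (S : Subgroup G)) (hK : K ≤ vv (S : Subgroup G)) {v : G}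
    (hv : v ∈ H ⊔ K) : ∃ a ∈ H, ∃ b ∈ K, a * b = v := by
  have h1 : K ≤ centralizer (H : Set G) := fun k hk => by
    rw [mem_centralizer_iff]
    exact fun x hx => vv_comm (hH hx) (hK hk)
  have h2 : (v : G) ∈ ((H ⊔ K : Subgroup G) : Set G) := hv
  rw [PLocal.ElemAbSup.coe_sup_of_le_centralizer h1] at h2
  obtain ⟨a, ha, b, hb, rfl⟩ := h2
  exact ⟨a, ha, b, hb, rfl⟩

theorem decomp (o : Pre (S : Subgroup G) V z) {i j : Fin 2} (hij : i ≠ j) {v : G}
    (hv : v ∈ vv (S : Subgroup G)) : ∃ a ∈ V i, ∃ b ∈ V j, a * b = v := by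
  rw [← sup_eq o hij] at hv
  exact mem_sup' (V_le o i) (V_le o j) hv

theorem uniq (o : Pre (S : Subgroup G) V z) {i j : Fin 2} (hij : i ≠ j) {a a' b b' : G} (ha : a ∈ V i)
    (ha' : a' ∈ V i) (hb : b ∈ V j) (hb' : b' ∈ V j) (h : a * b = a' * b') : a = a' ∧ b = b' := by
  have h1 : a'⁻¹ * a = b' * b⁻¹ := by
    rw [inv_mul_eq_iff_eq_mul, ← mul_assoc, ← h, mul_inv_cancel_right]
  have h2 : a'⁻¹ * a ∈ V i ⊓ V j :=
    mem_inf.2 ⟨mul_mem (inv_mem ha') ha, by rw [h1]; exact mul_mem hb' (inv_mem hb)⟩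
  rw [inf_eq o hij, mem_bot, inv_mul_eq_one] at h2
  rw [← h2] at h
  exact ⟨h2.symm, mul_left_cancel h⟩

/-- Projection: every `v ∈ V i` is the `i`-component of an element of `Y`. -/
theorem proj (o : Pre (S : Subgroup G) V z) {Y : Subgroup G} (hY : Y ≤ vv (S : Subgroup G))
    (hYc : Nat.card Y = 4) (j : Fin 2) (hYj : Y ⊓ V j = ⊥) : Y ⊔ V j = vv (S : Subgroup G) := by
  have h1 := card_mul Y (V j) hY (V_le o j)
  rw [hYj, card_bot, mul_one, hYc, o.card] at h1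
  have h0 : Finite (vv (S : Subgroup G)) := Nat.finite_of_card_ne_zero (by rw [card_vv o]; norm_num)
  refine Subgroup.eq_of_le_of_card_ge (sup_le hY (V_le o j)) ?_
  rw [card_vv o, h1]

theorem proj' (o : Pre (S : Subgroup G) V z) {Y : Subgroup G} (hY : Y ≤ vv (S : Subgroup G))
    (hYc : Nat.card Y = 4) (j : Fin 2) (hYj : Y ⊓ V j = ⊥) {v : G} (hv : v ∈ vv (S : Subgroup G)) :
    ∃ w ∈ V j, v * w ∈ Y := by
  rw [← proj o hY hYc j hYj] at hv
  obtain ⟨y, hy, w, hw, rfl⟩ := mem_sup' hY (V_le o j) hv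
  refine ⟨w⁻¹, inv_mem hw, ?_⟩
  rwa [mul_inv_cancel_right]

/-! ### The elements of `L` -/

/-- An element of `L` normalizes both `V i` or swaps them. -/
theorem dich (o : Pre (S : Subgroup G) V z) {g : G} (hg : g ∈ LL (S : Subgroup G)) :
    (∀ i, cj g (V i) = V i) ∨ ∀ i j, i ≠ j → cj g (V i) = V j := by
  by_cases h : ∃ i, cj g (V i) = V i
  · obtain ⟨i, hi⟩ := h
    exact Or.inl (fix_all o hg hi)
  · right
    push Not at h
    intro i j hij
    obtain ⟨k, hk⟩ := o.perm g hg i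
    have : k = j := by
      by_contra hkj
      have hki : k = i := by omega
      rw [hki] at hk
      exact h i hk
    rw [hk, this]

theorem conj_mem_of (g : G) {H K : Subgroup G} (h : cj g H = K) {v : G} (hv : v ∈ H) : g * v * g⁻¹ ∈ K := by
  rw [← h]
  exact ⟨v, hv, rfl⟩

/-- An element centralizing `Y` and normalizing the `V i` centralizes `V`. -/
theorem act_fix (o : Pre (S : Subgroup G) V z) {Y : Subgroup G} (hY : Y ≤ vv (S : Subgroup G))
    (hYc : Nat.card Y = 4) (hYj : ∀ j, Y ⊓ V j = ⊥) {e : G} (he : e ∈ centralizer (Y : Set G))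
    (hfix : ∀ i, cj e (V i) = V i) : e ∈ centralizer (vv (S : Subgroup G) : Set G) := by
  have key : ∀ i, ∀ v ∈ V i, e * v * e⁻¹ = v := by
    intro i v hv
    obtain ⟨j, hij⟩ := ToOm.exists_ne i
    obtain ⟨w, hw, hvw⟩ := proj' o hY hYc j (hYj j) (V_le o i hv)
    have h1 : (e * v * e⁻¹) * (e * w * e⁻¹) = v * w := by
      have h2 := mem_centralizer_iff.1 he _ hvw
      calc (e * v * e⁻¹) * (e * w * e⁻¹) = e * (v * w) * e⁻¹ := by group
        _ = v * w := by rw [← h2, mul_inv_cancel_right]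
    exact (uniq o hij (conj_mem_of e (hfix i) hv) hv (conj_mem_of e (hfix j) hw) hw h1).1
  have h2 : vv (S : Subgroup G) ≤ centralizer ({e} : Set G) := by
    rw [← sup_eq o (show (0 : Fin 2) ≠ 1 by omega)]
    refine sup_le (fun v hv => ?_) (fun v hv => ?_) <;> rw [mem_centralizer_singleton_iff]
    · exact (Four.conj_eq_iff_comm.1 (key 0 v hv)).symm
    · exact (Four.conj_eq_iff_comm.1 (key 1 v hv)).symm
  rw [mem_centralizer_iff]
  exact fun v hv => mem_centralizer_singleton_iff.1 (h2 hv)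

/-- An element centralizing `Y` and swapping the `V i`. -/
theorem act_swap (o : Pre (S : Subgroup G) V z) {Y : Subgroup G} (hY : Y ≤ vv (S : Subgroup G))
    (hYc : Nat.card Y = 4) (hYj : ∀ j, Y ⊓ V j = ⊥) {e : G} (he : e ∈ centralizer (Y : Set G))
    (hswap : ∀ i j, i ≠ j → cj e (V i) = V j) {v : G} (hv : v ∈ vv (S : Subgroup G)) :
    e * v * e⁻¹ * v⁻¹ ∈ Y ∧ (e * v = v * e → v ∈ Y) := by
  have h01 : (0 : Fin 2) ≠ 1 := by omega
  rw [← proj o hY hYc 0 (hYj 0)] at hv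
  obtain ⟨y, hy, v₀, hv₀, rfl⟩ := mem_sup' hY (V_le o 0) hv
  obtain ⟨w, hw, hvw⟩ := proj' o hY hYc 1 (hYj 1) (V_le o 0 hv₀)
  have hey : e * y * e⁻¹ = y := by
    rw [← mem_centralizer_iff.1 he y hy, mul_inv_cancel_right]
  have hc1 : e * v₀ * e⁻¹ ∈ V 1 := conj_mem_of e (hswap 0 1 h01) hv₀
  have hc2 : e * w * e⁻¹ ∈ V 0 := conj_mem_of e (hswap 1 0 h01.symm) hw
  have h1 : (e * w * e⁻¹) * (e * v₀ * e⁻¹) = v₀ * w := by
    have h2 := mem_centralizer_iff.1 he _ hvw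
    have h3 := comm o 0 1 hv₀ hw
    calc (e * w * e⁻¹) * (e * v₀ * e⁻¹) = e * (w * v₀) * e⁻¹ := by group
      _ = e * (v₀ * w) * e⁻¹ := by rw [h3]
      _ = v₀ * w := by rw [← h2, mul_inv_cancel_right]
  have h2 : e * v₀ * e⁻¹ = w := (uniq o h01 hc2 hv₀ hc1 hw h1).2
  have hi : v₀⁻¹ = v₀ := vv_inv (V_le o 0 hv₀)
  have h3 : e * (y * v₀) * e⁻¹ * (y * v₀)⁻¹ = v₀ * w := by
    have h4 := vv_comm (hY hy) (V_le o 1 hw)
    have h5 := comm o 0 1 hv₀ hw
    calc e * (y * v₀) * e⁻¹ * (y * v₀)⁻¹ = (e * y * e⁻¹) * (e * v₀ * e⁻¹) * v₀⁻¹ * y⁻¹ := by group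
      _ = y * (w * v₀) * y⁻¹ := by rw [hey, h2, hi]; group
      _ = y * (v₀ * w) * y⁻¹ := by rw [h5]
      _ = v₀ * w := by
        have h6 := vv_comm (hY hy) (mul_mem (V_le o 0 hv₀) (V_le o 1 hw))
        rw [h6, mul_inv_cancel_right]
  refine ⟨by rw [h3]; exact hvw, fun hc => ?_⟩
  have h4 : v₀ * w = 1 := by
    rw [← h3, hc, mul_inv_cancel_right, mul_inv_cancel]
  have h5 : v₀ = w⁻¹ := eq_inv_of_mul_eq_one_left h4
  have h6 : v₀ ∈ V 0 ⊓ V 1 := mem_inf.2 ⟨hv₀, by rw [h5]; exact inv_mem hw⟩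
  rw [o.disj, mem_bot] at h6
  rw [h6, mul_one]
  exact hy

/-- `L` is transitive on the nontrivial elements of `V i`, fixing the other factor. -/
theorem trans (o : Pre (S : Subgroup G) V z) (i : Fin 2) {a b : G} (ha : a ∈ V i) (ha1 : a ≠ 1)
    (hb : b ∈ V i) (hb1 : b ≠ 1) :
    ∃ l ∈ LL (S : Subgroup G), l * a * l⁻¹ = b ∧ ∀ j, j ≠ i → ∀ v ∈ V j, l * v = v * l := by
  obtain ⟨d, hd, hdf, hdj⟩ := o.d i
  obtain ⟨j, hij⟩ := ToOm.exists_ne i
  obtain ⟨w, hw, hw1, -⟩ := Four.exists_other (o.card j) 1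
  have hdV : cj d (V i) = V i := norm_of_fix o hd hw hw1 (hdj j hij.symm w hw) i
  have hdn : ∀ v ∈ V i, d * v * d⁻¹ ∈ V i := fun v hv => conj_mem_of d hdV hv
  have hne : ∀ v ∈ V i, v ≠ 1 → d * v * d⁻¹ ≠ v := fun v hv hv1 h0 =>
    hv1 (hdf v hv (Four.conj_eq_iff_comm.1 h0))
  have h1 := hdn a ha
  have h11 : d * a * d⁻¹ ≠ 1 := fun h0 => ha1 (conj_eq_one_iff.1 h0)
  have hall := Four.four (o.card i) (sq' o i) ha h1 ha1 h11 (hne a ha ha1).symm
  have h2 := hdn _ h1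
  have h21 : d * (d * a * d⁻¹) * d⁻¹ ≠ 1 := fun h0 => h11 (conj_eq_one_iff.1 h0)
  have h3 : d * (d * a * d⁻¹) * d⁻¹ = a * (d * a * d⁻¹) := by
    rcases hall _ h2 with h | h | h | h
    · exact absurd h h21
    · exfalso
      have h4 : d * (a * (d * a * d⁻¹)) * d⁻¹ = a * (d * a * d⁻¹) := by
        calc d * (a * (d * a * d⁻¹)) * d⁻¹ = (d * a * d⁻¹) * (d * (d * a * d⁻¹) * d⁻¹) := by group
          _ = (d * a * d⁻¹) * a := by rw [h]
          _ = a * (d * a * d⁻¹) := comm o i i h1 ha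
      have h5 := hdf _ (mul_mem ha h1) (Four.conj_eq_iff_comm.1 h4)
      apply hne a ha ha1
      calc d * a * d⁻¹ = (a * a) * (d * a * d⁻¹) := by rw [sq o i ha, one_mul]
        _ = a * (a * (d * a * d⁻¹)) := by group
        _ = a := by rw [h5, mul_one]
    · exact absurd h (hne _ h1 h11)
    · exact h
  rcases hall b hb with h | h | h | h
  · exact absurd h hb1
  · exact ⟨1, one_mem _, by rw [h]; group, fun j _ v _ => by rw [one_mul, mul_one]⟩
  · exact ⟨d, hd, h.symm, hdj⟩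
  · refine ⟨d * d, mul_mem hd hd, ?_, fun j hj v hv => ?_⟩
    · rw [h, ← h3]; group
    · have := hdj j hj v hv
      calc d * d * v = d * (d * v) := mul_assoc _ _ _
        _ = d * (v * d) := by rw [this]
        _ = (d * v) * d := (mul_assoc _ _ _).symm
        _ = (v * d) * d := by rw [this]
        _ = v * (d * d) := mul_assoc _ _ _

/-- Elements outside `V 0 ∪ V 1` are conjugate to `z`. -/
theorem conj_z (o : Pre (S : Subgroup G) V z) {u : G} (hu : u ∈ vv (S : Subgroup G)) (h0 : u ∉ V 0)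
    (h1 : u ∉ V 1) : ∃ l ∈ LL (S : Subgroup G), l * z * l⁻¹ = u := by
  have h01 : (0 : Fin 2) ≠ 1 := by omega
  obtain ⟨a, ha, b, hb, rfl⟩ := decomp o h01 hu
  obtain ⟨z₀, hz₀, z₁, hz₁, hz⟩ := decomp o h01 (zc_le_vv _ o.z_mem)
  have ha1 : a ≠ 1 := by rintro rfl; rw [one_mul] at h1; exact h1 hb
  have hb1 : b ≠ 1 := by rintro rfl; rw [mul_one] at h0; exact h0 ha
  have hz₀1 : z₀ ≠ 1 := by
    rintro rfl
    rw [one_mul] at hz
    exact o.z_not 1 (hz ▸ hz₁)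
  have hz₁1 : z₁ ≠ 1 := by
    rintro rfl
    rw [mul_one] at hz
    exact o.z_not 0 (hz ▸ hz₀)
  obtain ⟨l, hl, hla, hlj⟩ := trans o 0 hz₀ hz₀1 ha ha1
  obtain ⟨m, hm, hmb, hmj⟩ := trans o 1 hz₁ hz₁1 hb hb1
  refine ⟨l * m, mul_mem hl hm, ?_⟩
  have e1 : m * z₀ * m⁻¹ = z₀ := Four.conj_eq_iff_comm.2 (hmj 0 h01 z₀ hz₀)
  have e2 : l * b * l⁻¹ = b := Four.conj_eq_iff_comm.2 (hlj 1 h01.symm b hb)
  calc l * m * z * (l * m)⁻¹ = l * (m * z₀ * m⁻¹) * l⁻¹ * (l * (m * z₁ * m⁻¹) * l⁻¹) := by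
        rw [← hz]; group
    _ = a * b := by rw [e1, hmb, hla, e2]

/-- The lines through `z` are normalized by `S`. -/
theorem conj_line (h : ESit S) (o : XIn (S : Subgroup G) V z) {Y : Subgroup G} (hY : Y ≤ vv (S : Subgroup G))
    (hz : z ∈ Y) (hYj : ∀ j, Y ⊓ V j = ⊥) {s : G} (hs : s ∈ (S : Subgroup G)) {v : G} (hv : v ∈ Y) :
    s * v * s⁻¹ ∈ Y := by
  have h01 : (0 : Fin 2) ≠ 1 := by omega
  have p : Pre (S : Subgroup G) V z := o.toPre
  have hsz : s * z = z * s := (ChoiceBase.mem_zc.1 p.z_mem).2.2 s hs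
  have hsz' : s * z * s⁻¹ = z := Four.conj_eq_iff_comm.2 hsz
  have hsL : s ∈ LL (S : Subgroup G) := h.le_LL hs
  by_cases hv1 : v = 1
  · rw [hv1]
    have : s * 1 * s⁻¹ = 1 := by group
    rw [this]; exact one_mem _
  by_cases hvz : v = z
  · rw [hvz, hsz']; exact hz
  obtain ⟨a, ha, b, hb, hab⟩ := decomp p h01 (hY hv)
  obtain ⟨z₀, hz₀, z₁, hz₁, hzz⟩ := decomp p h01 (hY hz)
  have hno : ∀ j, ∀ x ∈ Y, x ∈ V j → x = 1 := fun j x hx hxj => by
    have : x ∈ Y ⊓ V j := ⟨hx, hxj⟩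
    rwa [hYj, mem_bot] at this
  have ha1 : a ≠ 1 := by
    rintro rfl; rw [one_mul] at hab; exact hv1 (hno 1 v hv (hab ▸ hb))
  have hb1 : b ≠ 1 := by
    rintro rfl; rw [mul_one] at hab; exact hv1 (hno 0 v hv (hab ▸ ha))
  have hz₀1 : z₀ ≠ 1 := by
    rintro rfl
    rw [one_mul] at hzz
    exact p.z_not 1 (hzz ▸ hz₁)
  have hz₁1 : z₁ ≠ 1 := by
    rintro rfl
    rw [mul_one] at hzz
    exact p.z_not 0 (hzz ▸ hz₀)
  have haz : z₀ ≠ a := by
    rintro rfl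
    have h1 : v * z⁻¹ = b * z₁⁻¹ := by
      have h2 := comm p 1 1 hb (inv_mem hz₁)
      calc v * z⁻¹ = z₀ * (b * z₁⁻¹) * z₀⁻¹ := by rw [← hab, ← hzz]; group
        _ = b * z₁⁻¹ := by
          rw [comm p 0 1 hz₀ (mul_mem hb (inv_mem hz₁)), mul_inv_cancel_right]
    have h2 : v * z⁻¹ = 1 := hno 1 _ (mul_mem hv (inv_mem hz)) (by rw [h1]; exact mul_mem hb (inv_mem hz₁))
    exact hvz (mul_inv_eq_one.1 h2)
  have hbz : z₁ ≠ b := by
    rintro rfl
    have h1 : v * z⁻¹ = a * z₀⁻¹ := by rw [← hab, ← hzz]; group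
    have h2 : v * z⁻¹ = 1 := hno 0 _ (mul_mem hv (inv_mem hz)) (by rw [h1]; exact mul_mem ha (inv_mem hz₀))
    exact hvz (mul_inv_eq_one.1 h2)
  have hsv : s * v * s⁻¹ = (s * a * s⁻¹) * (s * b * s⁻¹) := by rw [← hab]; group
  rcases dich p hsL with hfix | hswap
  · have f0 : s * z₀ * s⁻¹ ∈ V 0 := conj_mem_of s (hfix 0) hz₀
    have f1 : s * z₁ * s⁻¹ ∈ V 1 := conj_mem_of s (hfix 1) hz₁
    have hu := uniq p h01 f0 hz₀ f1 hz₁ (by
      calc s * z₀ * s⁻¹ * (s * z₁ * s⁻¹) = s * (z₀ * z₁) * s⁻¹ := by group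
        _ = z₀ * z₁ := by rw [hzz, hsz'])
    have n0 : s ∈ normalizer (V 0 : Set G) := mem_normalizer_iff_cj.2 (hfix 0)
    have n1 : s ∈ normalizer (V 1 : Set G) := mem_normalizer_iff_cj.2 (hfix 1)
    -- no transvections
    have hntv : ∀ i j : Fin 2, i ≠ j → (∃ x ∈ V i, ∃ y ∈ V i, x ≠ 1 ∧ y ≠ 1 ∧ x ≠ y ∧
        s * x * s⁻¹ = x ∧ s * y * s⁻¹ = y) → (∃ y ∈ V j, s * y * s⁻¹ ≠ y) →
        (∃ y ∈ V j, y ≠ 1 ∧ s * y * s⁻¹ = y) → False := by
      rintro i j hij ⟨x, hx, y, hy, hx1, hy1, hxy, hsx, hsy⟩ ⟨w, hw, hw'⟩ ⟨y', hy', hy1', hsy'⟩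
      have h1 : s ∉ centralizer (vv (S : Subgroup G) : Set G) := fun h0 => hw' (by
        rw [← mem_centralizer_iff.1 h0 w (V_le p j hw), mul_inv_cancel_right])
      have h2 := o.ntv s hs h1
      have h3 : V i ≤ vv (S : Subgroup G) ⊓ centralizer ({s} : Set G) := by
        intro v hv
        refine mem_inf.2 ⟨V_le p i hv, ?_⟩
        rw [mem_centralizer_singleton_iff]
        have h4 := Four.cent_of_two (p.card i) (sq' p i) hx hy hx1 hy1 hxy hsx hsy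
        exact mem_centralizer_iff.1 h4 v hv
      have h0 : Finite (vv (S : Subgroup G) ⊓ centralizer ({s} : Set G) : Subgroup G) := inferInstance
      have h4 : V i = vv (S : Subgroup G) ⊓ centralizer ({s} : Set G) :=
        Subgroup.eq_of_le_of_card_ge h3 (by rw [p.card]; exact h2)
      have h5 : y' ∈ V i := by
        rw [h4]
        refine mem_inf.2 ⟨V_le p j hy', ?_⟩
        rw [mem_centralizer_singleton_iff]
        exact (Four.conj_eq_iff_comm.1 hsy').symm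
      exact hij (eq_of_mem p h5 hy' hy1')
    rcases Four.fix_dichotomy (p.card 0) (sq' p 0) hz₀ ha hz₀1 ha1 haz n0 hu.1 with h1 | h1
    · rcases Four.fix_dichotomy (p.card 1) (sq' p 1) hz₁ hb hz₁1 hb1 hbz n1 hu.2 with h2 | h2
      · rw [hsv, h1, h2, hab]; exact hv
      · exfalso
        exact hntv 0 1 h01 ⟨z₀, hz₀, a, ha, hz₀1, ha1, haz, hu.1, h1⟩
          ⟨b, hb, fun h0 => hz₁1 (by rw [h0] at h2; exact (mul_eq_right.1 h2.symm))⟩
          ⟨z₁, hz₁, hz₁1, hu.2⟩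
    · rcases Four.fix_dichotomy (p.card 1) (sq' p 1) hz₁ hb hz₁1 hb1 hbz n1 hu.2 with h2 | h2
      · exfalso
        exact hntv 1 0 h01.symm ⟨z₁, hz₁, b, hb, hz₁1, hb1, hbz, hu.2, h2⟩
          ⟨a, ha, fun h0 => hz₀1 (by rw [h0] at h1; exact (mul_eq_right.1 h1.symm))⟩
          ⟨z₀, hz₀, hz₀1, hu.1⟩
      · have h3 : s * v * s⁻¹ = z * v := by
          rw [hsv, h1, h2, ← hab, ← hzz]
          have h4 := comm p 0 1 ha hz₁
          calc z₀ * a * (z₁ * b) = z₀ * (a * z₁) * b := by group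
            _ = z₀ * (z₁ * a) * b := by rw [h4]
            _ = z₀ * z₁ * (a * b) := by group
        rw [h3]; exact mul_mem hz hv
  · have f0 : s * z₀ * s⁻¹ ∈ V 1 := conj_mem_of s (hswap 0 1 h01) hz₀
    have f1 : s * z₁ * s⁻¹ ∈ V 0 := conj_mem_of s (hswap 1 0 h01.symm) hz₁
    have hu := uniq p h01 f1 hz₀ f0 hz₁ (by
      calc s * z₁ * s⁻¹ * (s * z₀ * s⁻¹) = s * (z₁ * z₀) * s⁻¹ := by group
        _ = s * (z₀ * z₁) * s⁻¹ := by rw [comm p 1 0 hz₁ hz₀]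
        _ = z₀ * z₁ := by rw [hzz, hsz'])
    have fa : s * a * s⁻¹ ∈ V 1 := conj_mem_of s (hswap 0 1 h01) ha
    have hsq : s * (s * a * s⁻¹) * s⁻¹ = a := by
      have h1 := o.sqT s hs a (V_le p 0 ha)
      calc s * (s * a * s⁻¹) * s⁻¹ = (s * s * a) * (s * s)⁻¹ := by group
        _ = a := by rw [h1, mul_inv_cancel_right]
    rcases Four.four (p.card 1) (sq' p 1) hz₁ hb hz₁1 hb1 hbz _ fa with h1 | h1 | h1 | h1
    · exact absurd (conj_eq_one_iff.1 h1) ha1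
    · exfalso
      rw [← hu.2] at h1
      exact haz (mul_left_cancel (mul_right_cancel h1)).symm
    · rw [h1] at hsq
      rw [hsv, h1, hsq, comm p 1 0 hb ha, hab]
      exact hv
    · rw [h1] at hsq
      have h2 : z₀ * (s * b * s⁻¹) = a := by
        rw [← hsq]
        calc z₀ * (s * b * s⁻¹) = (s * z₁ * s⁻¹) * (s * b * s⁻¹) := by rw [hu.1]
          _ = s * (z₁ * b) * s⁻¹ := by group
      have h3 : s * b * s⁻¹ = z₀ * a := by
        rw [← h2, ← mul_assoc, sq p 0 hz₀, one_mul]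
      have h4 : s * v * s⁻¹ = z * v := by
        rw [hsv, h1, h3, ← hab, ← hzz]
        have e1 := comm p 1 0 hb (mul_mem hz₀ ha)
        have e2 := comm p 0 1 (mul_mem hz₀ ha) hz₁
        calc z₁ * b * (z₀ * a) = z₁ * (b * (z₀ * a)) := mul_assoc _ _ _
          _ = z₁ * ((z₀ * a) * b) := by rw [e1]
          _ = (z₁ * z₀) * (a * b) := by group
          _ = z₀ * z₁ * (a * b) := by rw [comm p 1 0 hz₁ hz₀]
      rw [h4]; exact mul_mem hz hv

end Cfsg.Agent.MinSimple.EmptyE.XLem
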