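import Cfsg.Agent.MinSimple.EmptyE.MaxLocal

/-!
# Theorem E, the case (X): the exit `Geo S V z` with `Mp z M`

`StepX S A B z`: two `S`-invariant four-groups `A ≠ B` of `vv S` containing `z`, `⟨z⟩ = zc S`, whose normalizers
move `z`. If `|vv S| = 16` and there is no closed hyperplane of `vv S`, one of them is a line of a geometry `Geo S V z`, and
`Mp z M` holds. The output `OutE S` (`∃ V z M, Geo S V z ∧ Mp z M`) is also the one of step 4 and of `|vv S| = 4`.
-/

set_option autoImplicit false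
set_option linter.unusedSectionVars false

namespace Cfsg.Agent.MinSimple.EmptyE.XMp

open Subgroup Cfsg Cfsg.Agent.ZN Cfsg.Agent.ZN.ChoiceBase Cfsg.Agent.ZN.ChoiceSit
open Cfsg.Agent.MinSimple.EmptyTI Cfsg.Agent.MinSimple.EmptySix
open Cfsg.Agent.MinSimple.EmptyE.Closed

universe u

variable {G : Type u} [Group G]

/-- the output of Theorem E -/
def OutE (S : Subgroup G) : Prop :=
  ∃ (V : Subgroup G) (z : G) (M : Subgroup G), Geo.Geo S V z ∧ OddMp.Mp z M

/-- the case (X) in `G` -/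
structure StepX (S : Subgroup G) (A B : Subgroup G) (z : G) : Prop where
  z_mem : z ∈ zc S
  z_ne : z ≠ 1
  Z : ∀ x ∈ zc S, x = 1 ∨ x = z
  leA : A ≤ vv S
  leB : B ≤ vv S
  cardA : Nat.card A = 4
  cardB : Nat.card B = 4
  ne : A ≠ B
  memA : z ∈ A
  memB : z ∈ B
  normA : S ≤ normalizer (A : Set G)
  normB : S ≤ normalizer (B : Set G)
  moveA : ∃ g ∈ normalizer (A : Set G), g * z * g⁻¹ ≠ z
  moveB : ∃ g ∈ normalizer (B : Set G), g * z * g⁻¹ ≠ z

variable [Finite G] {S : Sylow 2 G} {I A B : Subgroup G} {z : G}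

/-- **The exit of the case (X).** -/
theorem out_of_stepX (h : ESit S) (h16 : Nat.card (vv (S : Subgroup G)) = 16)
    (hno : ∀ H : Subgroup G, H ≤ vv (S : Subgroup G) →
        (∀ u ∈ H, u ≠ 1 → cl (S : Subgroup G) u ≤ H) →
        Nat.card (vv (S : Subgroup G)) ≠ 2 * Nat.card H)
    (hx : StepX (S : Subgroup G) A B z) : OutE (S : Subgroup G) := by
  obtain ⟨I, hI⟩ := exists_tiData S h.ne_bot h.empty
  have h4 := MaxLocal.card_inf_le_four h hI h16 hno
  have hM := MaxLocal.mp h hI hx.z_mem hx.z_ne h4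
  by_cases hAI : A ≤ I
  · by_cases hBI : B ≤ I
    · exfalso
      apply hx.ne
      have h1 : A = vv (S : Subgroup G) ⊓ I :=
        eq_of_le_of_card_ge (le_inf hx.leA hAI) (by rw [hx.cardA]; exact h4)
      have h2 : B = vv (S : Subgroup G) ⊓ I :=
        eq_of_le_of_card_ge (le_inf hx.leB hBI) (by rw [hx.cardB]; exact h4)
      rw [h1, h2]
    · obtain ⟨g, hg, hgz⟩ := hx.moveB
      exact ⟨B, z, _, Glue.geo h.char2 h.solv hI h.empty hx.z_mem hx.z_ne hx.Z hx.cardB hx.memB hx.normB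
        hg hgz hBI, hM⟩
  · obtain ⟨g, hg, hgz⟩ := hx.moveA
    exact ⟨A, z, _, Glue.geo h.char2 h.solv hI h.empty hx.z_mem hx.z_ne hx.Z hx.cardA hx.memA hx.normA
      hg hgz hAI, hM⟩

/-- Step 4 of Theorem E. -/
theorem step_four (h : ESit S) : OutE (S : Subgroup G) ∨
      ∀ H : Subgroup G, H ≤ vv (S : Subgroup G) →
        (∀ u ∈ H, u ≠ 1 → cl (S : Subgroup G) u ≤ H) →
        Nat.card (vv (S : Subgroup G)) ≠ 2 * Nat.card H := by
  obtain ⟨I, hI⟩ := exists_tiData S h.ne_bot h.empty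
  by_cases hex : ∃ H : Subgroup G, H ≤ vv (S : Subgroup G) ∧
      (∀ u ∈ H, u ≠ 1 → cl (S : Subgroup G) u ≤ H) ∧
      Nat.card (vv (S : Subgroup G)) = 2 * Nat.card H
  · left
    obtain ⟨H, hH, hcl, hcard⟩ := hex
    obtain ⟨l, z, -, -, hg⟩ := Four.four h hI hH hcard hcl
    exact ⟨l, z, _, hg, MaxLocal.mp h hI (MaxLocal.mem_zc_of_geo hg) hg.z_ne
      ((MaxLocal.card_inf_le_two h hI hH hcard hcl).trans (by norm_num))⟩
  · right
    intro H hH hcl hcard
    exact hex ⟨H, hH, hcl, hcard⟩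

/-- The output with `Max1 z` is a special case. -/
theorem out_of_max1 (h : ESit S) {V : Subgroup G} (hg : Geo.Geo (S : Subgroup G) V z)
    (hm : OddThreeM.Max1 z) : OutE (S : Subgroup G) := by
  refine ⟨V, z, centralizer ({z} : Set G), hg, le_rfl, ?_, fun R hR hR1 hC => hm z ⟨1, by simp⟩ R hR hR1 hC,
    Or.inl le_rfl⟩
  have hz := ChoiceBase.mem_zc.1 (MaxLocal.mem_zc_of_geo hg)
  refine ⟨zpowers z, IsPGroup.of_card (n := 1) ?_, ?_, ?_⟩
  · rw [Nat.card_zpowers, orderOf_eq_prime hz.2.1 hg.z_ne, pow_one]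
  · rw [Ne, zpowers_eq_bot]; exact hg.z_ne
  · rw [Geo.normalizer_zpowers (by rw [← pow_two]; exact hz.2.1) hg.z_ne]

/-- The case `|vv S| = 4`. -/
theorem out_of_card_four (h : ESit S) (hV : Nat.card (vv (S : Subgroup G)) = 4) : OutE (S : Subgroup G) := by
  obtain ⟨l, z, hg, hm⟩ := MaxLocal.of_card_four' h hV
  exact out_of_max1 h hg hm

end Cfsg.Agent.MinSimple.EmptyE.XMp
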