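import Cfsg.Agent.MinSimple.EmptyE.Plug
import Cfsg.Agent.MinSimple.EmptyE.SmallX
import Cfsg.Agent.MinSimple.EmptyE.XDefs
import Cfsg.Agent.MinSimple.EmptyE.MaxLocal
import Cfsg.Agent.MinSimple.Omega.Final

/-!
# The case (Empty), Theorem E: the cases of step 5, back in `G`

* `in_of_caseX2` : the case (X) in `G`;
* `main_of` : `Geo S l z ∧ Max1 z`, if the case (X) is impossible.
-/

set_option autoImplicit false

namespace Cfsg.Agent.MinSimple.EmptyE.XPlug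

open Subgroup Cfsg Cfsg.Agent.ZN Cfsg.Agent.ZN.ChoiceBase Cfsg.Agent.ZN.ChoiceSit
open Cfsg.Agent.MinSimple.EmptyTI Cfsg.Agent.MinSimple.EmptySix
open Cfsg.Agent.MinSimple.MinParabolic (IsMinPar)
open Cfsg.Agent.MinSimple.EmptyE.Closed Cfsg.Agent.MinSimple.EmptyE.Hyper
open Cfsg.Agent.MinSimple.EmptyE.Small Cfsg.Agent.MinSimple.EmptyMod
open Cfsg.Agent.MinSimple.EmptyE.Plug

universe u

variable {G : Type u} [Group G] [Finite G] {S : Sylow 2 G}

attribute [local instance] YPlugB.vvComm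

/-- The case (X), in `G`. -/
theorem in_of_caseX2 (h : ESit S) {V₁ V₂ : Subgroup (vv (S : Subgroup G))}
    {z : vv (S : Subgroup G)}
    (hX : SmallX.CaseX2 (im (S : Subgroup G) (LL (S : Subgroup G)))
      (im (S : Subgroup G) (S : Subgroup G)) V₁ V₂ z) :
    ∃ V : Fin 2 → Subgroup G, XDefs.XIn (S : Subgroup G) V (z : G) := by
  obtain ⟨V, hV0, hV1⟩ : ∃ V : Fin 2 → Subgroup G, V 0 = V₁.map (vv (S : Subgroup G)).subtype ∧
      V 1 = V₂.map (vv (S : Subgroup G)).subtype := ⟨![_, _], rfl, rfl⟩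
  have hpre : ToOm.Pre (S : Subgroup G) V (z : G) := by
    refine pre_of h hX.ne hX.fixT hX.card₁ hX.card₂ hX.inf hX.sup hX.perm ?_ ?_ hX.not₁ hX.not₂ hV0 hV1
    · obtain ⟨d, hd, h1, -, h2⟩ := hX.d₁
      exact ⟨d, hd, h1, h2⟩
    · obtain ⟨d, hd, h1, -, h2⟩ := hX.d₂
      exact ⟨d, hd, h1, h2⟩
  refine ⟨V, { toPre := hpre, idx := ?_, sqT := ?_, ntv := ?_ }⟩
  · rw [← card_im h.le_LL]
    exact hX.cardT
  · intro s hs v hv
    have h1 := hX.sqT _ (mem_im.2 ⟨s, h.le_LL hs, hs, rfl⟩)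
    rw [← map_mul, act_eq_one_iff] at h1
    exact (mem_centralizer_iff.1 h1 v hv).symm
  · intro s hs hsV
    have h1 := hX.ntv _ (mem_im.2 ⟨s, h.le_LL hs, hs, rfl⟩) fun h0 => hsV (act_eq_one_iff.1 h0)
    have h2 : vv (S : Subgroup G) ⊓ centralizer ({s} : Set G) =
        (fx (act (S : Subgroup G) ⟨s, h.le_LL hs⟩)).map (vv (S : Subgroup G)).subtype := by
      ext v
      rw [mem_inf, mem_centralizer_singleton_iff]
      constructor
      · rintro ⟨hv, hvs⟩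
        exact ⟨⟨v, hv⟩, act_eq_iff.2 hvs.symm, rfl⟩
      · rintro ⟨w, hw, rfl⟩
        exact ⟨w.2, (act_eq_iff.1 hw).symm⟩
    rw [h2, Subgroup.card_map_of_injective (vv (S : Subgroup G)).subtype_injective]
    exact h1

/-- **Theorem E**, up to the case (X). -/
theorem main_of (h : ESit S) (hX : ∀ (V : Fin 2 → Subgroup G) (z : G),
      XDefs.XIn (S : Subgroup G) V z → False) :
    ∃ (l : Subgroup G) (z : G), Geo.Geo (S : Subgroup G) l z ∧ OddThreeM.Max1 z := by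
  rcases MaxLocal.step_four' h with h1 | hno
  · exact h1
  by_contra hcon
  have key : ∀ P : Subgroup G, IsMinPar (S : Subgroup G) P → P ≤ CC (S : Subgroup G) →
      ¬ P ≤ LL (S : Subgroup G) → Nat.card (vv (S : Subgroup G)) = 16 ∧
      ∃ x e, (S : Subgroup G) ⊔ zpowers x = P ∧ YPlug.GY S (hh (S : Subgroup G) x) e := by
    intro P hP hPC hPL
    obtain ⟨x, -, -, -, hgen, hZ, hne, hcl, E, hES, hE, hEc, hcard⟩ := hyper h hP hPC hPL
    have hyp := Plug.hyp h hZ hne hcl hES hE hEc hcard (hno _ inf_le_left hcl)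
    rcases SmallX.main2 hyp with h4 | ⟨h16, ⟨e, hY⟩ | ⟨V₁, V₂, z, hX2⟩ | ⟨V₁, V₂, z, hO⟩⟩
    · exact absurd (MaxLocal.of_card_four' h h4) hcon
    · refine ⟨h16, x, ?_⟩
      obtain ⟨e, he⟩ := YPlugB.gy_of_caseY h (φ := act (S : Subgroup G)) (fun a v => rfl) rfl
        (K := hh (S : Subgroup G) x) inf_le_left hY
      exact ⟨e, hgen, he⟩
    · obtain ⟨V, hV⟩ := in_of_caseX2 h hX2
      exact (hX V _ hV).elim
    · obtain ⟨V, hV⟩ := in_of_caseO h hO
      exact (Omega.Final.false_of_om (ToOm.om h hV)).elim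
  obtain ⟨P, hP, hPC, hPL⟩ := exists_minPar h
  exact YPlug.false_of_all h (key P hP hPC hPL).1 fun P hP hPC hPL => (key P hP hPC hPL).2

end Cfsg.Agent.MinSimple.EmptyE.XPlug
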