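import Cfsg.Agent.MinSimple.EmptyE.YSet

/-!
# The case "(Empty)", Theorem E, Step 6: the lines

`YDat` : `YIn` together with the action of `S` on `V` (`S/C_S(V)` has a unique involution `e`,
`[V, e] = C_V(e) = Y`).

* `centralizer_le_of_card` : `C_G(D) ≤ N_G(V)` for `D ≤ V`, `|D| ≥ 8`;
* `inf_eq` : `V ∩ V^g = Y` if `Y ≤ V^g ≠ V`;
* `exists_cj_V` : the conjugates of `V` containing `Y` are the `V^m`, `m ∈ N_G(Y)`;
* `act_comm`, `act_iff`, `act_mul` : the 2-elements of `N_G(Y) ∩ N_G(V)`;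
* `comm` : `⟨V^{N_G(Y)}⟩` is abelian if `V ≤ O₂(N_G(Y))`;
* `ker` : the kernel of `N_G(Y)` on `{V^m}`; `le_ker` : `O₂(N_G(Y)/ker) = 1`.
-/

set_option autoImplicit false

namespace Cfsg.Agent.MinSimple.EmptyE.YBlock

open Subgroup Cfsg Cfsg.Agent.ZN Cfsg.Agent.ZN.ChoiceBase Cfsg.Agent.ZN.ChoiceSit
open Cfsg.Agent.MinSimple.EmptyTI Cfsg.Agent.MinSimple.EmptySix
open Cfsg.Agent.MinSimple.EmptyE.YSet

universe u

variable {G : Type u} [Group G]

/-- The complete input of Step 6. -/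
structure YDat (S : Sylow 2 G) (V Y : Subgroup G) : Prop extends YIn S V Y where
  solv : Group.IsSolvable (normalizer (Y : Set G))
  /-- the elements of `S` inducing an involution on `V` -/
  act_comm' : ∀ s ∈ (S : Subgroup G), s * s ∈ centralizer (V : Set G) →
    s ∉ centralizer (V : Set G) → ∀ v ∈ V, s * v * s⁻¹ * v⁻¹ ∈ Y
  act_iff' : ∀ s ∈ (S : Subgroup G), s * s ∈ centralizer (V : Set G) →
    s ∉ centralizer (V : Set G) → ∀ v ∈ V, (s * v = v * s ↔ v ∈ Y)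
  act_mul' : ∀ s ∈ (S : Subgroup G), ∀ t ∈ (S : Subgroup G), s * s ∈ centralizer (V : Set G) →
    t * t ∈ centralizer (V : Set G) → s ∉ centralizer (V : Set G) →
    t ∉ centralizer (V : Set G) → s * t ∈ centralizer (V : Set G)
  V1 : ∃ v ∈ V, v ∉ Y ∧ ∀ s ∈ (S : Subgroup G), s * v * s⁻¹ * v⁻¹ ∈ Y

section

variable [Finite G] {S : Sylow 2 G} {V Y : Subgroup G}

/-- Subgroups of `V` of order at least 8 meet `Y`. -/
theorem inf_ne_bot {V A B : Subgroup G} (hV : Nat.card V = 16) (hA : A ≤ V) (hB : B ≤ V)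
    (h1 : 8 ≤ Nat.card A) (h2 : 4 ≤ Nat.card B) : A ⊓ B ≠ ⊥ := by
  intro h0
  have h3 : Nat.card A * Nat.card B ≤ Nat.card V := by
    rw [← Nat.card_prod]
    refine Nat.card_le_card_of_injective
      (fun x : ↥A × ↥B => (⟨x.1 * x.2, mul_mem (hA x.1.2) (hB x.2.2)⟩ : V)) ?_
    rintro ⟨a, b⟩ ⟨a', b'⟩ hab
    have h3 : (a : G) * b = a' * b' := congrArg Subtype.val hab
    have h4 : (a' : G)⁻¹ * a = b' * (b : G)⁻¹ := by
      rw [eq_mul_inv_iff_mul_eq, mul_assoc, h3]; group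
    have h5 : (a' : G)⁻¹ * a ∈ A ⊓ B :=
      mem_inf.2 ⟨mul_mem (inv_mem a'.2) a.2, by rw [h4]; exact mul_mem b'.2 (inv_mem b.2)⟩
    have h6 := h5
    rw [h0, mem_bot] at h5
    rw [h4, h0, mem_bot] at h6
    rw [inv_mul_eq_one] at h5
    rw [mul_inv_eq_one] at h6
    exact Prod.ext (Subtype.ext h5.symm) (Subtype.ext h6.symm)
  rw [hV] at h3
  nlinarith

/-- `J_D = ⟨J^{C_G(D)}⟩` centralizes `V` for `D ≤ V`, `|D| ≥ 8`. -/
theorem jcl_le_of_card (h : YIn S V Y) {D : Subgroup G} (hD : D ≤ V) (h8 : 8 ≤ Nat.card D) :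
    jcl (jj (S : Subgroup G)) (centralizer (D : Set G)) ≤ centralizer (V : Set G) := by
  have h0 : V ≤ centralizer ((jcl (jj (S : Subgroup G)) (centralizer (D : Set G)) :
      Subgroup G) : Set G) := by
    refine h.gen _ fun g hg => ?_
    obtain ⟨⟨u, hu⟩, hu1⟩ := ne_bot_iff_exists_ne_one.1
      (inf_ne_bot h.card_V hD (h.cj_Y_le hg) h8 (by rw [card_cj, h.card_Y]))
    have hu1 : u ≠ 1 := fun h0 => hu1 (Subtype.ext h0)
    have hu2 := mem_cj.1 hu.2
    have hu3 : g⁻¹ * u * g ≠ 1 := by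
      have := cj_ne_one (g := g⁻¹) hu1
      rwa [inv_inv] at this
    have e : g * (g⁻¹ * u * g) * g⁻¹ = u := by group
    have h1 := h.cj_jY (g := g) (u := g⁻¹ * u * g) (by rw [e]; exact hD hu.1) hu2 hu3
    rw [e] at h1
    have h2 : jcl (jj (S : Subgroup G)) (centralizer (D : Set G)) ≤ cj g (jY (S : Subgroup G) Y) := by
      rw [h1]
      exact jcl_mono (centralizer_le (Set.singleton_subset_iff.2 hu.1))
    have h3 := cj_mono g h.jY_le
    rw [cj_centralizer] at h3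
    have h4 := h2.trans h3
    intro y hy
    rw [mem_centralizer_iff]
    intro x hx
    exact (mem_centralizer_iff.1 (h4 hx) y hy).symm
  intro x hx
  rw [mem_centralizer_iff]
  intro v hv
  exact (mem_centralizer_iff.1 (h0 hv) x hx).symm

theorem jj_le_centralizer_of_le (h : YIn S V Y) {D : Subgroup G} (hD : D ≤ V) :
    jj (S : Subgroup G) ≤ centralizer (D : Set G) := by
  intro x hx
  rw [mem_centralizer_iff]
  intro y hy
  exact ((mem_zj.1 (h.V_le (hD hy))).2.2 x hx).symm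

/-- `C_G(D) ≤ N_G(V)` for `D ≤ V`, `|D| ≥ 8`. -/
theorem centralizer_le_of_card (h : YIn S V Y) {D : Subgroup G} (hD : D ≤ V)
    (h8 : 8 ≤ Nat.card D) : centralizer (D : Set G) ≤ normalizer (V : Set G) :=
  (frattini_jcl S (jj_le_centralizer_of_le h hD)).trans (sup_le
    ((jcl_le_of_card h hD h8).trans (centralizer_le_normalizer _)) (inf_le_right.trans h.nj_le))

/-- `V = V^g` if `|V ∩ V^g| ≥ 8`. -/
theorem cj_eq_of_card (h : YIn S V Y) {g : G} (h8 : 8 ≤ Nat.card (V ⊓ cj g V : Subgroup G)) :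
    cj g V = V := by
  have h1 := jj_le_centralizer_of_le h (inf_le_left : V ⊓ cj g V ≤ V)
  have h2 : cj g (jj (S : Subgroup G)) ≤ centralizer ((V ⊓ cj g V : Subgroup G) : Set G) := by
    have h3 := cj_mono g (jj_le_centralizer_of_le h (le_refl V))
    rw [cj_centralizer] at h3
    exact h3.trans (centralizer_le inf_le_right)
  obtain ⟨x, hx, hxg⟩ := exists_conj_jj S h1 h2
  have hxV : x ∈ normalizer (V : Set G) := centralizer_le_of_card h inf_le_left h8 hx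
  have h5 : x⁻¹ * g ∈ normalizer (jj (S : Subgroup G) : Set G) := by
    rw [mem_normalizer_iff_cj, ← cj_cj, ← hxg, cj_inv_cj]
  have h6 : g ∈ normalizer (V : Set G) := by
    have := mul_mem hxV (h.nj_le h5)
    rwa [mul_inv_cancel_left] at this
  exact cj_eq_of_mem_normalizer h6

/-- Different lines on `Y` meet in `Y`. -/
theorem inf_eq (h : YIn S V Y) {g : G} (hY : Y ≤ cj g V) (hg : cj g V ≠ V) :
    V ⊓ cj g V = Y := by
  have h1 : Nat.card (V ⊓ cj g V : Subgroup G) < 8 := by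
    by_contra h0
    exact hg (cj_eq_of_card h (not_lt.1 h0))
  have h2 : Nat.card (V ⊓ cj g V : Subgroup G) ∣ 16 := by
    rw [← h.card_V]
    exact Subgroup.card_dvd_of_le inf_le_left
  refine (eq_of_le_of_card_ge (le_inf h.Y_le hY) ?_).symm
  rw [h.card_Y]
  have h3 : ∀ n < 8, n ∣ 16 → n ≤ 4 := by decide
  exact h3 _ h1 h2

/-- The conjugates of `V` containing `Y` are the `V^m`, `m ∈ N_G(Y)`. -/
theorem exists_cj_V (h : YIn S V Y) {g : G} (hY : Y ≤ cj g V) :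
    ∃ m ∈ normalizer (Y : Set G), cj g V = cj m V := by
  have h1 : cj g⁻¹ Y ≤ V := by rw [cj_le_iff, inv_inv]; exact hY
  obtain ⟨u, hu, hu1⟩ := h.exists_mem
  obtain ⟨l, hl, hgl⟩ := h.exists_cj (g := g⁻¹) (by
    rw [inf_eq_right.2 h1]
    intro h0
    have h2 := mem_cj_conj (g := g⁻¹) hu
    rw [h0, mem_bot] at h2
    exact cj_ne_one hu1 h2)
  refine ⟨g * l, ?_, ?_⟩
  · rw [mem_normalizer_iff_cj, ← cj_cj, ← hgl, cj_cj_inv]
  · rw [← cj_cj, cj_eq_of_mem_normalizer hl]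

end

namespace YDat

variable [Finite G] {S : Sylow 2 G} {V Y : Subgroup G}

theorem syl (h : YDat S V Y) :
    Syl (S : Subgroup G) (normalizer (Y : Set G) ⊓ normalizer (V : Set G)) :=
  syl_of_le (le_inf h.S_le h.S_le_V)

omit [Finite G] in
theorem mem_centralizer_conj {g e : G} (hg : g ∈ normalizer (V : Set G)) :
    g * e * g⁻¹ ∈ centralizer (V : Set G) ↔ e ∈ centralizer (V : Set G) := by
  have h1 : cj g (centralizer (V : Set G)) = centralizer (V : Set G) := by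
    rw [cj_centralizer, cj_eq_of_mem_normalizer hg]
  constructor
  · intro h2
    rw [← h1, mem_cj] at h2
    have e1 : g⁻¹ * (g * e * g⁻¹) * g = e := by group
    rwa [e1] at h2
  · intro h2
    have h3 := mem_cj_conj (g := g) h2
    rwa [h1] at h3

/-- `[V, e] ≤ Y` for `e` in a 2-subgroup of `N_G(Y) ∩ N_G(V)`, `e² ∈ C_G(V)`. -/
theorem act_comm (h : YDat S V Y) {E : Subgroup G} (hE : IsPGroup 2 E)
    (hEM : E ≤ normalizer (Y : Set G) ⊓ normalizer (V : Set G)) {e : G} (he : e ∈ E)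
    (he2 : e * e ∈ centralizer (V : Set G)) (he1 : e ∉ centralizer (V : Set G)) {v : G}
    (hv : v ∈ V) : e * v * e⁻¹ * v⁻¹ ∈ Y := by
  obtain ⟨T, hT, hET⟩ := exists_syl hE hEM
  obtain ⟨g, hg, rfl⟩ := syl_conj h.syl hT
  have h1 : g⁻¹ * e * g ∈ (S : Subgroup G) := mem_cj.1 (hET he)
  have hgV : g⁻¹ ∈ normalizer (V : Set G) := inv_mem hg.2
  have h2 : g⁻¹ * e * g⁻¹⁻¹ ∉ centralizer (V : Set G) := by
    rwa [mem_centralizer_conj hgV]
  have h3 : g⁻¹ * e * g * (g⁻¹ * e * g) ∈ centralizer (V : Set G) := by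
    have h3 := (mem_centralizer_conj hgV).2 he2
    have e1 : g⁻¹ * (e * e) * g⁻¹⁻¹ = g⁻¹ * e * g * (g⁻¹ * e * g) := by group
    rwa [e1] at h3
  rw [inv_inv] at h2
  have hv2 : g⁻¹ * v * g ∈ V := by
    have := (mem_normalizer_iff.1 hgV v).1 hv
    rwa [inv_inv] at this
  have h4 := h.act_comm' _ h1 h3 h2 _ hv2
  have h5 := (mem_normalizer_iff.1 hg.1 _).1 h4
  have e1 : g * (g⁻¹ * e * g * (g⁻¹ * v * g) * (g⁻¹ * e * g)⁻¹ * (g⁻¹ * v * g)⁻¹) * g⁻¹ =
      e * v * e⁻¹ * v⁻¹ := by group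
  rwa [e1] at h5

theorem act_iff (h : YDat S V Y) {E : Subgroup G} (hE : IsPGroup 2 E)
    (hEM : E ≤ normalizer (Y : Set G) ⊓ normalizer (V : Set G)) {e : G} (he : e ∈ E)
    (he2 : e * e ∈ centralizer (V : Set G)) (he1 : e ∉ centralizer (V : Set G)) {v : G}
    (hv : v ∈ V) : e * v = v * e ↔ v ∈ Y := by
  obtain ⟨T, hT, hET⟩ := exists_syl hE hEM
  obtain ⟨g, hg, rfl⟩ := syl_conj h.syl hT
  have h1 : g⁻¹ * e * g ∈ (S : Subgroup G) := mem_cj.1 (hET he)
  have hgV : g⁻¹ ∈ normalizer (V : Set G) := inv_mem hg.2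
  have h2 : g⁻¹ * e * g⁻¹⁻¹ ∉ centralizer (V : Set G) := by
    rwa [mem_centralizer_conj hgV]
  have h3 : g⁻¹ * e * g * (g⁻¹ * e * g) ∈ centralizer (V : Set G) := by
    have h3 := (mem_centralizer_conj hgV).2 he2
    have e1 : g⁻¹ * (e * e) * g⁻¹⁻¹ = g⁻¹ * e * g * (g⁻¹ * e * g) := by group
    rwa [e1] at h3
  rw [inv_inv] at h2
  have hv2 : g⁻¹ * v * g ∈ V := by
    have := (mem_normalizer_iff.1 hgV v).1 hv
    rwa [inv_inv] at this
  have h4 := h.act_iff' _ h1 h3 h2 _ hv2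
  have h5 : g⁻¹ * v * g ∈ Y ↔ v ∈ Y := by
    have h6 := mem_normalizer_iff.1 hg.1 (g⁻¹ * v * g)
    have e1 : g * (g⁻¹ * v * g) * g⁻¹ = v := by group
    rwa [e1] at h6
  rw [h5] at h4
  rw [← h4]
  constructor
  · intro h6
    have e1 : g⁻¹ * e * g * (g⁻¹ * v * g) = g⁻¹ * (e * v) * g := by group
    have e2 : g⁻¹ * v * g * (g⁻¹ * e * g) = g⁻¹ * (v * e) * g := by group
    rw [e1, e2, h6]
  · intro h6
    have e1 : e * v = g * (g⁻¹ * e * g * (g⁻¹ * v * g)) * g⁻¹ := by group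
    have e2 : v * e = g * (g⁻¹ * v * g * (g⁻¹ * e * g)) * g⁻¹ := by group
    rw [e1, e2, h6]

theorem act_mul (h : YDat S V Y) {E : Subgroup G} (hE : IsPGroup 2 E)
    (hEM : E ≤ normalizer (Y : Set G) ⊓ normalizer (V : Set G)) {e f : G} (he : e ∈ E)
    (he2 : e * e ∈ centralizer (V : Set G)) (he1 : e ∉ centralizer (V : Set G)) (hf : f ∈ E)
    (hf2 : f * f ∈ centralizer (V : Set G)) (hf1 : f ∉ centralizer (V : Set G)) :
    e * f ∈ centralizer (V : Set G) := by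
  obtain ⟨T, hT, hET⟩ := exists_syl hE hEM
  obtain ⟨g, hg, rfl⟩ := syl_conj h.syl hT
  have hgV : g⁻¹ ∈ normalizer (V : Set G) := inv_mem hg.2
  have key : ∀ e ∈ E, e * e ∈ centralizer (V : Set G) → e ∉ centralizer (V : Set G) →
      g⁻¹ * e * g ∈ (S : Subgroup G) ∧ g⁻¹ * e * g * (g⁻¹ * e * g) ∈ centralizer (V : Set G) ∧
        g⁻¹ * e * g ∉ centralizer (V : Set G) := by
    intro e he he2 he1
    refine ⟨mem_cj.1 (hET he), ?_, ?_⟩
    · have h3 := (mem_centralizer_conj hgV).2 he2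
      have e1 : g⁻¹ * (e * e) * g⁻¹⁻¹ = g⁻¹ * e * g * (g⁻¹ * e * g) := by group
      rwa [e1] at h3
    · have h2 : g⁻¹ * e * g⁻¹⁻¹ ∉ centralizer (V : Set G) := by
        rwa [mem_centralizer_conj hgV]
      rwa [inv_inv] at h2
  obtain ⟨a1, a2, a3⟩ := key e he he2 he1
  obtain ⟨b1, b2, b3⟩ := key f hf hf2 hf1
  have h4 := h.act_mul' _ a1 _ b1 a2 b2 a3 b3
  have e1 : g⁻¹ * e * g * (g⁻¹ * f * g) = g⁻¹ * (e * f) * g⁻¹⁻¹ := by group
  rw [e1, mem_centralizer_conj hgV] at h4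
  exact h4

/-! ### `⟨V^{N_G(Y)}⟩` is abelian -/

theorem o2_le_S (h : YDat S V Y) : o2 (normalizer (Y : Set G)) ≤ (S : Subgroup G) :=
  o2_le_syl (syl_of_le h.S_le)

theorem cj_le_o2 (_h : YDat S V Y) (hQ : V ≤ o2 (normalizer (Y : Set G))) {m : G}
    (hm : m ∈ normalizer (Y : Set G)) : cj m V ≤ o2 (normalizer (Y : Set G)) := by
  have h1 := cj_mono m hQ
  rwa [cj_eq_of_mem_normalizer (le_normalizer_o2 _ hm)] at h1

/-- The conjugates `V^m`, `m ∈ N_G(Y)`, centralize `V`. -/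
theorem cj_le_centralizer (h : YDat S V Y) (hQ : V ≤ o2 (normalizer (Y : Set G))) {m : G}
    (hm : m ∈ normalizer (Y : Set G)) : cj m V ≤ centralizer (V : Set G) := by
  have hp : IsPGroup 2 V := (isPGroup_zj S.isPGroup').to_le h.V_le
  have hVS : V ≤ (S : Subgroup G) := hQ.trans h.o2_le_S
  have hmS : cj m V ≤ (S : Subgroup G) := (h.cj_le_o2 hQ hm).trans h.o2_le_S
  have hmM : cj m V ≤ normalizer (Y : Set G) ⊓ normalizer (V : Set G) :=
    hmS.trans (le_inf h.S_le h.S_le_V)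
  -- `V` acts on `V^m`
  have hact : ∀ v ∈ V, v ∉ centralizer ((cj m V : Subgroup G) : Set G) → ∀ w ∈ cj m V,
      v * w = w * v → w ∈ Y := by
    intro v hv hv1 w hw hvw
    have h1 : cj m⁻¹ V ≤ normalizer (Y : Set G) ⊓ normalizer (V : Set G) :=
      ((h.cj_le_o2 hQ (inv_mem hm)).trans h.o2_le_S).trans (le_inf h.S_le h.S_le_V)
    have h2 : m⁻¹ * v * m ∈ cj m⁻¹ V := by
      rw [mem_cj]
      have e : m⁻¹⁻¹ * (m⁻¹ * v * m) * m⁻¹ = v := by group
      rwa [e]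
    have h3 : m⁻¹ * v * m ∉ centralizer (V : Set G) := by
      intro h4
      apply hv1
      rw [← cj_centralizer]
      exact mem_cj.2 h4
    have h4 : m⁻¹ * v * m * (m⁻¹ * v * m) ∈ centralizer (V : Set G) := by
      have e : m⁻¹ * v * m * (m⁻¹ * v * m) = m⁻¹ * (v ^ 2) * m := by rw [pow_two]; group
      rw [e, h.sq hv, mul_one, inv_mul_cancel]
      exact one_mem _
    have h5 := (h.act_iff (isPGroup_cj m⁻¹ hp) h1 h2 h4 h3 (mem_cj.1 hw)).1 (by
      have e1 : m⁻¹ * v * m * (m⁻¹ * w * m) = m⁻¹ * (v * w) * m := by group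
      have e2 : m⁻¹ * w * m * (m⁻¹ * v * m) = m⁻¹ * (w * v) * m := by group
      rw [e1, e2, hvw])
    have h6 := (mem_normalizer_iff.1 hm _).1 h5
    have e1 : m * (m⁻¹ * w * m) * m⁻¹ = w := by group
    rwa [e1] at h6
  by_contra hc
  obtain ⟨w, hw, hwV⟩ := Set.not_subset.1 hc
  have hw : w ∈ cj m V := hw
  -- some `v ∈ V` does not centralize `V^m`
  obtain ⟨v, hv, hv1⟩ : ∃ v ∈ V, v ∉ centralizer ((cj m V : Subgroup G) : Set G) := by
    by_contra hc
    push Not at hc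
    apply hwV
    change w ∈ centralizer (V : Set G)
    rw [mem_centralizer_iff]
    intro v hv
    exact (mem_centralizer_iff.1 (hc v hv) w hw).symm
  have hsq : ∀ w ∈ cj m V, w * w ∈ centralizer (V : Set G) := by
    rintro _ ⟨w, hw, rfl⟩
    have e : (MulAut.conj m).toMonoidHom w * (MulAut.conj m).toMonoidHom w = 1 := by
      rw [← map_mul, ← pow_two, h.sq hw, map_one]
    rw [e]
    exact one_mem _
  -- `V^m ∩ C(V)` has index 2
  have hidx : (centralizer (V : Set G)).relIndex (cj m V) = 2 := by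
    refine Subgroup.relIndex_eq_two_iff.2 ⟨w, hw, fun b hb => ?_⟩
    by_cases hbV : b ∈ centralizer (V : Set G)
    · exact Or.inr ⟨hbV, fun h1 => hwV ((mul_mem_cancel_left hbV).1 h1)⟩
    · exact Or.inl ⟨h.act_mul (isPGroup_cj m hp) hmM hb (hsq b hb) hbV hw (hsq w hw) hwV, hbV⟩
  have h1 : Nat.card (centralizer (V : Set G) ⊓ cj m V : Subgroup G) = 8 := by
    have h2 := Subgroup.relIndex_mul_relIndex ⊥ (centralizer (V : Set G) ⊓ cj m V) (cj m V)
      bot_le inf_le_right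
    rw [Subgroup.inf_relIndex_right, hidx, relIndex_bot_left, relIndex_bot_left, card_cj,
      h.card_V] at h2
    omega
  have h2 : (centralizer (V : Set G) ⊓ cj m V : Subgroup G) ≤ Y := fun x hx =>
    hact v hv hv1 x hx.2 (mem_centralizer_iff.1 hx.1 v hv)
  have h3 := Subgroup.card_le_of_le h2
  rw [h1, h.card_Y] at h3
  omega

end YDat

/-! ### The kernel of `N_G(Y)` on the lines -/

/-- The kernel of `N_G(Y)` on `{V^m}`. -/
def ker (V Y : Subgroup G) : Subgroup G :=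
  normalizer (Y : Set G) ⊓ ⨅ m : normalizer (Y : Set G), normalizer ((cj (m : G) V : Subgroup G) : Set G)

theorem mem_ker {V Y : Subgroup G} {x : G} : x ∈ ker V Y ↔ x ∈ normalizer (Y : Set G) ∧
    ∀ m ∈ normalizer (Y : Set G), x ∈ normalizer ((cj m V : Subgroup G) : Set G) := by
  rw [ker, mem_inf, mem_iInf]
  exact and_congr_right fun _ => ⟨fun h m hm => h ⟨m, hm⟩, fun h m => h m m.2⟩

theorem ker_le (V Y : Subgroup G) : ker V Y ≤ normalizer (Y : Set G) := inf_le_left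

theorem ker_le_V (V Y : Subgroup G) : ker V Y ≤ normalizer (V : Set G) := by
  intro x hx
  have := (mem_ker.1 hx).2 1 (one_mem _)
  rwa [cj_one] at this

theorem normalizer_le_ker (V Y : Subgroup G) :
    normalizer (Y : Set G) ≤ normalizer (ker V Y : Set G) := by
  have key : ∀ n ∈ normalizer (Y : Set G), ∀ x ∈ ker V Y, n * x * n⁻¹ ∈ ker V Y := by
    intro n hn x hx
    obtain ⟨h1, h2⟩ := mem_ker.1 hx
    refine mem_ker.2 ⟨mul_mem (mul_mem hn h1) (inv_mem hn), fun m hm => ?_⟩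
    have h3 := h2 (n⁻¹ * m) (mul_mem (inv_mem hn) hm)
    rw [← cj_cj, ← cj_normalizer, mem_cj, inv_inv] at h3
    exact h3
  intro n hn
  rw [mem_normalizer_iff]
  refine fun x => ⟨key n hn x, fun hx => ?_⟩
  have h1 := key n⁻¹ (inv_mem hn) _ hx
  have e : n⁻¹ * (n * x * n⁻¹) * n⁻¹⁻¹ = x := by group
  rwa [e] at h1

/-- `O₂(N_G(Y)/ker) = 1` -/
theorem le_ker [Finite G] {S : Sylow 2 G} {V Y : Subgroup G}
    (hSY : (S : Subgroup G) ≤ normalizer (Y : Set G))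
    (hSV : (S : Subgroup G) ≤ normalizer (V : Set G)) {X : Subgroup G}
    (hX : X ≤ normalizer (Y : Set G)) (hXn : normalizer (Y : Set G) ≤ normalizer (X : Set G))
    (hKX : ker V Y ≤ X) {k : ℕ} (hk : (ker V Y).relIndex X = 2 ^ k) : X ≤ ker V Y := by
  have hp2 : Fact (Nat.Prime 2) := ⟨Nat.prime_two⟩
  -- a Sylow 2-subgroup of `X` inside `S`
  obtain ⟨Q, hQ, -⟩ := exists_syl (IsPGroup.of_bot (p := 2) (G := G)) (bot_le : ⊥ ≤ X)
  obtain ⟨T, hT, hQT⟩ := exists_syl hQ.2.1 (hQ.1.trans hX)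
  obtain ⟨m, hm, rfl⟩ := syl_conj (syl_of_le hSY) hT
  have hXm : cj m⁻¹ X = X := cj_eq_of_mem_normalizer (hXn (inv_mem hm))
  have h1 : cj m⁻¹ Q ≤ (S : Subgroup G) := by
    rw [cj_le_iff, inv_inv]; exact hQT
  have h2 : ¬ 2 ∣ (cj m⁻¹ Q).relIndex X := by
    have h3 := syl_not_dvd hQ
    have h4 : (cj m⁻¹ Q).relIndex (cj m⁻¹ X) = Q.relIndex X :=
      Subgroup.relIndex_map_map_of_injective _ _ (MulAut.conj m⁻¹).injective
    rw [hXm] at h4
    rwa [h4]
  have h3 : cj m⁻¹ Q ≤ X := by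
    have := cj_mono m⁻¹ hQ.1
    rwa [hXm] at this
  have h4 : X ≤ ker V Y ⊔ cj m⁻¹ Q := by
    rw [← Subgroup.relIndex_eq_one]
    have h5 : (ker V Y ⊔ cj m⁻¹ Q).relIndex X ∣ 2 ^ k := by
      rw [← hk]
      exact Subgroup.relIndex_dvd_of_le_left X le_sup_left
    have h6 : (ker V Y ⊔ cj m⁻¹ Q).relIndex X ∣ (cj m⁻¹ Q).relIndex X :=
      Subgroup.relIndex_dvd_of_le_left X le_sup_right
    obtain ⟨j, -, hj⟩ := (Nat.dvd_prime_pow Nat.prime_two).1 h5
    rcases Nat.eq_zero_or_pos j with rfl | hj0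
    · rwa [pow_zero] at hj
    · exfalso
      apply h2
      refine dvd_trans ?_ h6
      rw [hj]
      exact dvd_pow_self 2 hj0.ne'
  have h5 : X ≤ normalizer (V : Set G) :=
    h4.trans (sup_le (ker_le_V V Y) (h1.trans hSV))
  intro x hx
  refine mem_ker.2 ⟨hX hx, fun n hn => ?_⟩
  rw [← cj_normalizer, mem_cj]
  refine h5 ?_
  have h6 := (mem_normalizer_iff.1 (hXn (inv_mem hn)) x).1 hx
  rwa [inv_inv] at h6

end Cfsg.Agent.MinSimple.EmptyE.YBlock
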