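import Mathlib
import Cfsg.Agent.ZN.Block
import Cfsg.Agent.Lib.NormalAbelian
import Cfsg.Agent.SmallSimple.S1000.NonFF

/-!
# `V ≤ O₂(M)` (Theorem E, Step 6)
-/

set_option autoImplicit false

namespace Cfsg.Agent.MinSimple.EmptyE.YCore

open Subgroup Cfsg Cfsg.Agent.ZN
open Cfsg.Agent.ZN.Block (conj_mem_of_normalizer conj_mem_of_normalizer' le_normalizer_of_forall
  mem_normalizer_of card_sup_mul_card_inf card_mul_relIndex' mul_mem_of_relIndex_two)

universe u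

variable {G : Type u} [Group G]

/-- (i) -/
theorem le_o2_of_comm {M Y V : Subgroup G} (hc : M ⊓ centralizer (o2 M : Set G) ≤ o2 M)
    (h2 : IsPGroup 2 ↥(o2 M))
    (hYM : M ≤ normalizer (Y : Set G)) (hY : ∀ y ∈ Y, y * y = 1) (hVM : V ≤ M)
    (hVY : ∀ v ∈ V, ∀ y ∈ Y, v * y = y * v) (h : ∀ q ∈ o2 M, ∀ v ∈ V, q * v * q⁻¹ * v⁻¹ ∈ Y) :
    V ≤ o2 M := by
  have hMn : M ≤ normalizer (o2 M : Set G) := Block.le_normalizer_o2 M
  let A : Subgroup G :=
    { carrier := {a | a ∈ M ∧ (∀ y ∈ Y, a * y = y * a) ∧ ∀ q ∈ o2 M, a * q * a⁻¹ * q⁻¹ ∈ Y}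
      mul_mem' := by
        rintro a b ⟨ha, ha1, ha2⟩ ⟨hb, hb1, hb2⟩
        refine ⟨mul_mem ha hb, fun y hy => ?_, fun q hq => ?_⟩
        · rw [mul_assoc, hb1 y hy, ← mul_assoc, ha1 y hy, mul_assoc]
        · have e : a * b * q * (a * b)⁻¹ * q⁻¹ = a * (b * q * b⁻¹ * q⁻¹) * a⁻¹ * (a * q * a⁻¹ * q⁻¹) := by group
          rw [e]
          exact mul_mem (conj_mem_of_normalizer hYM ha (hb2 q hq)) (ha2 q hq)
      one_mem' := ⟨one_mem _, fun y _ => by simp, fun q _ => by simp⟩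
      inv_mem' := by
        rintro a ⟨ha, ha1, ha2⟩
        refine ⟨inv_mem ha, fun y hy => ?_, fun q hq => ?_⟩
        · exact (show Commute a y from ha1 y hy).inv_left
        · have h1 := ha2 (a⁻¹ * q * a) (conj_mem_of_normalizer' hMn ha hq)
          have e : a * (a⁻¹ * q * a) * a⁻¹ * (a⁻¹ * q * a)⁻¹ = (a⁻¹ * q * a⁻¹⁻¹ * q⁻¹)⁻¹ := by group
          rw [e] at h1
          exact inv_mem_iff.mp h1 }
  have hA2 : IsPGroup 2 A := by
    rintro ⟨a, ha, ha1, ha2⟩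
    have h3 : a * a ∈ o2 M := by
      refine hc ⟨mul_mem ha ha, mem_centralizer_iff.mpr fun q hq => ?_⟩
      have h4 := ha2 q hq
      have h5 : a * q * a⁻¹ = (a * q * a⁻¹ * q⁻¹) * q := by group
      have h6 : (a * a) * q * (a * a)⁻¹ = q := by
        calc (a * a) * q * (a * a)⁻¹ = a * (a * q * a⁻¹) * a⁻¹ := by group
          _ = a * ((a * q * a⁻¹ * q⁻¹) * q) * a⁻¹ := by rw [← h5]
          _ = (a * (a * q * a⁻¹ * q⁻¹)) * q * a⁻¹ := by group
          _ = (a * q * a⁻¹ * q⁻¹) * (a * q * a⁻¹) := by rw [ha1 _ h4]; group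
          _ = ((a * q * a⁻¹ * q⁻¹) * (a * q * a⁻¹ * q⁻¹)) * q := by rw [h5]; group
          _ = q := by rw [hY _ h4, one_mul]
      exact (mul_inv_eq_iff_eq_mul.mp h6).symm
    obtain ⟨n, hn⟩ := h2 ⟨_, h3⟩
    refine ⟨n + 1, ?_⟩
    have hn' : (a * a) ^ 2 ^ n = 1 := congrArg Subtype.val hn
    ext
    change a ^ 2 ^ (n + 1) = 1
    rw [pow_succ, mul_comm (2 ^ n), pow_mul, pow_two]
    exact hn'
  have hAn : M ≤ normalizer (A : Set G) := by
    refine le_normalizer_of_forall ?_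
    rintro c hcM a ⟨ha, ha1, ha2⟩
    refine ⟨mul_mem (mul_mem hcM ha) (inv_mem hcM), fun y hy => ?_, fun q hq => ?_⟩
    · have h1 := ha1 (c⁻¹ * y * c) (conj_mem_of_normalizer' hYM hcM hy)
      calc c * a * c⁻¹ * y = c * (a * (c⁻¹ * y * c)) * c⁻¹ := by group
        _ = c * ((c⁻¹ * y * c) * a) * c⁻¹ := by rw [h1]
        _ = y * (c * a * c⁻¹) := by group
    · have h1 := ha2 (c⁻¹ * q * c) (conj_mem_of_normalizer' hMn hcM hq)
      have e : c * a * c⁻¹ * q * (c * a * c⁻¹)⁻¹ * q⁻¹ =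
          c * (a * (c⁻¹ * q * c) * a⁻¹ * (c⁻¹ * q * c)⁻¹) * c⁻¹ := by group
      rw [e]
      exact conj_mem_of_normalizer hYM hcM h1
  refine le_trans (fun v hv => ?_) (Block.le_o2 (K := A) hA2 (fun _ h => h.1) hAn)
  refine ⟨hVM hv, hVY v hv, fun q hq => ?_⟩
  have h1 := h q hq v hv
  have e : v * q * v⁻¹ * q⁻¹ = (q * v * q⁻¹ * v⁻¹)⁻¹ := by group
  rw [e]
  exact inv_mem h1

/-- an element of odd order acting as `a ↦ d a` with `d` a fixed involution acts trivially -/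
theorem eq_one_of_odd [Finite G] {x a d : G} (ho : Odd (orderOf x)) (hd : d * d = 1) (hxd : x * d = d * x)
    (h : x * a * x⁻¹ = d * a) : d = 1 := by
  have key : ∀ n : ℕ, x ^ n * a * (x ^ n)⁻¹ = d ^ n * a := by
    intro n
    induction n with
    | zero => simp
    | succ n ih =>
      have hc : x * d ^ n * x⁻¹ = d ^ n := by
        have : Commute x (d ^ n) := (show Commute x d from hxd).pow_right n
        rw [this.eq, mul_inv_cancel_right]
      calc x ^ (n + 1) * a * (x ^ (n + 1))⁻¹ = x * (x ^ n * a * (x ^ n)⁻¹) * x⁻¹ := by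
            rw [pow_succ']; group
        _ = (x * d ^ n * x⁻¹) * (x * a * x⁻¹) := by rw [ih]; group
        _ = d ^ (n + 1) * a := by rw [hc, h, pow_succ, mul_assoc]
  have h1 := key (orderOf x)
  rw [pow_orderOf_eq_one, one_mul, inv_one, mul_one, eq_comm, mul_eq_right] at h1
  obtain ⟨k, hk⟩ := ho
  rw [hk, pow_succ, pow_mul, pow_two, hd, one_pow, one_mul] at h1
  exact h1

/-- a 2-group normalising `V > Y` (both 2-groups) fixes a nontrivial coset of `Y` in `V` -/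
theorem exists_fixed_coset [Finite G] {Q Y V : Subgroup G} (hQ : IsPGroup 2 Q) (hV : IsPGroup 2 V)
    (hYV : Y ≤ V) (hne : Y ≠ V) (hQV : Q ≤ normalizer (V : Set G)) (hQY : Q ≤ normalizer (Y : Set G))
    (hVY : V ≤ normalizer (Y : Set G)) :
    ∃ w ∈ V, w ∉ Y ∧ ∀ q ∈ Q, q * w * q⁻¹ * w⁻¹ ∈ Y := by
  have hp : Fact (Nat.Prime 2) := ⟨Nat.prime_two⟩
  have hP : IsPGroup 2 (Q ⊔ V : Subgroup G) := hQ.to_sup_of_normal_right' hV hQV
  let P : Subgroup G := Q ⊔ V
  have hVP : V ≤ P := le_sup_right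
  have hYP : Y ≤ P := hYV.trans hVP
  have hPV : P ≤ normalizer (V : Set G) := sup_le hQV le_normalizer
  have hPY : P ≤ normalizer (Y : Set G) := sup_le hQY hVY
  let Y' : Subgroup P := Y.subgroupOf P
  have hY'n : Y'.Normal := ⟨fun n hn g => conj_mem_of_normalizer hPY g.2 hn⟩
  let V' : Subgroup P := V.subgroupOf P
  have hV'n : V'.Normal := ⟨fun n hn g => conj_mem_of_normalizer hPV g.2 hn⟩
  let N : Subgroup (P ⧸ Y') := V'.map (QuotientGroup.mk' Y')
  have hNn : N.Normal := hV'n.map _ (QuotientGroup.mk'_surjective Y')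
  have hnil : Group.IsNilpotent (P ⧸ Y') := (hP.to_quotient Y').isNilpotent
  have hNne : N ≠ ⊥ := by
    intro h0
    apply hne
    refine le_antisymm hYV fun v hv => ?_
    have h1 : QuotientGroup.mk' Y' ⟨v, hVP hv⟩ ∈ N := ⟨⟨v, hVP hv⟩, hv, rfl⟩
    rw [h0, mem_bot, QuotientGroup.mk'_apply, QuotientGroup.eq_one_iff] at h1
    exact h1
  have h1 := Lib.NormalAbelian.normal_inf_center_ne_bot N hNne
  obtain ⟨⟨m, hm⟩, hm1⟩ := ne_bot_iff_exists_ne_one.mp h1
  obtain ⟨⟨w, hwP⟩, hwV, rfl⟩ := hm.1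
  refine ⟨w, hwV, fun hwY => hm1 ?_, fun q hq => ?_⟩
  · apply Subtype.ext
    change QuotientGroup.mk' Y' ⟨w, hwP⟩ = 1
    rw [QuotientGroup.mk'_apply, QuotientGroup.eq_one_iff]
    exact hwY
  · have hqP : q ∈ P := (le_sup_left : Q ≤ P) hq
    have h2 := mem_center_iff.mp hm.2 (QuotientGroup.mk' Y' ⟨q, hqP⟩)
    rw [← map_mul, ← map_mul, QuotientGroup.mk'_apply, QuotientGroup.mk'_apply, QuotientGroup.eq] at h2
    have h3 : ((q * w)⁻¹ * (w * q) : G) ∈ Y := h2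
    have hwV' : w ∈ V := hwV
    have h4 := conj_mem_of_normalizer hVY hwV' (conj_mem_of_normalizer hQY hq (inv_mem h3))
    have e : w * (q * ((q * w)⁻¹ * (w * q))⁻¹ * q⁻¹) * w⁻¹ = q * w * q⁻¹ * w⁻¹ := by group
    rwa [e] at h4

theorem mem_sup_of_norm {H N : Subgroup G} (hn : H ≤ normalizer (N : Set G)) {x : G} (hx : x ∈ H ⊔ N) :
    ∃ a ∈ H, ∃ b ∈ N, x = a * b := by
  let P : Subgroup G :=
    { carrier := {x | ∃ a ∈ H, ∃ b ∈ N, x = a * b}
      mul_mem' := by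
        rintro _ _ ⟨a, ha, b, hb, rfl⟩ ⟨a', ha', b', hb', rfl⟩
        exact ⟨a * a', mul_mem ha ha', a'⁻¹ * b * a' * b',
          mul_mem (conj_mem_of_normalizer' hn ha' hb) hb', by group⟩
      one_mem' := ⟨1, one_mem _, 1, one_mem _, by simp⟩
      inv_mem' := by
        rintro _ ⟨a, ha, b, hb, rfl⟩
        exact ⟨a⁻¹, inv_mem ha, a * b⁻¹ * a⁻¹, conj_mem_of_normalizer hn ha (inv_mem hb), by group⟩ }
  have h1 : H ⊔ N ≤ P := sup_le (fun a ha => ⟨a, ha, 1, one_mem _, by simp⟩)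
    (fun b hb => ⟨1, one_mem _, b, hb, by simp⟩)
  exact h1 hx

/-- (ii) -/
theorem le_o2_of_cyclic [Finite G] {M Y V : Subgroup G} (hsol : Group.IsSolvable M)
    (hc : M ⊓ centralizer (o2 M : Set G) ≤ o2 M) (h2 : IsPGroup 2 ↥(o2 M))
    (hYM : M ≤ normalizer (Y : Set G)) (hVM : V ≤ M) (hYV : Y ≤ V) (cY : Nat.card Y = 4)
    (cV : Nat.card V = 16) (sq : ∀ v ∈ V, v * v = 1) (hQV : o2 M ≤ normalizer (V : Set G))
    {z : G} (hz : z ∈ Y) (hz1 : z ≠ 1) (hzM : ∀ m ∈ M, m * z = z * m)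
    (hQ : ∀ q ∈ o2 M, (∀ v ∈ V, q * v * q⁻¹ * v⁻¹ ∈ Y) ∨ (∀ v ∈ V, q * v = v * q → v ∈ Y)) :
    V ≤ o2 M := by
  by_contra hcon
  have hMn : M ≤ normalizer (o2 M : Set G) := Block.le_normalizer_o2 M
  have hQM : o2 M ≤ M := Block.o2_le M
  set Q := o2 M with hQdef
  have hVc : ∀ a ∈ V, ∀ b ∈ V, a * b = b * a := fun a ha b hb =>
    SmallSimple.S1000.NonFF.comm_of_sq sq ha hb
  have hinv : ∀ a ∈ V, a⁻¹ = a := fun a ha => inv_eq_of_mul_eq_one_left (sq a ha)
  have hV2 : IsPGroup 2 V := IsPGroup.of_card (n := 4) (by rw [cV]; norm_num)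
  have hYne : Y ≠ V := fun h => by rw [h, cV] at cY; omega
  have hVnY : V ≤ normalizer (Y : Set G) := hVM.trans hYM
  have hQnY : Q ≤ normalizer (Y : Set G) := hQM.trans hYM
  -- `V₃`
  let V₃ : Subgroup G :=
    { carrier := {v | v ∈ V ∧ ∀ q ∈ Q, q * v * q⁻¹ * v⁻¹ ∈ Y}
      mul_mem' := by
        rintro a b ⟨ha, ha1⟩ ⟨hb, hb1⟩
        refine ⟨mul_mem ha hb, fun q hq => ?_⟩
        have e : q * (a * b) * q⁻¹ * (a * b)⁻¹ = (q * a * q⁻¹ * a⁻¹) * (a * (q * b * q⁻¹ * b⁻¹) * a⁻¹) := by group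
        rw [e]
        exact mul_mem (ha1 q hq) (conj_mem_of_normalizer hVnY ha (hb1 q hq))
      one_mem' := ⟨one_mem _, fun q _ => by simp⟩
      inv_mem' := by
        rintro a ⟨ha, ha1⟩
        rw [hinv a ha]
        exact ⟨ha, ha1⟩ }
  have hV₃V : V₃ ≤ V := fun _ h => h.1
  have hYV₃ : Y ≤ V₃ := fun y hy => ⟨hYV hy, fun q hq =>
    mul_mem (conj_mem_of_normalizer hQnY hq hy) (inv_mem hy)⟩
  have hQV₃ : Q ≤ normalizer (V₃ : Set G) := by
    refine le_normalizer_of_forall fun q hq v hv => ?_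
    have h3 := mul_mem (hYV₃ (hv.2 q hq)) hv
    rwa [inv_mul_cancel_right] at h3
  obtain ⟨w, hwV, hwY, hw⟩ := exists_fixed_coset h2 hV2 hYV hYne hQV hQnY hVnY
  have hwV₃ : w ∈ V₃ := ⟨hwV, hw⟩
  have hV₃ne : V₃ ≠ V := by
    intro h
    apply hcon
    refine le_o2_of_comm hc h2 hYM (fun y hy => sq y (hYV hy)) hVM
      (fun v hv y hy => hVc v hv y (hYV hy)) fun q hq v hv => ?_
    have : v ∈ V₃ := by rw [h]; exact hv
    exact this.2 q hq
  have cV₃ : Nat.card V₃ = 8 := by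
    obtain ⟨k, hk⟩ := card_dvd_of_le hYV₃
    obtain ⟨l, hl⟩ := card_dvd_of_le hV₃V
    have h3 : Nat.card V₃ ≠ 4 := by
      intro h
      have : Y = V₃ := Subgroup.eq_of_le_of_card_ge hYV₃ (by rw [h, cY])
      exact hwY (this ▸ hwV₃)
    have h4 : Nat.card V₃ ≠ 16 := by
      intro h
      exact hV₃ne (Subgroup.eq_of_le_of_card_ge hV₃V (by rw [h, cV]))
    rw [cY] at hk
    rw [cV, hk] at hl
    have h5 : k * l = 4 := by nlinarith
    have h6 : k ∣ 4 := ⟨l, h5.symm⟩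
    have h7 : k ≤ 4 := Nat.le_of_dvd (by norm_num) h6
    interval_cases k <;> omega
  have hV₃Q : V₃ ≤ Q := le_o2_of_comm hc h2 hYM (fun y hy => sq y (hYV hy)) (hV₃V.trans hVM)
      (fun v hv y hy => hVc v (hV₃V hv) y (hYV hy)) fun q hq v hv => hv.2 q hq
  have i3 : Y.relIndex V₃ = 2 := by
    have := card_mul_relIndex' hYV₃
    rw [cY, cV₃] at this; omega
  have i4 : V₃.relIndex V = 2 := by
    have := card_mul_relIndex' hV₃V
    rw [cV, cV₃] at this; omega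
  -- `[Q, V] ≤ V₃`
  have hQV₃' : ∀ q ∈ Q, ∀ v ∈ V, q * v * q⁻¹ * v⁻¹ ∈ V₃ := by
    intro q hq v hv
    by_cases hv3 : v ∈ V₃
    · exact hYV₃ (hv3.2 q hq)
    · refine mul_mem_of_relIndex_two i4 (conj_mem_of_normalizer hQV hq hv) (inv_mem hv) (fun h3 => hv3 ?_)
        (fun h3 => hv3 (inv_mem_iff.mp h3))
      have := conj_mem_of_normalizer' hQV₃ hq h3
      have e : q⁻¹ * (q * v * q⁻¹) * q = v := by group
      rwa [e] at this
  -- the element `x`
  obtain ⟨-, -, v, hv, x, hx, -, -, hxo, hx1, hvx, -⟩ :=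
    SmallSimple.S1000.NonFF.exists_inverted hsol hVM sq hcon
  have hvv : v * v = 1 := sq v hv
  have hvi : v⁻¹ = v := hinv v hv
  have hxx : x * x = (x * v * x⁻¹) * v := by
    have h3 : v * x⁻¹ * v⁻¹ = x := by
      have : v * x⁻¹ * v⁻¹ = (v * x * v⁻¹)⁻¹ := by group
      rw [this, hvx, inv_inv]
    calc x * x = x * (v * x⁻¹ * v⁻¹) := by rw [h3]
      _ = (x * v * x⁻¹) * v⁻¹ := by group
      _ = _ := by rw [hvi]
  obtain ⟨m, hm⟩ := exists_pow_eq_self_of_coprime (n := 2) (x := x) (Nat.coprime_two_left.mpr hxo)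
  -- `x` centralises `Y`
  have hzz : z * z = 1 := sq z (hYV hz)
  have iz : (zpowers z).relIndex Y = 2 := by
    have h3 := card_mul_relIndex' (zpowers_le.mpr hz)
    rw [Nat.card_zpowers, orderOf_eq_prime (by rw [pow_two]; exact hzz) hz1, cY] at h3
    omega
  have hzp : ∀ d ∈ zpowers z, x * d = d * x ∧ d * d = 1 := by
    intro d hd
    obtain ⟨k, rfl⟩ := mem_zpowers_iff.mp hd
    have h3 : Commute x z := hzM x hx
    refine ⟨(h3.zpow_right k).eq, ?_⟩
    have h4 : z ^ k * z ^ k = (z * z) ^ k := ((Commute.refl z).mul_zpow k).symm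
    rw [h4, hzz, one_zpow]
  have hxY : ∀ y ∈ Y, x * y = y * x := by
    intro y hy
    by_cases hyz : y ∈ zpowers z
    · exact (hzp y hyz).1
    · have h4 : x * y * x⁻¹ ∈ Y := conj_mem_of_normalizer hYM hx hy
      have h5 : x * y * x⁻¹ ∉ zpowers z := by
        intro h6
        have h7 := (hzp _ h6).1
        have e : x⁻¹ * (x * y * x⁻¹) * x = y := by group
        have h8 : x * y * x⁻¹ = y := by
          calc x * y * x⁻¹ = x⁻¹ * (x * (x * y * x⁻¹)) := by group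
            _ = x⁻¹ * ((x * y * x⁻¹) * x) := by rw [h7]
            _ = y := by group
        rw [h8] at h6
        exact hyz h6
      have h3 := mul_mem_of_relIndex_two iz h4 hy h5 hyz
      have h6 : x * y * x⁻¹ = (x * y * x⁻¹ * y) * y := by
        rw [mul_assoc (x * y * x⁻¹) y y, sq y (hYV hy), mul_one]
      have h7 := eq_one_of_odd hxo (hzp _ h3).2 (hzp _ h3).1 h6
      rw [h7, one_mul] at h6
      exact mul_inv_eq_iff_eq_mul.mp h6
  have hYn : ∀ y ∈ Y, ∀ a ∈ V, y * a = a * y := fun y hy a ha => hVc y (hYV hy) a ha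
  -- `W = V₃ ^ x`
  let W : Subgroup G := V₃.map (MulAut.conj x).toMonoidHom
  have hWm : ∀ b, b ∈ W ↔ ∃ b' ∈ V₃, b = x * b' * x⁻¹ := fun b =>
    ⟨fun ⟨b', h1, h2⟩ => ⟨b', h1, h2.symm⟩, fun ⟨b', h1, h2⟩ => ⟨b', h1, h2.symm⟩⟩
  have hxQ : ∀ q ∈ Q, x⁻¹ * q * x ∈ Q := fun q hq => conj_mem_of_normalizer' hMn hx hq
  have hxQ' : ∀ q ∈ Q, x * q * x⁻¹ ∈ Q := fun q hq => conj_mem_of_normalizer hMn hx hq
  have hWQ : W ≤ Q := by
    intro b hb
    obtain ⟨b', hb', rfl⟩ := (hWm b).mp hb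
    exact hxQ' _ (hV₃Q hb')
  let D : Subgroup G := W ⊔ V₃
  have hDQ : D ≤ Q := sup_le hWQ hV₃Q
  have hWD : W ≤ D := le_sup_left
  have hV₃D : V₃ ≤ D := le_sup_right
  -- the elements acting trivially on `Q / D`
  let R : Subgroup G :=
    { carrier := {g | g ∈ normalizer (D : Set G) ∧ ∀ q ∈ Q, q * g * q⁻¹ * g⁻¹ ∈ D}
      mul_mem' := by
        rintro a b ⟨ha, ha1⟩ ⟨hb, hb1⟩
        refine ⟨mul_mem ha hb, fun q hq => ?_⟩
        have e : q * (a * b) * q⁻¹ * (a * b)⁻¹ = (q * a * q⁻¹ * a⁻¹) * (a * (q * b * q⁻¹ * b⁻¹) * a⁻¹) := by group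
        rw [e]
        exact mul_mem (ha1 q hq) (conj_mem_of_normalizer le_rfl ha (hb1 q hq))
      one_mem' := ⟨one_mem _, fun q _ => by simp⟩
      inv_mem' := by
        rintro a ⟨ha, ha1⟩
        refine ⟨inv_mem ha, fun q hq => ?_⟩
        have h3 := conj_mem_of_normalizer' le_rfl ha (inv_mem (ha1 q hq))
        have e : a⁻¹ * (q * a * q⁻¹ * a⁻¹)⁻¹ * a = q * a⁻¹ * q⁻¹ * a⁻¹⁻¹ := by group
        rwa [e] at h3 }
  have hR : ∀ g : G, g * g = 1 → (∀ q ∈ Q, q * g * q⁻¹ * g⁻¹ ∈ D) → g ∈ R := by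
    intro g hg h3
    have hgi : g⁻¹ = g := inv_eq_of_mul_eq_one_left hg
    have h4 : ∀ d ∈ D, g * d * g⁻¹ ∈ D := by
      intro d hd
      have h5 := mul_mem (inv_mem (h3 d (hDQ hd))) hd
      have e : (d * g * d⁻¹ * g⁻¹)⁻¹ * d = g * d * g⁻¹ := by group
      rwa [e] at h5
    refine ⟨mem_normalizer_of h4 fun d hd => ?_, h3⟩
    have := h4 d hd
    rwa [hgi] at this ⊢
  have hvR : v ∈ R := hR v hvv fun q hq => hV₃D (hQV₃' q hq v hv)
  have hv'R : x * v * x⁻¹ ∈ R := by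
    refine hR _ (by rw [show x * v * x⁻¹ * (x * v * x⁻¹) = x * (v * v) * x⁻¹ by group, hvv]; group) fun q hq => ?_
    refine hWD ((hWm _).mpr ⟨_, hQV₃' _ (hxQ q hq) v hv, ?_⟩)
    group
  have hxR : x ∈ R := by
    rw [← hm, pow_two, hxx]
    exact pow_mem (mul_mem hv'R hvR) m
  have hxD := hxR.1
  have hQx := hxR.2
  -- a coset representative
  have hcos : ∀ a ∈ V₃, a ∈ Y ∨ a * w ∈ Y := by
    intro a ha
    by_cases h3 : a ∈ Y
    · exact Or.inl h3
    · exact Or.inr (mul_mem_of_relIndex_two i3 ha hwV₃ h3 hwY)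
  have hww : w * w = 1 := sq w hwV
  have hYnx : ∀ y ∈ Y, x * y * x⁻¹ = y := fun y hy => by rw [hxY y hy, mul_inv_cancel_right]
  have hcosW : ∀ b ∈ W, b ∈ Y ∨ b * (x * w * x⁻¹) ∈ Y := by
    intro b hb
    obtain ⟨b', hb', rfl⟩ := (hWm b).mp hb
    rcases hcos b' hb' with h3 | h3
    · left; rw [hYnx b' h3]; exact h3
    · right
      have e : x * b' * x⁻¹ * (x * w * x⁻¹) = x * (b' * w) * x⁻¹ := by group
      rw [e, hYnx _ h3]; exact h3
  set w1 := x * w * x⁻¹ with hw1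
  have hw1W : w1 ∈ W := (hWm _).mpr ⟨w, hwV₃, rfl⟩
  have hw1D : w1 ∈ D := hWD hw1W
  have hw11 : w1 * w1 = 1 := by
    rw [hw1, show x * w * x⁻¹ * (x * w * x⁻¹) = x * (w * w) * x⁻¹ by group, hww]; group
  have hYw1 : ∀ y ∈ Y, y * w1 = w1 * y := by
    intro y hy
    have h3 := hYn y hy w hwV
    calc y * w1 = x * y * x⁻¹ * (x * w * x⁻¹) := by rw [hYnx y hy]
      _ = x * (y * w) * x⁻¹ := by group
      _ = x * (w * y) * x⁻¹ := by rw [h3]
      _ = x * w * x⁻¹ * (x * y * x⁻¹) := by group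
      _ = w1 * y := by rw [hYnx y hy]
  have hYw : ∀ y ∈ Y, y * w = w * y := fun y hy => hYn y hy w hwV
  -- `w1 ∉ V₃`
  have hw1V : w1 ∉ V₃ := by
    intro h3
    have h4 : w1 ∉ Y := by
      intro h5
      have h6 := hYnx w1 h5
      rw [hw1] at h6
      have h7 : x * w * x⁻¹ = w := by
        have : x * (x * w * x⁻¹) * x⁻¹ = x * w * x⁻¹ := h6
        calc x * w * x⁻¹ = x⁻¹ * (x * (x * w * x⁻¹) * x⁻¹) * x := by group
          _ = x⁻¹ * (x * w * x⁻¹) * x := by rw [this]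
          _ = w := by group
      rw [hw1, h7] at h5
      exact hwY h5
    have h5 : w1 * w ∈ Y := mul_mem_of_relIndex_two i3 h3 hwV₃ h4 hwY
    have h6 : x * w * x⁻¹ = (w1 * w) * w := by rw [mul_assoc w1 w w, hww, mul_one]
    have h7 := eq_one_of_odd hxo (sq _ (hYV h5)) (hxY _ h5) h6
    have h8 : x * w = w * x := by
      rw [h7, one_mul] at h6
      exact mul_inv_eq_iff_eq_mul.mp h6
    have h9 : ∀ a ∈ V₃, x * a = a * x := by
      intro a ha
      rcases hcos a ha with h10 | h10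
      · exact hxY a h10
      · have e : a = (a * w) * w := by rw [mul_assoc, hww, mul_one]
        rw [e]
        exact ((show Commute x (a * w) from hxY _ h10).mul_right (show Commute x w from h8)).eq
    have h10 : D ≤ V₃ := by
      refine sup_le (fun b hb => ?_) le_rfl
      obtain ⟨b', hb', rfl⟩ := (hWm b).mp hb
      rw [h9 b' hb', mul_inv_cancel_right]
      exact hb'
    have h11 : x ∈ Q := by
      refine hc ⟨hx, mem_centralizer_iff.mpr fun q hq => ?_⟩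
      have h12 := h10 (inv_mem (hQx q hq))
      have e : (q * x * q⁻¹ * x⁻¹)⁻¹ = x * q * x⁻¹ * q⁻¹ := by group
      rw [e] at h12
      have h13 : x * q * x⁻¹ = (x * q * x⁻¹ * q⁻¹) * q := by group
      have h14 := eq_one_of_odd hxo (sq _ (hV₃V h12)) (h9 _ h12) h13
      rw [h14, one_mul] at h13
      exact (mul_inv_eq_iff_eq_mul.mp h13).symm
    obtain ⟨k, hk⟩ := (IsPGroup.iff_orderOf.mp h2) ⟨x, h11⟩
    have h12 : orderOf x = 2 ^ k := by rw [← hk, ← orderOf_coe]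
    rw [h12] at hxo
    have hk0 : k = 0 := by
      by_contra h0
      have : Even (2 ^ k) := (Nat.even_pow.mpr ⟨even_two, h0⟩)
      exact (Nat.not_even_iff_odd.mpr hxo) this
    rw [hk0, pow_zero, orderOf_eq_one_iff] at h12
    exact hx1 h12
  have hw1Y : w1 ∉ Y := fun h => hw1V (hYV₃ h)
  -- `w2 = x w1 x⁻¹ = y w1 w`
  have hW3 : W ≤ normalizer (V₃ : Set G) := hWQ.trans hQV₃
  obtain ⟨y, hy, hw2⟩ : ∃ y ∈ Y, x * w1 * x⁻¹ = y * (w1 * w) := by
    have h3 : x * w1 * x⁻¹ ∈ W ⊔ V₃ := conj_mem_of_normalizer le_rfl hxD hw1D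
    obtain ⟨b, hb, a, ha, hba⟩ := mem_sup_of_norm hW3 h3
    rcases hcosW b hb with hb1 | hb1 <;> rcases hcos a ha with ha1 | ha1
    · exfalso
      have h4 : x * w1 * x⁻¹ ∈ Y := by rw [hba]; exact mul_mem hb1 ha1
      have h5 := hYnx _ h4
      have h6 : x * w1 * x⁻¹ = w1 := by
        calc x * w1 * x⁻¹ = x⁻¹ * (x * (x * w1 * x⁻¹) * x⁻¹) * x := by group
          _ = x⁻¹ * (x * w1 * x⁻¹) * x := by rw [h5]
          _ = w1 := by group
      rw [h6] at h4
      exact hw1Y h4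
    · exfalso
      -- `x² w x⁻² ∈ Y w`
      have h4 : b * (a * w) ∈ Y := mul_mem hb1 ha1
      have h5 : (x * x) * w * (x * x)⁻¹ = (b * (a * w)) * w := by
        have e : (x * x) * w * (x * x)⁻¹ = x * w1 * x⁻¹ := by rw [hw1]; group
        rw [e, hba]
        calc b * a = b * a * (w * w) := by rw [hww, mul_one]
          _ = b * (a * w) * w := by group
      have ho2 : Odd (orderOf (x * x)) := by
        have : orderOf (x * x) ∣ orderOf x := by rw [← pow_two]; exact orderOf_pow_dvd 2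
        exact Odd.of_dvd_nat hxo this
      have hxy := hxY _ h4
      have h6 := eq_one_of_odd ho2 (sq _ (hYV h4))
        ((show Commute x (b * (a * w)) from hxy).mul_left (show Commute x (b * (a * w)) from hxy)).eq h5
      rw [h6, one_mul] at h5
      have h7 : Commute (x ^ 2) w := by rw [pow_two]; exact mul_inv_eq_iff_eq_mul.mp h5
      have h8 := h7.pow_left m
      rw [hm] at h8
      apply hw1V
      rw [hw1, h8.eq, mul_inv_cancel_right]
      exact hwV₃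
    · exfalso
      have h4 : b * w1 * a ∈ Y := mul_mem hb1 ha1
      have h5 : x * w1 * x⁻¹ = (b * w1 * a) * w1 := by
        rw [hba]
        calc b * a = b * (w1 * w1) * a := by rw [hw11, mul_one]
          _ = b * w1 * (w1 * a) := by group
          _ = b * w1 * (a * w1) := by rw [hYw1 a ha1]
          _ = _ := by group
      have h6 := eq_one_of_odd hxo (sq _ (hYV h4)) (hxY _ h4) h5
      rw [h6, one_mul] at h5
      have h7 : x * w1 = w1 * x := mul_inv_eq_iff_eq_mul.mp h5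
      apply hw1V
      have h8 : w = w1 := by
        calc w = x⁻¹ * (x * w * x⁻¹) * x := by group
          _ = x⁻¹ * (w1 * x) := by rw [← hw1]; group
          _ = w1 := by rw [← h7]; group
      rw [← h8]; exact hwV₃
    · refine ⟨(b * w1) * (a * w), mul_mem hb1 ha1, ?_⟩
      rw [hba]
      have h5 := hYw1 _ ha1
      calc b * a = b * (w1 * w1) * a * (w * w) := by rw [hw11, hww, mul_one, mul_one]
        _ = (b * w1) * (w1 * (a * w)) * w := by group
        _ = (b * w1) * ((a * w) * w1) * w := by rw [h5]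
        _ = _ := by group
  have hyy : y * y = 1 := sq y (hYV hy)
  have hyw := hYw y hy
  have hyw1 := hYw1 y hy
  have hcw : w1 * w = w * w1 := by
    have h3 : (x * w1 * x⁻¹) * (x * w1 * x⁻¹) = 1 := by
      rw [show x * w1 * x⁻¹ * (x * w1 * x⁻¹) = x * (w1 * w1) * x⁻¹ by group, hw11]; group
    rw [hw2] at h3
    have h4 : (w1 * w) * (w1 * w) = 1 := by
      calc (w1 * w) * (w1 * w) = (y * y) * (w1 * w) * (w1 * w) := by rw [hyy, one_mul]
        _ = y * ((y * w1) * w) * (w1 * w) := by group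
        _ = y * (w1 * (y * w)) * (w1 * w) := by rw [hyw1]; group
        _ = y * (w1 * w) * (y * (w1 * w)) := by rw [hyw]; group
        _ = 1 := h3
    have h5 : (w1 * w)⁻¹ = w1 * w := inv_eq_of_mul_eq_one_left h4
    rw [← h5, mul_inv_rev, inv_eq_of_mul_eq_one_left hww, inv_eq_of_mul_eq_one_left hw11]
  -- `D` is abelian
  have hDc : ∀ d ∈ D, ∀ d' ∈ D, d * d' = d' * d := by
    have hw1V₃ : ∀ a ∈ V₃, w1 * a = a * w1 := by
      intro a ha
      rcases hcos a ha with h3 | h3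
      · exact (hYw1 a h3).symm
      · have e : a = (a * w) * w := by rw [mul_assoc, hww, mul_one]
        rw [e]
        exact ((show Commute w1 (a * w) from (hYw1 _ h3).symm).mul_right (show Commute w1 w from hcw)).eq
    have hWV : ∀ b ∈ W, ∀ a ∈ V₃, b * a = a * b := by
      intro b hb a ha
      rcases hcosW b hb with h3 | h3
      · exact hYn b h3 a (hV₃V ha)
      · have e : b = (b * w1) * w1 := by rw [mul_assoc, hw11, mul_one]
        rw [e]
        exact ((show Commute (b * w1) a from hYn _ h3 a (hV₃V ha)).mul_left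
          (show Commute w1 a from hw1V₃ a ha)).eq
    have hWW : ∀ b ∈ W, ∀ b' ∈ W, b * b' = b' * b := by
      intro b hb b' hb'
      obtain ⟨c, hc1, rfl⟩ := (hWm b).mp hb
      obtain ⟨c', hc1', rfl⟩ := (hWm b').mp hb'
      have := hVc c (hV₃V hc1) c' (hV₃V hc1')
      calc x * c * x⁻¹ * (x * c' * x⁻¹) = x * (c * c') * x⁻¹ := by group
        _ = x * (c' * c) * x⁻¹ := by rw [this]
        _ = _ := by group
    intro d hd d' hd'
    obtain ⟨b, hb, a, ha, rfl⟩ := mem_sup_of_norm hW3 hd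
    obtain ⟨b', hb', a', ha', rfl⟩ := mem_sup_of_norm hW3 hd'
    have h1 : Commute b b' := hWW b hb b' hb'
    have h2 : Commute b a' := hWV b hb a' ha'
    have h3 : Commute a b' := (hWV b' hb' a ha).symm
    have h4 : Commute a a' := hVc a (hV₃V ha) a' (hV₃V ha')
    exact ((h1.mul_right h2).mul_left (h3.mul_right h4)).eq
  -- transport of `[q, a]` along `x`
  have step : ∀ q ∈ Q, ∀ a ∈ D, ∀ s ∈ Y, q * a * q⁻¹ = a * s → q * (x * a * x⁻¹) * q⁻¹ = (x * a * x⁻¹) * s := by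
    intro q hq a ha s hs h3
    have h4 := hQx (x⁻¹ * q * x) (hxQ q hq)
    have e : (x⁻¹ * q * x) * x * (x⁻¹ * q * x)⁻¹ * x⁻¹ = x⁻¹ * q * x * q⁻¹ := by group
    rw [e] at h4
    have h5 : a * s ∈ D := mul_mem ha (hV₃D (hYV₃ hs))
    have h6 := hDc _ h4 _ h5
    calc q * (x * a * x⁻¹) * q⁻¹ = x * ((x⁻¹ * q * x * q⁻¹) * (q * a * q⁻¹) * (x⁻¹ * q * x * q⁻¹)⁻¹) * x⁻¹ := by
          group
      _ = x * ((x⁻¹ * q * x * q⁻¹) * (a * s) * (x⁻¹ * q * x * q⁻¹)⁻¹) * x⁻¹ := by rw [h3]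
      _ = x * (a * s) * x⁻¹ := by rw [h6, mul_inv_cancel_right]
      _ = (x * a * x⁻¹) * (x * s * x⁻¹) := by group
      _ = (x * a * x⁻¹) * s := by rw [hYnx s hs]
  -- `w' = y w` commutes with `Q`
  have hw'3 : y * w ∈ V₃ := mul_mem (hYV₃ hy) hwV₃
  have hw'Y : y * w ∉ Y := fun h => hwY ((mul_mem_cancel_left hy).mp h)
  have e1 : x * (y * w) * x⁻¹ = y * w1 := by
    calc x * (y * w) * x⁻¹ = (x * y * x⁻¹) * (x * w * x⁻¹) := by group
      _ = y * w1 := by rw [hYnx y hy]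
  have e2 : x * (y * w1) * x⁻¹ = w1 * w := by
    calc x * (y * w1) * x⁻¹ = (x * y * x⁻¹) * (x * w1 * x⁻¹) := by group
      _ = y * (y * (w1 * w)) := by rw [hYnx y hy, hw2]
      _ = w1 * w := by rw [← mul_assoc, hyy, one_mul]
  have hcomm : ∀ q ∈ Q, q * (y * w) = (y * w) * q := by
    intro q hq
    have h3 := hw'3.2 q hq
    set s := q * (y * w) * q⁻¹ * (y * w)⁻¹ with hs
    have h4 : q * (y * w) * q⁻¹ = (y * w) * s := by
      have : s * (y * w) = (y * w) * s := hYn s h3 _ (hV₃V hw'3)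
      rw [← this, hs]; group
    have h5 := step q hq _ (hV₃D hw'3) s h3 h4
    rw [e1] at h5
    have h6 := step q hq _ (mul_mem (hV₃D (hYV₃ hy)) hw1D) s h3 h5
    rw [e2] at h6
    have hss : s * s = 1 := sq s (hYV h3)
    have hsw : Commute s w := hYw s h3
    have hsw1 : Commute s w1 := hYw1 s h3
    have hsy : Commute s y := hYn s h3 y (hYV hy)
    have h7 : (y * w) * (y * w1) * (w1 * w) = 1 := by
      calc (y * w) * (y * w1) * (w1 * w) = (y * w) * y * (w1 * w1) * w := by group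
        _ = (w * y) * y * w := by rw [hw11, mul_one, hyw]
        _ = w * (y * y) * w := by group
        _ = 1 := by rw [hyy, mul_one, hww]
    have h8 : q * ((y * w) * (y * w1) * (w1 * w)) * q⁻¹ = s := by
      calc q * ((y * w) * (y * w1) * (w1 * w)) * q⁻¹ =
            (q * (y * w) * q⁻¹) * (q * (y * w1) * q⁻¹) * (q * (w1 * w) * q⁻¹) := by group
        _ = ((y * w) * s) * ((y * w1) * s) * ((w1 * w) * s) := by rw [h4, h5, h6]
        _ = (y * w) * (s * (y * w1)) * (s * (w1 * w)) * s := by group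
        _ = (y * w) * ((y * w1) * s) * ((w1 * w) * s) * s := by
            rw [(hsy.mul_right hsw1).eq, (hsw1.mul_right hsw).eq]
        _ = (y * w) * (y * w1) * (s * (w1 * w)) * (s * s) := by group
        _ = (y * w) * (y * w1) * ((w1 * w) * s) := by rw [hss, mul_one, (hsw1.mul_right hsw).eq]
        _ = ((y * w) * (y * w1) * (w1 * w)) * s := by group
        _ = s := by rw [h7, one_mul]
    rw [h7] at h8
    have h9 : s = 1 := by rw [← h8]; group
    rw [h9, mul_one] at h4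
    exact mul_inv_eq_iff_eq_mul.mp h4
  apply hV₃ne
  refine le_antisymm hV₃V fun a ha => ⟨ha, fun q hq => ?_⟩
  rcases hQ q hq with h3 | h3
  · exact h3 a ha
  · exact absurd (h3 _ (hV₃V hw'3) (hcomm q hq)) hw'Y

end Cfsg.Agent.MinSimple.EmptyE.YCore
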