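import Cfsg.Agent.MinSimple.EmptyE.YBlock
import Cfsg.Agent.MinSimple.EmptyE.YCore

/-!
# `V ≤ O₂(N_G(Y))` (Theorem E, Step 6b)
-/

set_option autoImplicit false

namespace Cfsg.Agent.MinSimple.EmptyE.YCore

open Subgroup Cfsg Cfsg.Agent.ZN Cfsg.Agent.ZN.ChoiceBase Cfsg.Agent.ZN.ChoiceSit
open Cfsg.Agent.MinSimple.EmptyTI Cfsg.Agent.MinSimple.EmptySix
open Cfsg.Agent.MinSimple.EmptyE.YSet Cfsg.Agent.MinSimple.EmptyE.YBlock
open Cfsg.Agent.ZN.Block (conj_mem_of_normalizer conj_mem_of_normalizer')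

universe u

variable {G : Type u} [Group G]

/-- `V ≤ O₂(M)`, `M = N_G(Y)` of characteristic 2. -/
theorem le_o2 [Finite G] {S : Sylow 2 G} {V Y : Subgroup G} (h : YDat S V Y)
    (hc : normalizer (Y : Set G) ⊓ centralizer (o2 (normalizer (Y : Set G)) : Set G) ≤
      o2 (normalizer (Y : Set G))) : V ≤ o2 (normalizer (Y : Set G)) := by
  by_contra hcon
  set M : Subgroup G := normalizer (Y : Set G) with hM
  have sq : ∀ v ∈ V, v * v = 1 := fun v hv => by rw [← pow_two]; exact h.sq hv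
  have hVM : V ≤ M := by
    refine le_trans ?_ (centralizer_le_normalizer (Y : Set G))
    intro v hv
    rw [mem_centralizer_iff]
    intro y hy
    exact h.comm (h.Y_le hy) hv
  have hMQ : M ≤ normalizer (o2 M : Set G) := Block.le_normalizer_o2 M
  obtain ⟨-, -, v, hv, x, hx, -, -, hxo, hx1, hvx, -⟩ :=
    SmallSimple.S1000.NonFF.exists_inverted h.solv hVM sq hcon
  have hvv : v * v = 1 := sq v hv
  have hvi : v⁻¹ = v := inv_eq_of_mul_eq_one_left hvv
  have hxx : x * x = (x * v * x⁻¹) * v := by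
    have h3 : v * x⁻¹ * v⁻¹ = x := by
      have : v * x⁻¹ * v⁻¹ = (v * x * v⁻¹)⁻¹ := by group
      rw [this, hvx, inv_inv]
    calc x * x = x * (v * x⁻¹ * v⁻¹) := by rw [h3]
      _ = (x * v * x⁻¹) * v⁻¹ := by group
      _ = _ := by rw [hvi]
  obtain ⟨m, hm⟩ := exists_pow_eq_self_of_coprime (n := 2) (x := x) (Nat.coprime_two_left.mpr hxo)
  have hoo : Odd (orderOf (x * x)) := by
    rw [← pow_two, hxo.coprime_two_right.orderOf_pow]
    exact hxo
  -- `x ∉ N(V)`
  have hxV : x ∉ normalizer (V : Set G) := by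
    intro h0
    have h1 : x * x ∈ V := by
      rw [hxx]
      exact mul_mem ((mem_normalizer_iff.1 h0 v).1 hv) hv
    have h2 := sq _ h1
    have h3 : x * x = 1 := by
      have h4 : orderOf (x * x) ∣ 2 := orderOf_dvd_of_pow_eq_one (by rw [pow_two]; exact h2)
      rcases (Nat.dvd_prime Nat.prime_two).1 h4 with h5 | h5
      · exact orderOf_eq_one_iff.1 h5
      · rw [h5] at hoo
        exact absurd hoo (by decide)
    apply hx1
    rw [← hm, pow_two, h3, one_pow]
  -- `x` centralises `Y`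
  have hxY : ∀ y ∈ Y, x * y = y * x := by
    intro y hy
    have h1 : ∀ y ∈ Y, (x * x) * y = y * (x * x) := by
      intro y hy
      have h2 : ∀ y ∈ Y, v * y = y * v := fun y hy => h.comm hv (h.Y_le hy)
      have h3 : x⁻¹ * y * x ∈ Y := conj_mem_of_normalizer' (le_refl M) hx hy
      rw [hxx]
      calc x * v * x⁻¹ * v * y = x * v * x⁻¹ * (v * y) := by group
        _ = x * v * x⁻¹ * (y * v) := by rw [h2 y hy]
        _ = x * (v * (x⁻¹ * y * x)) * x⁻¹ * v := by group
        _ = x * ((x⁻¹ * y * x) * v) * x⁻¹ * v := by rw [h2 _ h3]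
        _ = y * (x * v * x⁻¹ * v) := by group
    have h4 : Commute ((x ^ 2) ^ m) y := by
      have : Commute (x ^ 2) y := by
        rw [pow_two]; exact h1 y hy
      exact this.pow_left m
    rw [hm] at h4
    exact h4
  -- `C_V(x) = Y`
  have hC : ∀ w ∈ V, x * w = w * x → w ∈ Y := by
    intro w hw hxw
    by_contra hwY
    apply hxV
    let D : Subgroup G := V ⊓ centralizer ({x} : Set G)
    have hYD : Y ≤ D := fun y hy => mem_inf.2 ⟨h.Y_le hy,
      mem_centralizer_singleton_iff.2 (hxY y hy).symm⟩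
    have h8 : 8 ≤ Nat.card D := by
      obtain ⟨k, hk⟩ := card_dvd_of_le hYD
      rw [h.card_Y] at hk
      have hk1 : k ≠ 1 := by
        rintro rfl
        have h9 : Y = D := Subgroup.eq_of_le_of_card_ge hYD (by rw [hk, h.card_Y])
        apply hwY
        rw [h9]
        exact mem_inf.2 ⟨hw, mem_centralizer_singleton_iff.2 hxw.symm⟩
      have hk0 : k ≠ 0 := by
        rintro rfl
        have := Nat.card_pos (α := D)
        omega
      omega
    refine centralizer_le_of_card h.toYIn (inf_le_left : D ≤ V) h8 ?_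
    rw [mem_centralizer_iff]
    intro d hd
    exact (mem_centralizer_singleton_iff.1 hd.2)
  obtain ⟨w, hwV, hwY, hw⟩ := h.V1
  have hww : w * w = 1 := sq w hwV
  have hwi : w⁻¹ = w := inv_eq_of_mul_eq_one_left hww
  -- `w ∈ O₂(M)`
  have hQS : o2 M ≤ (S : Subgroup G) := h.o2_le_S
  have hwQ : w ∈ o2 M := by
    have h1 : ∀ a ∈ zpowers w, a = 1 ∨ a = w := by
      intro a ha
      obtain ⟨k, rfl⟩ := mem_zpowers_iff.mp ha
      rcases Int.even_or_odd' k with ⟨j, rfl | rfl⟩
      · left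
        rw [zpow_mul]
        have : w ^ (2 : ℤ) = 1 := by rw [zpow_two, hww]
        rw [this, one_zpow]
      · right
        rw [zpow_add, zpow_mul, zpow_one]
        have : w ^ (2 : ℤ) = 1 := by rw [zpow_two, hww]
        rw [this, one_zpow, one_mul]
    have hwM : zpowers w ≤ M := zpowers_le.mpr (hVM hwV)
    refine (le_o2_of_comm (V := zpowers w) hc (isPGroup_o2 M) (le_refl M)
      (fun y hy => sq y (h.Y_le hy)) hwM ?_ ?_) (mem_zpowers w)
    · intro a ha y hy
      rcases h1 a ha with rfl | rfl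
      · simp
      · exact h.comm hwV (h.Y_le hy)
    · intro q hq a ha
      rcases h1 a ha with rfl | rfl
      · simp
      · exact hw q (hQS hq)
  -- `s = x⁻¹ w x`
  have hs : x⁻¹ * w * x ∈ o2 M := conj_mem_of_normalizer' hMQ hx hwQ
  have hsS : x⁻¹ * w * x ∈ (S : Subgroup G) := hQS hs
  have hss : (x⁻¹ * w * x) * (x⁻¹ * w * x) = 1 := by
    calc (x⁻¹ * w * x) * (x⁻¹ * w * x) = x⁻¹ * (w * w) * x := by group
      _ = 1 := by rw [hww]; group
  have h1 : (x⁻¹ * w * x) * v * (x⁻¹ * w * x)⁻¹ * v⁻¹ ∈ Y := by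
    by_cases h2 : x⁻¹ * w * x ∈ centralizer (V : Set G)
    · have h3 := mem_centralizer_iff.1 h2 v hv
      rw [← h3, mul_inv_cancel_right, mul_inv_cancel]
      exact one_mem _
    · exact h.act_comm' _ hsS (by rw [hss]; exact one_mem _) h2 v hv
  have h2 : (x⁻¹ * w * x) * v * (x⁻¹ * w * x)⁻¹ * v⁻¹ = x⁻¹ * w * (x * x) * w * x⁻¹ := by
    have h3 : v * x⁻¹ * v⁻¹ = x := by
      have : v * x⁻¹ * v⁻¹ = (v * x * v⁻¹)⁻¹ := by group
      rw [this, hvx, inv_inv]
    have h4 : v * w⁻¹ * v⁻¹ = w := by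
      rw [hwi, h.comm hv hwV, mul_inv_cancel_right]
    calc (x⁻¹ * w * x) * v * (x⁻¹ * w * x)⁻¹ * v⁻¹ =
          x⁻¹ * w * x * ((v * x⁻¹ * v⁻¹) * (v * w⁻¹ * v⁻¹) * (v * x * v⁻¹)) := by group
      _ = x⁻¹ * w * x * (x * w * x⁻¹) := by rw [h3, h4, hvx]
      _ = _ := by group
  rw [h2] at h1
  have h3 : w * (x * x) * w * (x * x)⁻¹ ∈ Y := by
    have h4 := conj_mem_of_normalizer (le_refl M) hx h1
    have e : x * (x⁻¹ * w * (x * x) * w * x⁻¹) * x⁻¹ = w * (x * x) * w * (x * x)⁻¹ := by group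
    rwa [e] at h4
  set d := w * (x * x) * w * (x * x)⁻¹ with hd
  have hdd : d * d = 1 := sq d (h.Y_le h3)
  have hxd : (x * x) * d = d * (x * x) := by
    have h4 := hxY d h3
    calc (x * x) * d = x * (x * d) := by group
      _ = (x * d) * x := by rw [h4, ← mul_assoc, h4]
      _ = d * (x * x) := by rw [h4, mul_assoc]
  have h4 : (x * x) * w * (x * x)⁻¹ = d * w := by
    have h5 : d * w = w * d := h.comm (h.Y_le h3) hwV
    rw [h5, hd]
    calc (x * x) * w * (x * x)⁻¹ = (w * w) * ((x * x) * w * (x * x)⁻¹) := by rw [hww, one_mul]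
      _ = _ := by group
  have h5 := eq_one_of_odd hoo hdd hxd h4
  rw [h5, one_mul] at h4
  have h6 : (x * x) * w = w * (x * x) := mul_inv_eq_iff_eq_mul.mp h4
  apply hwY
  refine hC w hwV ?_
  have h7 : Commute ((x ^ 2) ^ m) w := by
    have : Commute (x ^ 2) w := by
      rw [pow_two]; exact h6
    exact this.pow_left m
  rw [hm] at h7
  exact h7

/-- `V ≤ O₂(N_G(Y))` -/
theorem le_o2' [Finite G] {S : Sylow 2 G} {V Y : Subgroup G} (h : YDat S V Y)
    (hG : IsCharacteristicTwoType G) : V ≤ o2 (normalizer (Y : Set G)) := by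
  refine le_o2 h (Basic.char2_normalizer hG ?_ ?_)
  · exact (isPGroup_zj S.isPGroup').to_le h.Y_le_zj
  · intro h0
    have := h.card_Y
    rw [h0, Subgroup.card_bot] at this
    omega

end Cfsg.Agent.MinSimple.EmptyE.YCore
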