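import Cfsg.Agent.MinSimple.EmptyE.YRawPts
import Cfsg.Agent.MinSimple.EmptyE.Count

/-!
# The case "(Empty)", Theorem E: the case (Y) of Step 5 does not occur (Steps 6 and 7)
-/

set_option autoImplicit false

namespace Cfsg.Agent.MinSimple.EmptyE.YFalse

open Subgroup Cfsg Cfsg.Agent.ZN Cfsg.Agent.MinSimple.EmptyE.YOf

universe u

variable {G : Type u} [Group G] [Finite G]

/-- The case (Y) of Step 5 of Theorem E is impossible. -/
theorem false_of_raw {S : Sylow 2 G} {Y : Subgroup G} {e : G} (h : YRaw S Y e) : False :=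
  Count.false_of_pts (YRawPts.pts_of_raw h)

end Cfsg.Agent.MinSimple.EmptyE.YFalse
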