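import Cfsg.Agent.MinSimple.EmptyE.Closed
import Cfsg.Agent.MinSimple.EmptyE.YCoreDat
import Cfsg.Agent.Lib.CoprimeAbelian
import Cfsg.Agent.Lib.CoprimeHyperplane

/-!
# The case "(Empty)", Theorem E: from Step 5 to Step 6

`YRaw` : `|V| = 16`, `S/C_S(V)` is cyclic of order 2 or 4 with involution `e`, `[V, e] = C_V(e) = Y`
of order 4.

* `comm_of_unique` : the abstract lemma for `C_L(Z)`;
-/

set_option autoImplicit false

namespace Cfsg.Agent.MinSimple.EmptyE.YOf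

open Subgroup Cfsg Cfsg.Agent.ZN Cfsg.Agent.ZN.ChoiceBase Cfsg.Agent.ZN.ChoiceSit
open Cfsg.Agent.MinSimple.EmptyTI Cfsg.Agent.MinSimple.EmptySix
open Cfsg.Agent.MinSimple.EmptyE.YSet Cfsg.Agent.MinSimple.EmptyE.YBlock
open Cfsg.Agent.MinSimple.EmptyE.Closed
open Cfsg.Agent.MinSimple.MinParabolic (IsMinPar)

universe u

/-! ### The abstract lemma -/

section Aut

variable {V : Type u} [Group V] [Finite V]

/-- The odd core of a group containing the Sylow 2-subgroup `T` with `C_V(T) ≤ C_V(Γ)` is trivial. -/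
theorem oc_eq_bot (hc : ∀ v w : V, v * w = w * v) (hV : ∀ v : V, v ^ 2 = 1)
    {Γ T : Subgroup (MulAut V)} (hTΓ : T ≤ Γ) (hT : IsPGroup 2 T)
    (hfix : ∀ v : V, (∀ t ∈ T, t v = v) → ∀ γ ∈ Γ, γ v = v) : Basic.oc Γ = ⊥ := by
  letI : CommGroup V := { (inferInstance : Group V) with mul_comm := hc }
  have hfin : Finite (MulAut V) := inferInstance
  have hp2 : Fact (Nat.Prime 2) := ⟨Nat.prime_two⟩
  have hodd := Basic.odd_card_oc Γ
  by_contra hK
  obtain ⟨⟨k, hk⟩, hk1⟩ := ne_bot_iff_exists_ne_one.1 hK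
  have hk1 : k ≠ 1 := fun h0 => hk1 (Subtype.ext h0)
  obtain ⟨v, hv⟩ : ∃ v, k v ≠ v := by
    by_contra h
    push Not at h
    exact hk1 (MulEquiv.ext h)
  obtain ⟨φ, hφ⟩ : ∃ φ : Basic.oc Γ →* MulAut V, ∀ a, φ a = (a : MulAut V) :=
    ⟨(Basic.oc Γ).subtype, fun _ => rfl⟩
  obtain ⟨W, hW⟩ : ∃ W : Subgroup V, W = closure {w : V | ∃ a u, w = φ a u * u⁻¹} := ⟨_, rfl⟩
  have hTW : ∀ t ∈ T, ∀ w ∈ W, t w ∈ W := by
    intro t ht w hw
    rw [hW] at hw ⊢
    induction hw using Subgroup.closure_induction with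
    | mem w hw =>
      obtain ⟨a, u, rfl⟩ := hw
      have h1 : t * a * t⁻¹ ∈ Basic.oc Γ :=
        (mem_normalizer_iff.1 (Basic.le_normalizer_oc Γ (hTΓ ht)) _).1 a.2
      refine subset_closure ⟨⟨_, h1⟩, t u, ?_⟩
      rw [hφ, hφ, map_mul, map_inv]
      simp only [MulAut.mul_apply]
      have h2 : t⁻¹ (t u) = u := by rw [← MulAut.mul_apply, inv_mul_cancel, MulAut.one_apply]
      rw [h2]
    | one => rw [map_one]; exact one_mem _
    | mul x y _ _ hx hy => rw [map_mul]; exact mul_mem hx hy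
    | inv x _ hx => rw [map_inv]; exact inv_mem hx
  let act : MulAction T W :=
    { smul := fun t w => ⟨(t : MulAut V) w, hTW t t.2 w w.2⟩
      one_smul := fun w => Subtype.ext rfl
      mul_smul := fun s t w => Subtype.ext rfl }
  have hsm : ∀ (t : T) (w : W), ((t • w : W) : V) = (t : MulAut V) w := fun _ _ => rfl
  have hpV : IsPGroup 2 V := fun v => ⟨1, by simpa using hV v⟩
  have hWne : Nontrivial W := by
    refine ⟨⟨⟨k v * v⁻¹, ?_⟩, 1, ?_⟩⟩
    · rw [hW]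
      exact subset_closure ⟨⟨k, hk⟩, v, by rw [hφ]⟩
    · intro h0
      have h1 : k v * v⁻¹ = 1 := congrArg Subtype.val h0
      exact hv (mul_inv_eq_one.1 h1)
  have h2W : 2 ∣ Nat.card W := by
    obtain ⟨n, hn0, hn⟩ := (hpV.to_subgroup W).nontrivial_iff_card.1 hWne
    rw [hn]
    exact dvd_pow_self _ hn0.ne'
  obtain ⟨b, hb, hb1⟩ := hT.exists_fixed_point_of_prime_dvd_card_of_fixed_point W h2W
    (a := (1 : W)) (fun t => Subtype.ext (by rw [hsm]; exact map_one _))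
  have hb2 : ∀ t ∈ T, t (b : V) = b := fun t ht => by
    have := congrArg Subtype.val (hb ⟨t, ht⟩)
    rwa [hsm] at this
  have hb3 := hfix b hb2
  have hcop : (Nat.card (Basic.oc Γ)).Coprime (Nat.card V) := by
    obtain ⟨n, hn⟩ := IsPGroup.iff_card.1 hpV
    rw [hn]
    exact Nat.Coprime.pow_right n (Nat.coprime_two_right.2 hodd)
  have hb4 := Lib.CoprimeAbelian.eq_one_of_fixed_of_mem_closure φ hcop (b : V)
    (fun a => by rw [hφ]; exact hb3 _ (Basic.oc_le Γ a.2)) (by rw [← hW]; exact b.2)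
  exact hb1 (Subtype.ext hb4.symm)

/-- A solvable group `Γ` whose Sylow 2-subgroup `T` has a unique involution `e` and satisfies
`C_V(T) ≤ C_V(Γ)` centralizes `e`. -/
theorem comm_of_unique (hc : ∀ v w : V, v * w = w * v) (hV : ∀ v : V, v ^ 2 = 1)
    {Γ T : Subgroup (MulAut V)} (hΓ : Group.IsSolvable Γ) (hTΓ : T ≤ Γ) (hT : IsPGroup 2 T)
    (hTi : ¬ 2 ∣ T.relIndex Γ) {e : MulAut V} (he : e ∈ T) (he1 : e ≠ 1)
    (hu : ∀ t ∈ T, t * t = 1 → t ≠ 1 → t = e)
    (hfix : ∀ v : V, (∀ t ∈ T, t v = v) → ∀ γ ∈ Γ, γ v = v) : ∀ γ ∈ Γ, γ * e = e * γ := by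
  have hfin : Finite (MulAut V) := inferInstance
  have h1 := Basic.char2_of_oc_eq_bot hΓ (oc_eq_bot hc hV hTΓ hT hfix)
  have h2 : o2 Γ ≠ ⊥ := by
    intro h0
    rw [h0] at h1
    have h2 : e ∈ (⊥ : Subgroup (MulAut V)) := h1 (mem_inf.2 ⟨hTΓ he, mem_centralizer_iff.2
      fun x hx => by
        rw [SetLike.mem_coe, mem_bot] at hx
        rw [hx, one_mul, mul_one]⟩)
    exact he1 (mem_bot.1 h2)
  have h3 : o2 Γ ≤ T := VModule.o2_le_of_sylow hT hTi
  obtain ⟨⟨x, hx⟩, hx1⟩ := ne_bot_iff_exists_ne_one.1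
    (Basic.zc_ne_bot (VModule.o2_isPGroup Γ) h2)
  have hx1 : x ≠ 1 := fun h0 => hx1 (Subtype.ext h0)
  have hx2 := ChoiceBase.mem_zc.1 hx
  have hxe : x = e := hu x (h3 hx2.1) (by rw [← pow_two]; exact hx2.2.1) hx1
  intro γ hγ
  have h4 : γ * x * γ⁻¹ ∈ o2 Γ :=
    (mem_normalizer_iff.1 (VModule.le_normalizer_o2 Γ hγ) x).1 hx2.1
  have h5 : γ * x * γ⁻¹ = e := by
    refine hu _ (h3 h4) ?_ (cj_ne_one hx1)
    have e1 : γ * x * γ⁻¹ * (γ * x * γ⁻¹) = γ * (x ^ 2) * γ⁻¹ := by rw [pow_two]; group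
    rw [e1, hx2.2.1]
    group
  rw [hxe] at h5
  calc γ * e = γ * e * γ⁻¹ * γ := by group
    _ = e * γ := by rw [h5]

end Aut

variable {G : Type u} [Group G]

/-- The output (Y) of Step 5. -/
structure YRaw (S : Sylow 2 G) (Y : Subgroup G) (e : G) : Prop where
  sit : ESit S
  card_V : Nat.card (vv (S : Subgroup G)) = 16
  Y_le : Y ≤ vv (S : Subgroup G)
  card_Y : Nat.card Y = 4
  e_mem : e ∈ (S : Subgroup G)
  e_not : e ∉ centralizer (vv (S : Subgroup G) : Set G)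
  fix : ∀ v ∈ vv (S : Subgroup G), (e * v = v * e ↔ v ∈ Y)
  comm : ∀ v ∈ vv (S : Subgroup G), e * v * e⁻¹ * v⁻¹ ∈ Y
  /-- the unique involution of `S/C_S(V)` -/
  uniq : ∀ s ∈ (S : Subgroup G), s * s ∈ centralizer (vv (S : Subgroup G) : Set G) →
    s ∉ centralizer (vv (S : Subgroup G) : Set G) →
    s * e⁻¹ ∈ centralizer (vv (S : Subgroup G) : Set G)
  alt : zc (S : Subgroup G) = Y ∨ (Nat.card (zc (S : Subgroup G)) = 2 ∧
    ∃ f ∈ (S : Subgroup G), f * f * e⁻¹ ∈ centralizer (vv (S : Subgroup G) : Set G) ∧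
      ∀ s ∈ (S : Subgroup G), ∃ i : ℤ, s * f ^ i ∈ centralizer (vv (S : Subgroup G) : Set G))
  /-- the minimal parabolics over `S` in `C` which are not in `L` -/
  par : ∀ P : Subgroup G, IsMinPar (S : Subgroup G) P → P ≤ CC (S : Subgroup G) →
    ¬ P ≤ LL (S : Subgroup G) → P ≤ normalizer (Y : Set G)

/-! ### Congruence modulo `C_G(V)` -/

section Cong

variable {V : Subgroup G}

theorem mem_cent {g : G} : g ∈ centralizer (V : Set G) ↔ ∀ v ∈ V, g * v = v * g := by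
  rw [mem_centralizer_iff]
  exact ⟨fun h v hv => (h v hv).symm, fun h v hv => (h v hv).symm⟩

/-- Elements congruent modulo `C_G(V)` act in the same way on `V`. -/
theorem conj_eq_of_cong {s t v : G} (h : s * t⁻¹ ∈ centralizer (V : Set G))
    (hv : t * v * t⁻¹ ∈ V) : s * v * s⁻¹ = t * v * t⁻¹ := by
  have h1 := mem_cent.1 h _ hv
  calc s * v * s⁻¹ = s * t⁻¹ * (t * v * t⁻¹) * (s * t⁻¹)⁻¹ := by group
    _ = t * v * t⁻¹ * (s * t⁻¹) * (s * t⁻¹)⁻¹ := by rw [h1]
    _ = t * v * t⁻¹ := by group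

theorem comm_iff_conj {s v : G} : s * v = v * s ↔ s * v * s⁻¹ = v :=
  (mul_inv_eq_iff_eq_mul).symm

end Cong

namespace YRaw

variable [Finite G] {S : Sylow 2 G} {Y : Subgroup G} {e : G}

omit [Finite G] in
theorem e_LL [Finite G] (h : YRaw S Y e) : e ∈ LL (S : Subgroup G) := h.sit.le_LL h.e_mem

theorem conj_mem (_h : YRaw S Y e) {g v : G} (hg : g ∈ LL (S : Subgroup G))
    (hv : v ∈ vv (S : Subgroup G)) : g * v * g⁻¹ ∈ vv (S : Subgroup G) :=
  (mem_normalizer_iff.1 hg v).1 hv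

theorem conj_e (h : YRaw S Y e) {v : G} (hv : v ∈ vv (S : Subgroup G)) :
    e * (e * v * e⁻¹) * e⁻¹ = v := by
  have h1 := h.comm v hv
  obtain ⟨y, hy⟩ : ∃ y, y = e * v * e⁻¹ * v⁻¹ := ⟨_, rfl⟩
  rw [← hy] at h1
  have h2 : e * v * e⁻¹ = y * v := by rw [hy]; group
  have h3 : e * y * e⁻¹ = y := comm_iff_conj.1 ((h.fix y (h.Y_le h1)).2 h1)
  calc e * (e * v * e⁻¹) * e⁻¹ = e * (y * v) * e⁻¹ := by rw [h2]
    _ = (e * y * e⁻¹) * (e * v * e⁻¹) := by group
    _ = y * (y * v) := by rw [h3, h2]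
    _ = v := by rw [← mul_assoc, vv_mul_self (h.Y_le h1), one_mul]

theorem e_sq (h : YRaw S Y e) : e * e ∈ centralizer (vv (S : Subgroup G) : Set G) := by
  rw [mem_cent]
  intro v hv
  have h1 := h.conj_e hv
  rw [comm_iff_conj]
  have e1 : e * e * v * (e * e)⁻¹ = e * (e * v * e⁻¹) * e⁻¹ := by group
  rw [e1, h1]

/-- Elements of `S` inducing an involution act as `e`. -/
theorem conj_eq (h : YRaw S Y e) {s v : G} (hs : s ∈ (S : Subgroup G))
    (hs2 : s * s ∈ centralizer (vv (S : Subgroup G) : Set G))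
    (hs1 : s ∉ centralizer (vv (S : Subgroup G) : Set G)) (hv : v ∈ vv (S : Subgroup G)) :
    s * v * s⁻¹ = e * v * e⁻¹ :=
  conj_eq_of_cong (h.uniq s hs hs2 hs1) (h.conj_mem h.e_LL hv)

theorem act_comm (h : YRaw S Y e) {s : G} (hs : s ∈ (S : Subgroup G))
    (hs2 : s * s ∈ centralizer (vv (S : Subgroup G) : Set G))
    (hs1 : s ∉ centralizer (vv (S : Subgroup G) : Set G)) {v : G}
    (hv : v ∈ vv (S : Subgroup G)) : s * v * s⁻¹ * v⁻¹ ∈ Y := by
  rw [h.conj_eq hs hs2 hs1 hv]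
  exact h.comm v hv

theorem act_iff (h : YRaw S Y e) {s : G} (hs : s ∈ (S : Subgroup G))
    (hs2 : s * s ∈ centralizer (vv (S : Subgroup G) : Set G))
    (hs1 : s ∉ centralizer (vv (S : Subgroup G) : Set G)) {v : G}
    (hv : v ∈ vv (S : Subgroup G)) : s * v = v * s ↔ v ∈ Y := by
  rw [← h.fix v hv, comm_iff_conj, h.conj_eq hs hs2 hs1 hv, ← comm_iff_conj]

theorem act_mul (h : YRaw S Y e) {s t : G} (hs : s ∈ (S : Subgroup G)) (ht : t ∈ (S : Subgroup G))
    (hs2 : s * s ∈ centralizer (vv (S : Subgroup G) : Set G))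
    (ht2 : t * t ∈ centralizer (vv (S : Subgroup G) : Set G))
    (hs1 : s ∉ centralizer (vv (S : Subgroup G) : Set G))
    (ht1 : t ∉ centralizer (vv (S : Subgroup G) : Set G)) :
    s * t ∈ centralizer (vv (S : Subgroup G) : Set G) := by
  rw [mem_cent]
  intro v hv
  rw [comm_iff_conj]
  have e1 : s * t * v * (s * t)⁻¹ = s * (t * v * t⁻¹) * s⁻¹ := by group
  rw [e1, h.conj_eq ht ht2 ht1 hv, h.conj_eq hs hs2 hs1 (h.conj_mem h.e_LL hv), h.conj_e hv]

/-- If `e^l ∈ S` then `Y^l = Y`. -/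
theorem mem_normalizer (h : YRaw S Y e) {l : G} (hl : l ∈ LL (S : Subgroup G))
    (hel : l⁻¹ * e * l ∈ (S : Subgroup G)) : l ∈ normalizer (Y : Set G) := by
  refine mem_normalizer_of_cj_le ?_
  rintro _ ⟨y, hy, rfl⟩
  change l * y * l⁻¹ ∈ Y
  have hyV := h.Y_le hy
  have hlV := h.conj_mem hl hyV
  have hl' : l⁻¹ ∈ LL (S : Subgroup G) := inv_mem hl
  have h1 : l⁻¹ * e * l * (l⁻¹ * e * l) ∈ centralizer (vv (S : Subgroup G) : Set G) := by
    have h2 := (YDat.mem_centralizer_conj hl').2 h.e_sq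
    have e1 : l⁻¹ * (e * e) * l⁻¹⁻¹ = l⁻¹ * e * l * (l⁻¹ * e * l) := by group
    rwa [e1] at h2
  have h2 : l⁻¹ * e * l ∉ centralizer (vv (S : Subgroup G) : Set G) := by
    intro h3
    have e1 : l⁻¹ * e * l = l⁻¹ * e * l⁻¹⁻¹ := by group
    rw [e1, YDat.mem_centralizer_conj hl'] at h3
    exact h.e_not h3
  have h3 := (h.act_iff hel h1 h2 hyV).2 hy
  rw [← h.fix _ hlV]
  calc e * (l * y * l⁻¹) = l * (l⁻¹ * e * l * y) * l⁻¹ := by group
    _ = l * (y * (l⁻¹ * e * l)) * l⁻¹ := by rw [h3]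
    _ = l * y * l⁻¹ * e := by group

theorem S_le (h : YRaw S Y e) : (S : Subgroup G) ≤ normalizer (Y : Set G) := fun s hs =>
  h.mem_normalizer (h.sit.le_LL hs) (mul_mem (mul_mem (inv_mem hs) h.e_mem) hs)

theorem zc_le (h : YRaw S Y e) : zc (S : Subgroup G) ≤ Y := fun z hz =>
  (h.fix z (zc_le_vv _ hz)).1 ((ChoiceBase.mem_zc.1 hz).2.2 e h.e_mem)

/-- `C_L(Z) ≤ N_G(Y)` -/
theorem inf_le (h : YRaw S Y e) :
    LL (S : Subgroup G) ⊓ CC (S : Subgroup G) ≤ normalizer (Y : Set G) := by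
  obtain ⟨V, hVdef⟩ : ∃ V, V = vv (S : Subgroup G) := ⟨_, rfl⟩
  obtain ⟨L, hLdef⟩ : ∃ L, L = LL (S : Subgroup G) := ⟨_, rfl⟩
  obtain ⟨D, hDdef⟩ : ∃ D, D = LL (S : Subgroup G) ⊓ CC (S : Subgroup G) := ⟨_, rfl⟩
  have hLV : L ≤ normalizer (V : Set G) := by rw [hLdef, hVdef]
  have hDL : D ≤ L := by rw [hDdef, hLdef]; exact inf_le_left
  have hSL : (S : Subgroup G) ≤ L := hLdef ▸ h.sit.le_LL
  have hSD : (S : Subgroup G) ≤ D := hDdef ▸ le_inf h.sit.le_LL h.sit.le_CC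
  have hCD : centralizer (V : Set G) ≤ D := by
    rw [hDdef, hVdef]
    exact le_inf h.sit.centralizer_vv_le_LL h.sit.centralizer_vv_le_CC
  have hV2 : ∀ v ∈ V, v ^ 2 = 1 := fun v hv => vv_sq (S := S) (hVdef ▸ hv)
  have hVc : ∀ v ∈ V, ∀ w ∈ V, v * w = w * v := fun v hv w hw =>
    vv_comm (S := S) (hVdef ▸ hv) (hVdef ▸ hw)
  obtain ⟨φ, hφ⟩ : ∃ φ : L →* MulAut V, ∀ (a : L) (x : V), ((φ a x : V) : G) = a * x * (a : G)⁻¹ :=
    ⟨Lib.CoprimeHyperplane.conjHom hLV, fun a x => rfl⟩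
  have hker : ∀ a : L, φ a = 1 ↔ (a : G) ∈ centralizer (V : Set G) := by
    intro a
    rw [mem_centralizer_iff]
    constructor
    · intro h v hv
      have h1 := hφ a ⟨v, hv⟩
      rw [h, MulAut.one_apply] at h1
      change v = a * v * (a : G)⁻¹ at h1
      calc v * (a : G) = a * v * (a : G)⁻¹ * a := by rw [← h1]
        _ = a * v := by group
    · intro h
      ext x
      rw [MulAut.one_apply, hφ, ← h x x.2]
      group
  have hkD : φ.ker ≤ D.subgroupOf L := by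
    intro x hx
    rw [mem_subgroupOf]
    exact hCD ((hker x).1 hx)
  have hsol : Group.IsSolvable L := by
    rw [hLdef]
    exact h.sit.solv _ h.sit.isTwoLocal_LL
  have hsD : Group.IsSolvable (D.subgroupOf L) :=
    Group.isSolvable_of_isSolvable_injective (D.subgroupOf L).subtype_injective
  have hΓ : Group.IsSolvable ((D.subgroupOf L).map φ) :=
    Group.isSolvable_of_surjective (φ.subgroupMap_surjective (D.subgroupOf L))
  have hT : IsPGroup 2 (((S : Subgroup G).subgroupOf L).map φ) :=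
    (S.isPGroup'.comap_of_injective _ L.subtype_injective).map φ
  have hTi : ¬ 2 ∣ (((S : Subgroup G).subgroupOf L).map φ).relIndex ((D.subgroupOf L).map φ) := by
    intro h2
    rw [Subgroup.relIndex_map_map, sup_eq_left.2 hkD] at h2
    have h3 : (((S : Subgroup G).subgroupOf L) ⊔ φ.ker).relIndex (D.subgroupOf L) ∣
        ((S : Subgroup G).subgroupOf L).relIndex (D.subgroupOf L) :=
      Subgroup.relIndex_dvd_of_le_left _ le_sup_left
    have h4 : ((S : Subgroup G).subgroupOf L).relIndex (D.subgroupOf L) =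
        (S : Subgroup G).relIndex D := by
      rw [← Subgroup.relIndex_map_map_of_injective _ _ L.subtype_injective,
        subgroupOf_map_subtype, subgroupOf_map_subtype, inf_eq_left.2 hSL, inf_eq_left.2 hDL]
    rw [h4] at h3
    exact Basic.not_dvd_relIndex S hSD (h2.trans h3)
  have hmem : ∀ t ∈ ((S : Subgroup G).subgroupOf L).map φ,
      ∃ s, ∃ hs : s ∈ (S : Subgroup G), φ ⟨s, hSL hs⟩ = t := by
    rintro _ ⟨x, hx, rfl⟩
    exact ⟨x, hx, rfl⟩
  have heL : e ∈ L := hSL h.e_mem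
  have key := comm_of_unique (V := V) (Γ := (D.subgroupOf L).map φ)
    (T := ((S : Subgroup G).subgroupOf L).map φ) (e := φ ⟨e, heL⟩)
    (fun v w => Subtype.ext (hVc v v.2 w w.2)) (fun v => Subtype.ext (hV2 v v.2)) hΓ
    (Subgroup.map_mono (Subgroup.comap_mono hSD)) hT hTi ⟨_, h.e_mem, rfl⟩
    (fun h0 => h.e_not (by rw [← hVdef]; exact (hker _).1 h0)) ?_ ?_
  · -- conclusion
    intro d hd
    rw [← hDdef] at hd
    have hdL := hDL hd
    have h1 := key (φ ⟨d, hdL⟩) ⟨⟨d, hdL⟩, hd, rfl⟩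
    refine mem_normalizer_of_cj_le ?_
    rintro _ ⟨y, hy, rfl⟩
    change d * y * d⁻¹ ∈ Y
    have hyV : y ∈ V := hVdef ▸ h.Y_le hy
    have hdV : d * y * d⁻¹ ∈ V := (mem_normalizer_iff.1 (hLV hdL) y).1 hyV
    rw [← h.fix _ (hVdef ▸ hdV), comm_iff_conj]
    have h2 := congrArg (fun (f : MulAut V) => ((f ⟨y, hyV⟩ : V) : G)) h1
    simp only [MulAut.mul_apply, hφ] at h2
    rw [← h2, comm_iff_conj.1 ((h.fix y (h.Y_le hy)).2 hy)]
  · -- uniqueness
    intro t ht htt ht1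
    obtain ⟨s, hs, rfl⟩ := hmem t ht
    have h1 : s * s ∈ centralizer (V : Set G) := by
      rw [← map_mul, hker] at htt
      exact htt
    have h2 : s ∉ centralizer (V : Set G) := fun h3 => ht1 ((hker _).2 h3)
    rw [hVdef] at h1 h2
    ext x
    rw [hφ, hφ]
    exact h.conj_eq hs h1 h2 (hVdef ▸ x.2)
  · -- fixed points
    intro v hv γ hγ
    obtain ⟨d, hd, rfl⟩ := hγ
    have h1 : (v : G) ∈ zc (S : Subgroup G) := by
      refine h.sit.mem_zc_of_comm (hVdef ▸ v.2) fun s hs => ?_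
      have h2 := hv (φ ⟨s, hSL hs⟩) ⟨_, hs, rfl⟩
      rw [comm_iff_conj, ← hφ ⟨s, hSL hs⟩ v, h2]
    have h2 : (d : G) ∈ CC (S : Subgroup G) := by
      have : (d : G) ∈ D := hd
      rw [hDdef] at this
      exact this.2
    apply Subtype.ext
    rw [hφ, ← comm_iff_conj]
    exact (mem_centralizer_iff.1 h2 _ h1).symm

/-- `C_G(Z) ≤ N_G(Y)` -/
theorem CC_le (h : YRaw S Y e) : CC (S : Subgroup G) ≤ normalizer (Y : Set G) := by
  refine MinParabolic.le_of_forall h.sit.le_CC ?_ fun P hP hPC => ?_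
  · exact (le_inf (inf_le_right.trans h.sit.normalizer_self_le) inf_le_left).trans h.inf_le
  · by_cases hPL : P ≤ LL (S : Subgroup G)
    · exact (le_inf hPL hPC).trans h.inf_le
    · exact h.par P hP hPC hPL

end YRaw

/-- Elements outside `⟨F²⟩` of a cyclic group `⟨F⟩` of order 4 have the same fixed points as `F`. -/
theorem fix_of_cyclic {V : Type u} [Group V] {F E T : MulAut V} (hF : F * F = E) (hE : E * E = 1)
    {i : ℤ} (hT : T * F ^ i = 1) (hT1 : T ≠ 1) (hTE : T ≠ E) {v : V} (hv : T v = v) : F v = v := by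
  have hF4 : F ^ (4 : ℤ) = 1 := by
    rw [show (4 : ℤ) = (1 + 1) + (1 + 1) by norm_num, zpow_add, zpow_add, zpow_one, hF, hE]
  have hT' : T = F ^ (-i) := by rw [zpow_neg]; exact eq_inv_of_mul_eq_one_left hT
  have hodd : Odd i := by
    rw [← Int.not_even_iff_odd]
    rintro ⟨j, hj⟩
    rcases Int.even_or_odd j with ⟨k, hk⟩ | ⟨k, hk⟩
    · apply hT1
      rw [hT', hj, hk, show -(k + k + (k + k)) = 4 * (-k) by ring, zpow_mul, hF4, one_zpow]
    · apply hTE
      rw [hT', hj, hk, show -(2 * k + 1 + (2 * k + 1)) = 4 * (-k - 1) + (1 + 1) by ring, zpow_add,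
        zpow_mul, hF4, one_zpow, one_mul, zpow_add, zpow_one, hF]
  obtain ⟨k, hk⟩ := hodd
  have h1 : T ^ (-i) = F := by
    rw [hT', ← zpow_mul, hk, show -(2 * k + 1) * -(2 * k + 1) = 4 * (k ^ 2 + k) + 1 by ring,
      zpow_add, zpow_mul, hF4, one_zpow, one_mul, zpow_one]
  have h2 : T ∈ MulAction.stabilizer (MulAut V) v := by
    rw [MulAction.mem_stabilizer_iff]
    exact hv
  have h3 := Subgroup.zpow_mem _ h2 (-i)
  rw [h1, MulAction.mem_stabilizer_iff] at h3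
  exact h3

namespace YRaw

variable [Finite G] {S : Sylow 2 G} {Y : Subgroup G} {e : G}

/-- In the case `|Z| = 2`: the elements of `S` inducing on `V` neither `1` nor `e` have the same
fixed points as `S`. -/
theorem mem_zc (h : YRaw S Y e) {f : G} (hf : f ∈ (S : Subgroup G))
    (hfe : f * f * e⁻¹ ∈ centralizer (vv (S : Subgroup G) : Set G))
    (hfS : ∀ s ∈ (S : Subgroup G), ∃ i : ℤ,
      s * f ^ i ∈ centralizer (vv (S : Subgroup G) : Set G))
    {t v : G} (ht : t ∈ (S : Subgroup G)) (ht1 : t ∉ centralizer (vv (S : Subgroup G) : Set G))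
    (hte : t * e⁻¹ ∉ centralizer (vv (S : Subgroup G) : Set G)) (hv : v ∈ vv (S : Subgroup G))
    (htv : t * v = v * t) : v ∈ zc (S : Subgroup G) := by
  obtain ⟨φ, hφ⟩ : ∃ φ : LL (S : Subgroup G) →* MulAut (vv (S : Subgroup G)),
      ∀ (a : LL (S : Subgroup G)) (x : vv (S : Subgroup G)),
        ((φ a x : vv (S : Subgroup G)) : G) = a * x * (a : G)⁻¹ :=
    ⟨Lib.CoprimeHyperplane.conjHom le_rfl, fun a x => rfl⟩
  have hker : ∀ a : LL (S : Subgroup G), φ a = 1 ↔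
      (a : G) ∈ centralizer (vv (S : Subgroup G) : Set G) := by
    intro a
    rw [mem_cent]
    constructor
    · intro h v hv
      have h1 := hφ a ⟨v, hv⟩
      rw [h, MulAut.one_apply] at h1
      rw [comm_iff_conj]
      exact h1.symm
    · intro h
      ext x
      rw [MulAut.one_apply, hφ]
      exact comm_iff_conj.1 (h x x.2)
  have hS : ∀ {s : G}, s ∈ (S : Subgroup G) → s ∈ LL (S : Subgroup G) := fun hs => h.sit.le_LL hs
  obtain ⟨i, hi⟩ := hfS t ht
  have key := fix_of_cyclic (F := φ ⟨f, hS hf⟩) (E := φ ⟨e, hS h.e_mem⟩) (T := φ ⟨t, hS ht⟩)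
    (i := i) (v := ⟨v, hv⟩) ?_ ?_ ?_ ?_ ?_ ?_
  · refine h.sit.mem_zc_of_comm hv fun s hs => ?_
    obtain ⟨j, hj⟩ := hfS s hs
    have h1 : φ ⟨s, hS hs⟩ * (φ ⟨f, hS hf⟩) ^ j = 1 := by
      rw [← map_zpow, ← map_mul, hker]
      exact hj
    have h2 : φ ⟨s, hS hs⟩ = (φ ⟨f, hS hf⟩) ^ (-j) := by
      rw [zpow_neg]; exact eq_inv_of_mul_eq_one_left h1
    have h3 : φ ⟨f, hS hf⟩ ∈ MulAction.stabilizer (MulAut (vv (S : Subgroup G)))
        (⟨v, hv⟩ : vv (S : Subgroup G)) := by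
      rw [MulAction.mem_stabilizer_iff]
      exact key
    have h4 := Subgroup.zpow_mem _ h3 (-j)
    rw [← h2, MulAction.mem_stabilizer_iff] at h4
    have h5 := congrArg Subtype.val h4
    change ((φ ⟨s, hS hs⟩ ⟨v, hv⟩ : vv (S : Subgroup G)) : G) = v at h5
    rw [hφ] at h5
    exact comm_iff_conj.2 h5
  · rw [← map_mul, ← mul_inv_eq_one, ← map_inv, ← map_mul, hker]
    exact hfe
  · rw [← map_mul, hker]
    exact h.e_sq
  · rw [← map_zpow, ← map_mul, hker]
    exact hi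
  · rw [Ne, hker]
    exact ht1
  · rw [Ne, ← mul_inv_eq_one, ← map_inv, ← map_mul, hker]
    exact hte
  · apply Subtype.ext
    rw [hφ]
    exact comm_iff_conj.1 htv

theorem not_isPGroup_bot (h : YRaw S Y e) : Y ≠ ⊥ := by
  rintro rfl
  have := h.card_Y
  rw [card_bot] at this
  omega

/-- `Y ≤ cl z` for `z ∈ Z#`. -/
theorem le_cl_of_mem (h : YRaw S Y e) {u : G} (hu : u ∈ zc (S : Subgroup G)) (hu1 : u ≠ 1) :
    Y ≤ cl (S : Subgroup G) u := by
  have hSu : (S : Subgroup G) ≤ centralizer ({u} : Set G) := by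
    intro s hs
    rw [mem_centralizer_singleton_iff]
    exact (ChoiceBase.mem_zc.1 hu).2.2 s hs
  rcases h.alt with h1 | ⟨h1, -⟩
  · refine le_trans ?_ (h.sit.inf_centralizer_le (T := (S : Subgroup G)) (zc_le_vv _ hu) hu1
      (syl_of_le (le_inf h.sit.le_LL hSu)))
    refine le_inf h.Y_le fun y hy => ?_
    rw [← h1] at hy
    rw [mem_centralizer_iff]
    exact (ChoiceBase.mem_zc.1 hy).2.2
  · -- `Z = {1, u}`
    have h2 : centralizer ({u} : Set G) ≤ CC (S : Subgroup G) := by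
      intro x hx
      rw [mem_centralizer_singleton_iff] at hx
      rw [mem_centralizer_iff]
      intro w hw
      have hw' : w ∈ zc (S : Subgroup G) := hw
      have h3 : w = 1 ∨ w = u := by
        by_contra hc
        push Not at hc
        have h4 : 3 ≤ Nat.card (zc (S : Subgroup G)) := by
          classical
          have : Fintype (zc (S : Subgroup G)) := Fintype.ofFinite _
          rw [Nat.card_eq_fintype_card]
          refine le_trans ?_ (Finset.card_le_univ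
            ({(⟨1, one_mem _⟩ : zc (S : Subgroup G)), ⟨u, hu⟩, ⟨w, hw'⟩} : Finset _))
          rw [Finset.card_eq_three.2 ⟨_, _, _, ?_, ?_, ?_, rfl⟩]
          · exact fun h5 => hu1 (congrArg Subtype.val h5).symm
          · exact fun h5 => hc.1 (congrArg Subtype.val h5).symm
          · exact fun h5 => hc.2 (congrArg Subtype.val h5).symm
        omega
      rcases h3 with rfl | rfl
      · rw [one_mul, mul_one]
      · exact hx.symm
    have h3 : jy (S : Subgroup G) u ≤ centralizer (Y : Set G) := by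
      refine jcl_le fun g hg => ?_
      have h4 : jj (S : Subgroup G) ≤ centralizer (Y : Set G) := by
        intro x hx
        rw [mem_cent]
        intro y hy
        exact (mem_zj.1 (vv_le_zj _ (h.Y_le hy))).2.2 x hx
      have h5 := cj_mono g h4
      rwa [cj_centralizer, cj_eq_of_mem_normalizer (h.CC_le (h2 hg))] at h5
    intro y hy
    exact mem_cl.2 ⟨h.Y_le hy, fun j hj => mem_cent.1 (h3 hj) y hy⟩

/-- `Y ≤ cl u` for `u ∈ Y#`. -/
theorem le_cl (h : YRaw S Y e) {u : G} (hu : u ∈ Y) (hu1 : u ≠ 1) :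
    Y ≤ cl (S : Subgroup G) u := by
  by_cases huZ : u ∈ zc (S : Subgroup G)
  · exact h.le_cl_of_mem huZ hu1
  obtain ⟨h1, f, hf, hfe, hfS⟩ : Nat.card (zc (S : Subgroup G)) = 2 ∧
      ∃ f ∈ (S : Subgroup G), f * f * e⁻¹ ∈ centralizer (vv (S : Subgroup G) : Set G) ∧
        ∀ s ∈ (S : Subgroup G), ∃ i : ℤ,
          s * f ^ i ∈ centralizer (vv (S : Subgroup G) : Set G) := by
    rcases h.alt with h1 | h1
    · rw [h1] at huZ
      exact absurd hu huZ
    · exact h1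
  have huV := h.Y_le hu
  have hle : zpowers e ≤ LL (S : Subgroup G) ⊓ centralizer ({u} : Set G) := by
    rw [zpowers_le]
    exact mem_inf.2 ⟨h.e_LL, mem_centralizer_singleton_iff.2 ((h.fix u huV).2 hu)⟩
  have hp : IsPGroup 2 (zpowers e) := S.isPGroup'.to_le (by rw [zpowers_le]; exact h.e_mem)
  obtain ⟨T, hT, heT⟩ := exists_syl hp hle
  have heT : e ∈ T := heT (mem_zpowers e)
  obtain ⟨T', hT', hTT'⟩ := exists_syl hT.2.1 (hT.1.trans inf_le_left)
  obtain ⟨l, hl, rfl⟩ := syl_conj (syl_of_le h.sit.le_LL) hT'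
  have hlY : l ∈ normalizer (Y : Set G) := h.mem_normalizer hl (mem_cj.1 (hTT' heT))
  have hl' : l⁻¹ ∈ LL (S : Subgroup G) := inv_mem hl
  by_cases hall : ∀ t ∈ T, t ∈ centralizer (vv (S : Subgroup G) : Set G) ∨
      t * e⁻¹ ∈ centralizer (vv (S : Subgroup G) : Set G)
  · refine le_trans ?_ (h.sit.inf_centralizer_le huV hu1 hT)
    refine le_inf h.Y_le fun y hy => ?_
    rw [mem_centralizer_iff]
    intro t ht
    rcases hall t ht with h2 | h2
    · exact mem_cent.1 h2 y (h.Y_le hy)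
    · rw [comm_iff_conj, conj_eq_of_cong h2 (h.conj_mem h.e_LL (h.Y_le hy)), ← comm_iff_conj]
      exact (h.fix y (h.Y_le hy)).2 hy
  · push Not at hall
    obtain ⟨t, ht, ht1, hte⟩ := hall
    have htS : l⁻¹ * t * l ∈ (S : Subgroup G) := mem_cj.1 (hTT' ht)
    have ht1' : l⁻¹ * t * l ∉ centralizer (vv (S : Subgroup G) : Set G) := by
      intro h2
      have e1 : l⁻¹ * t * l = l⁻¹ * t * l⁻¹⁻¹ := by group
      rw [e1, YDat.mem_centralizer_conj hl'] at h2
      exact ht1 h2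
    have hte' : l⁻¹ * t * l * e⁻¹ ∉ centralizer (vv (S : Subgroup G) : Set G) := by
      intro h2
      apply hte
      -- `l⁻¹ e l ≡ e`
      have h3 : l⁻¹ * e * l * (l⁻¹ * e * l) ∈ centralizer (vv (S : Subgroup G) : Set G) := by
        have h2 := (YDat.mem_centralizer_conj hl').2 h.e_sq
        have e1 : l⁻¹ * (e * e) * l⁻¹⁻¹ = l⁻¹ * e * l * (l⁻¹ * e * l) := by group
        rwa [e1] at h2
      have h4 : l⁻¹ * e * l ∉ centralizer (vv (S : Subgroup G) : Set G) := by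
        intro h3
        have e1 : l⁻¹ * e * l = l⁻¹ * e * l⁻¹⁻¹ := by group
        rw [e1, YDat.mem_centralizer_conj hl'] at h3
        exact h.e_not h3
      have h5 := h.uniq _ (mem_cj.1 (hTT' heT)) h3 h4
      have h6 := mul_mem h2 (inv_mem h5)
      have e1 : l⁻¹ * t * l * e⁻¹ * (l⁻¹ * e * l * e⁻¹)⁻¹ = l⁻¹ * (t * e⁻¹) * l⁻¹⁻¹ := by group
      rwa [e1, YDat.mem_centralizer_conj hl'] at h6
    have hu' : l⁻¹ * u * l ∈ vv (S : Subgroup G) := by
      have := h.conj_mem hl' huV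
      rwa [inv_inv] at this
    have htu : t * u = u * t := mem_centralizer_singleton_iff.1 (hT.1 ht).2
    have h2 := h.mem_zc hf hfe hfS htS ht1' hte' hu' (by
      have e1 : l⁻¹ * t * l * (l⁻¹ * u * l) = l⁻¹ * (t * u) * l := by group
      have e2 : l⁻¹ * u * l * (l⁻¹ * t * l) = l⁻¹ * (u * t) * l := by group
      rw [e1, e2, htu])
    have h3 := h.le_cl_of_mem h2 (by
      have := cj_ne_one (g := l⁻¹) hu1
      rwa [inv_inv] at this)
    have h4 := cj_mono l h3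
    have e1 : l * (l⁻¹ * u * l) * l⁻¹ = u := by group
    rwa [cj_cl hl hu', e1, cj_eq_of_mem_normalizer hlY] at h4

/-- `cl u = V` for `u ∈ V` in no conjugate of `Y`. -/
theorem vv_le_cl (h : YRaw S Y e) {u : G} (hu : u ∈ vv (S : Subgroup G)) (hu1 : u ≠ 1)
    (hc : ∀ g ∈ LL (S : Subgroup G), u ∉ cj g Y) :
    vv (S : Subgroup G) ≤ cl (S : Subgroup G) u := by
  obtain ⟨T, hT, -⟩ := exists_syl (IsPGroup.of_bot (p := 2) (G := G))
    (bot_le : ⊥ ≤ LL (S : Subgroup G) ⊓ centralizer ({u} : Set G))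
  obtain ⟨T', hT', hTT'⟩ := exists_syl hT.2.1 (hT.1.trans inf_le_left)
  obtain ⟨l, hl, rfl⟩ := syl_conj (syl_of_le h.sit.le_LL) hT'
  have hl' : l⁻¹ ∈ LL (S : Subgroup G) := inv_mem hl
  have hu' : l⁻¹ * u * l ∈ vv (S : Subgroup G) := by
    have := h.conj_mem hl' hu
    rwa [inv_inv] at this
  -- involutions of `T` modulo `C(V)`
  have key : ∀ t ∈ T, t * t ∈ centralizer (vv (S : Subgroup G) : Set G) →
      t ∈ centralizer (vv (S : Subgroup G) : Set G) := by
    intro t ht htt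
    by_contra ht1
    have h1 : l⁻¹ * t * l * (l⁻¹ * t * l) ∈ centralizer (vv (S : Subgroup G) : Set G) := by
      have h2 := (YDat.mem_centralizer_conj hl').2 htt
      have e1 : l⁻¹ * (t * t) * l⁻¹⁻¹ = l⁻¹ * t * l * (l⁻¹ * t * l) := by group
      rwa [e1] at h2
    have h2 : l⁻¹ * t * l ∉ centralizer (vv (S : Subgroup G) : Set G) := by
      intro h3
      have e1 : l⁻¹ * t * l = l⁻¹ * t * l⁻¹⁻¹ := by group
      rw [e1, YDat.mem_centralizer_conj hl'] at h3
      exact ht1 h3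
    have htu : t * u = u * t := mem_centralizer_singleton_iff.1 (hT.1 ht).2
    have h3 := (h.act_iff (mem_cj.1 (hTT' ht)) h1 h2 hu').1 (by
      have e1 : l⁻¹ * t * l * (l⁻¹ * u * l) = l⁻¹ * (t * u) * l := by group
      have e2 : l⁻¹ * u * l * (l⁻¹ * t * l) = l⁻¹ * (u * t) * l := by group
      rw [e1, e2, htu])
    exact hc l hl (mem_cj.2 h3)
  have key2 : ∀ n : ℕ, ∀ t ∈ T, t ^ 2 ^ n ∈ centralizer (vv (S : Subgroup G) : Set G) →
      t ∈ centralizer (vv (S : Subgroup G) : Set G) := by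
    intro n
    induction n with
    | zero => intro t _ h1; rwa [pow_zero, pow_one] at h1
    | succ n ih =>
      intro t ht h1
      rw [pow_succ, pow_mul, pow_two] at h1
      exact ih t ht (key _ (pow_mem ht _) h1)
  have hTC : T ≤ centralizer (vv (S : Subgroup G) : Set G) := by
    intro t ht
    obtain ⟨n, hn⟩ := hT.2.1 ⟨t, ht⟩
    have hn' : t ^ 2 ^ n = 1 := congrArg Subtype.val hn
    exact key2 n t ht (by rw [hn']; exact one_mem _)
  refine le_trans ?_ (h.sit.inf_centralizer_le hu hu1 hT)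
  refine le_inf le_rfl fun v hv => ?_
  rw [mem_centralizer_iff]
  exact fun t ht => mem_cent.1 (hTC ht) v hv

theorem ydat (h : YRaw S Y e) : YDat S (vv (S : Subgroup G)) Y where
  V_le := vv_le_zj _
  nj_le := h.sit.normalizer_le_LL
  card_V := h.card_V
  Y_le := h.Y_le
  card_Y := h.card_Y
  S_le := h.S_le
  gen := fun H hH => h.sit.vv_le_of_forall fun g hg => (cj_mono g h.zc_le).trans (hH g hg)
  closed := fun u hu hu1 => (h.le_cl hu hu1).trans (by rw [cl_eq]; exact inf_le_right)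
  hull := fun u hu hu1 hc => (h.vv_le_cl hu hu1 hc).trans (by rw [cl_eq]; exact inf_le_right)
  not_le := by
    obtain ⟨⟨z, hz⟩, hz1⟩ := ne_bot_iff_exists_ne_one.1 h.sit.zc_ne_bot
    have hz1 : z ≠ 1 := fun h0 => hz1 (Subtype.ext h0)
    refine ⟨z, h.zc_le hz, hz1, fun h1 => h.sit.not_CC_le (le_trans ?_ h1)⟩
    exact centralizer_le (Set.singleton_subset_iff.2 hz)
  solv := h.sit.solv _ ⟨Y, isPGroup_vv.to_le h.Y_le, h.not_isPGroup_bot, rfl⟩
  act_comm' := fun s hs hs2 hs1 v hv => h.act_comm hs hs2 hs1 hv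
  act_iff' := fun s hs hs2 hs1 v hv => h.act_iff hs hs2 hs1 hv
  act_mul' := fun s hs t ht hs2 ht2 hs1 ht1 => h.act_mul hs ht hs2 ht2 hs1 ht1
  V1 := YCore.exists_fixed_coset S.isPGroup' isPGroup_vv h.Y_le (fun h0 => by
    have := h.card_Y
    rw [h0, h.card_V] at this
    omega) h.sit.le_LL h.S_le (by
    intro v hv
    rw [mem_normalizer_iff_cj]
    refine eq_of_le_of_card_ge ?_ (card_cj _ _).ge
    rintro _ ⟨y, hy, rfl⟩
    change v * y * v⁻¹ ∈ Y
    rw [vv_comm hv (h.Y_le hy), mul_inv_cancel_right]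
    exact hy)

/-- `⟨N_G(Y), N_G(V)⟩` is not 2-local. -/
theorem core (h : YRaw S Y e) (X : Subgroup G) (hX : IsPGroup 2 X)
    (h1 : normalizer (Y : Set G) ≤ normalizer (X : Set G))
    (h2 : normalizer (vv (S : Subgroup G) : Set G) ≤ normalizer (X : Set G)) : X = ⊥ := by
  by_contra hX1
  exact h.sit.not_local ⟨X, hX, hX1, rfl⟩ (h.CC_le.trans h1) (h.sit.normalizer_le_LL.trans h2)

theorem le_o2 (h : YRaw S Y e) : vv (S : Subgroup G) ≤ o2 (normalizer (Y : Set G)) :=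
  YCore.le_o2' h.ydat h.sit.char2

end YRaw

end Cfsg.Agent.MinSimple.EmptyE.YOf
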