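import Cfsg.Agent.MinSimple.EmptyE.YOf
import Cfsg.Agent.MinSimple.EmptyE.YPts

/-!
# The case "(Empty)", Theorem E, Step 6: summary

`pts_of_raw` : the case (Y) of Step 5 gives the points/blocks geometry of Step 7.
-/

set_option autoImplicit false

namespace Cfsg.Agent.MinSimple.EmptyE.YRawPts

open Subgroup Cfsg Cfsg.Agent.ZN
open Cfsg.Agent.MinSimple.EmptySix Cfsg.Agent.MinSimple.EmptyE.YOf Cfsg.Agent.MinSimple.EmptyE.YPts

universe u

variable {G : Type u} [Group G] [Finite G]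

/-- **Step 6 of Theorem E.** -/
theorem pts_of_raw {S : Sylow 2 G} {Y : Subgroup G} {e : G} (h : YRaw S Y e) :
    CountDefs.Pts (cjs Y) (cjs (vv (S : Subgroup G))) :=
  pts h.ydat h.le_o2 h.core

end Cfsg.Agent.MinSimple.EmptyE.YRawPts
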