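import Cfsg.Agent.MinSimple.EmptySix

/-!
# The case "(Empty)", Theorem E, Step 6: the subgroup `Y`

`V ≤ Z_J` elementary abelian of order 16, `L = N_G(V) ≥ N_G(J)`, `Y ≤ V` of order 4 such that
`J_u = ⟨J^{C_G(u)}⟩` centralizes `Y` for `u ∈ Y#` and centralizes `V` for the elements `u` of `V` in
no `L`-conjugate of `Y`.

* `YIn` : the hypotheses;
* `eq_inf` : `Y = C_V(J_Y)`, `J_Y = ⟨J^{C_G(Y)}⟩`;
* `normalizer_jY` : `N_G(J_Y) = N_G(Y)`;
* `cent_le` : `C_G(u) ≤ N_G(Y)` for `u ∈ Y#`;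
* `ti` : `Y` is a TI-subgroup;
* `cent_le_V` : `C_G(u) ≤ N_G(V)` for `u ∈ V#` in no conjugate of `Y`;
* `cj_le` : a conjugate of `Y` meeting `V` nontrivially is an `L`-conjugate of `Y`;
* `sup_eq` : `V = Y × Y^g`.
-/

set_option autoImplicit false

namespace Cfsg.Agent.MinSimple.EmptyE.YSet

open Subgroup Cfsg Cfsg.Agent.ZN Cfsg.Agent.ZN.ChoiceBase Cfsg.Agent.ZN.ChoiceSit
open Cfsg.Agent.MinSimple.EmptyTI Cfsg.Agent.MinSimple.EmptySix

universe u

variable {G : Type u} [Group G]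

/-- The input of Step 6. -/
structure YIn (S : Sylow 2 G) (V Y : Subgroup G) : Prop where
  V_le : V ≤ zj (S : Subgroup G)
  nj_le : normalizer (jj (S : Subgroup G) : Set G) ≤ normalizer (V : Set G)
  card_V : Nat.card V = 16
  Y_le : Y ≤ V
  card_Y : Nat.card Y = 4
  S_le : (S : Subgroup G) ≤ normalizer (Y : Set G)
  gen : ∀ H : Subgroup G, (∀ g ∈ normalizer (V : Set G), cj g Y ≤ H) → V ≤ H
  closed : ∀ u ∈ Y, u ≠ 1 → Y ≤ iy (S : Subgroup G) u
  hull : ∀ u ∈ V, u ≠ 1 → (∀ g ∈ normalizer (V : Set G), u ∉ cj g Y) →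
    V ≤ iy (S : Subgroup G) u
  not_le : ∃ z ∈ Y, z ≠ 1 ∧ ¬ centralizer ({z} : Set G) ≤ normalizer (V : Set G)

/-- `J_Y = ⟨J^{C_G(Y)}⟩` -/
abbrev jY (S : Subgroup G) (Y : Subgroup G) : Subgroup G := jcl (jj S) (centralizer (Y : Set G))

section

variable [Finite G] {S : Sylow 2 G} {V : Subgroup G}

/-- If `V ≤ I_u` then `N_G(J_u) ≤ N_G(V)`. -/
theorem normalizer_jy_le (hn : normalizer (jj (S : Subgroup G) : Set G) ≤ normalizer (V : Set G))
    {u : G} (hV : V ≤ iy (S : Subgroup G) u) :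
    normalizer ((jy (S : Subgroup G) u : Subgroup G) : Set G) ≤ normalizer (V : Set G) := by
  have h1 : jj (S : Subgroup G) ≤ jy (S : Subgroup G) u := le_jcl _ _
  have h2 : jy (S : Subgroup G) u ≤ centralizer (V : Set G) := by
    intro x hx
    rw [mem_centralizer_iff]
    intro v hv
    exact (icl_comm (hV hv) hx).symm
  refine (frattini_jcl S (h1.trans le_normalizer)).trans (sup_le ?_ ?_)
  · refine le_trans (jcl_le fun g hg => ?_) (h2.trans (centralizer_le_normalizer _))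
    have h3 := cj_mono g h1
    rwa [cj_eq_of_mem_normalizer hg] at h3
  · exact inf_le_right.trans hn

theorem centralizer_le_of_iy
    (hn : normalizer (jj (S : Subgroup G) : Set G) ≤ normalizer (V : Set G))
    {u : G} (hV : V ≤ iy (S : Subgroup G) u) :
    centralizer ({u} : Set G) ≤ normalizer (V : Set G) :=
  (le_normalizer_jcl _ _).trans (normalizer_jy_le hn hV)

end

theorem cj_ne_one {g u : G} (hu : u ≠ 1) : g * u * g⁻¹ ≠ 1 := fun h0 => hu (by
  have e : u = g⁻¹ * (g * u * g⁻¹) * g := by group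
  rw [e, h0]; group)

theorem mem_cj_conj {g u : G} {H : Subgroup G} (hu : u ∈ H) : g * u * g⁻¹ ∈ cj g H := by
  rw [mem_cj]
  have e : g⁻¹ * (g * u * g⁻¹) * g = u := by group
  rwa [e]

namespace YIn

variable [Finite G] {S : Sylow 2 G} {V Y : Subgroup G}

omit [Finite G] in
theorem comm (h : YIn S V Y) {v w : G} (hv : v ∈ V) (hw : w ∈ V) : v * w = w * v :=
  zj_comm' (h.V_le hv) (h.V_le hw)

omit [Finite G] in
theorem sq (h : YIn S V Y) {v : G} (hv : v ∈ V) : v ^ 2 = 1 := (mem_zj.1 (h.V_le hv)).2.1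

omit [Finite G] in
theorem S_le_V (h : YIn S V Y) : (S : Subgroup G) ≤ normalizer (V : Set G) :=
  (le_normalizer.trans (Basic.normalizer_le_normalizer_jj _)).trans h.nj_le

omit [Finite G] in
theorem Y_le_zj (h : YIn S V Y) : Y ≤ zj (S : Subgroup G) := h.Y_le.trans h.V_le

/-- `J_u = J_Y` for `u ∈ Y#`. -/
theorem jy_eq (h : YIn S V Y) {u : G} (hu : u ∈ Y) (hu1 : u ≠ 1) :
    jy (S : Subgroup G) u = jY (S : Subgroup G) Y := by
  apply le_antisymm
  · have h1 : jy (S : Subgroup G) u ≤ centralizer (Y : Set G) := by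
      intro x hx
      rw [mem_centralizer_iff]
      intro v hv
      exact (icl_comm (h.closed u hu hu1 hv) hx).symm
    refine le_trans (jcl_jcl S (jj_le_centralizer (h.Y_le_zj hu))).ge ?_
    exact jcl_mono h1
  · refine jcl_mono (centralizer_le ?_)
    exact Set.singleton_subset_iff.2 hu

theorem iy_eq (h : YIn S V Y) {u : G} (hu : u ∈ Y) (hu1 : u ≠ 1) :
    iy (S : Subgroup G) u = icl (S : Subgroup G) (centralizer (Y : Set G)) := by
  have h1 : jcl (jj (S : Subgroup G)) (centralizer ({u} : Set G)) = jY (S : Subgroup G) Y :=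
    h.jy_eq hu hu1
  rw [iy, icl, h1, icl]

/-- Conjugation by elements of `N_G(V)`. -/
theorem cj_jY (h : YIn S V Y) {g u : G} (hg : g * u * g⁻¹ ∈ V) (hu : u ∈ Y) (hu1 : u ≠ 1) :
    cj g (jY (S : Subgroup G) Y) = jy (S : Subgroup G) (g * u * g⁻¹) := by
  rw [← h.jy_eq hu hu1]
  exact cj_jy (h.Y_le_zj hu) (h.V_le hg)

omit [Finite G] in
theorem conj_mem (_ : YIn S V Y) {g v : G} (hg : g ∈ normalizer (V : Set G)) (hv : v ∈ V) :
    g * v * g⁻¹ ∈ V := (mem_normalizer_iff.1 hg v).1 hv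

omit [Finite G] in
theorem cj_Y_le (h : YIn S V Y) {g : G} (hg : g ∈ normalizer (V : Set G)) : cj g Y ≤ V := by
  have h1 := cj_mono g h.Y_le
  rwa [cj_eq_of_mem_normalizer hg] at h1

omit [Finite G] in
theorem exists_mem (h : YIn S V Y) : ∃ u ∈ Y, u ≠ 1 := by
  obtain ⟨z, hz, hz1, -⟩ := h.not_le
  exact ⟨z, hz, hz1⟩

/-- `C_V(J_Y)` -/
theorem Y_le_icl (h : YIn S V Y) : Y ≤ icl (S : Subgroup G) (centralizer (Y : Set G)) := by
  obtain ⟨z, hz, hz1, -⟩ := h.not_le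
  rw [← h.iy_eq hz hz1]
  exact h.closed z hz hz1

theorem not_V_le (h : YIn S V Y) : ¬ V ≤ icl (S : Subgroup G) (centralizer (Y : Set G)) := by
  obtain ⟨z, hz, hz1, hn⟩ := h.not_le
  intro h1
  rw [← h.iy_eq hz hz1] at h1
  exact hn (centralizer_le_of_iy h.nj_le h1)

theorem jy_eq_of_mem (h : YIn S V Y) {w : G}
    (hw : w ∈ V ⊓ icl (S : Subgroup G) (centralizer (Y : Set G))) (hw1 : w ≠ 1) :
    jy (S : Subgroup G) w = jY (S : Subgroup G) Y := by
  obtain ⟨z, hz, hz1, hn⟩ := h.not_le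
  have h1 : w ∈ iy (S : Subgroup G) z := by rw [h.iy_eq hz hz1]; exact hw.2
  have h2 : jy (S : Subgroup G) z ≤ jy (S : Subgroup G) w := jy_le_jy (h.Y_le_zj hz) h1
  by_cases hc : ∀ g ∈ normalizer (V : Set G), w ∉ cj g Y
  · exfalso
    have h3 := h.hull w hw.1 hw1 hc
    have h4 := h3.trans (iy_le_iy (h.Y_le_zj hz) h1)
    rw [h.iy_eq hz hz1] at h4
    exact h.not_V_le h4
  · push Not at hc
    obtain ⟨g, hg, hwg⟩ := hc
    have h3 := mem_cj.1 hwg
    have e : g * (g⁻¹ * w * g) * g⁻¹ = w := by group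
    have h5 : g⁻¹ * w * g ≠ 1 := by
      have := cj_ne_one (g := g⁻¹) hw1
      rwa [inv_inv] at this
    have h4 := h.cj_jY (g := g) (u := g⁻¹ * w * g) (by rw [e]; exact hw.1) h3 h5
    rw [e] at h4
    rw [h.jy_eq hz hz1] at h2
    refine (eq_of_le_of_card_ge h2 ?_).symm
    rw [← h4, card_cj]

theorem normalizer_le_icl (Y : Subgroup G) :
    normalizer ((jY (S : Subgroup G) Y : Subgroup G) : Set G) ≤
      normalizer ((icl (S : Subgroup G) (centralizer (Y : Set G)) : Subgroup G) : Set G) := by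
  intro g hg
  rw [mem_normalizer_iff_cj] at hg ⊢
  rw [icl_eq, ← zc_cj, hg]

/-- `C_V(J_Y) = Y` -/
theorem eq_inf (h : YIn S V Y) :
    V ⊓ icl (S : Subgroup G) (centralizer (Y : Set G)) = Y := by
  obtain ⟨H, hH⟩ : ∃ H, H = V ⊓ icl (S : Subgroup G) (centralizer (Y : Set G)) := ⟨_, rfl⟩
  have hYH : Y ≤ H := hH ▸ le_inf h.Y_le h.Y_le_icl
  -- TI in `N(V)`
  have hti : ∀ g ∈ normalizer (V : Set G), H ⊓ cj g H ≠ ⊥ → cj g H = H := by
    intro g hg h0
    obtain ⟨⟨w, hw⟩, hw1⟩ := ne_bot_iff_exists_ne_one.1 h0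
    have hw1 : w ≠ 1 := fun h0 => hw1 (Subtype.ext h0)
    have hwH : w ∈ V ⊓ icl (S : Subgroup G) (centralizer (Y : Set G)) := hH ▸ hw.1
    have hw2 : g⁻¹ * w * g ∈ V ⊓ icl (S : Subgroup G) (centralizer (Y : Set G)) :=
      hH ▸ mem_cj.1 hw.2
    have hw3 : g⁻¹ * w * g ≠ 1 := by
      have := cj_ne_one (g := g⁻¹) hw1
      rwa [inv_inv] at this
    have e : g * (g⁻¹ * w * g) * g⁻¹ = w := by group
    have h1 : cj g (jy (S : Subgroup G) (g⁻¹ * w * g)) = jy (S : Subgroup G) w := by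
      have := cj_jy (S := S) (h.V_le hw2.1) (g := g) (by rw [e]; exact h.V_le hwH.1)
      rwa [e] at this
    rw [h.jy_eq_of_mem hw2 hw3, h.jy_eq_of_mem hwH hw1] at h1
    have h2 := normalizer_le_icl (S := S) Y (mem_normalizer_iff_cj.2 h1)
    rw [hH, cj_inf, cj_eq_of_mem_normalizer hg, cj_eq_of_mem_normalizer h2]
  obtain ⟨g, hg, hgH⟩ : ∃ g ∈ normalizer (V : Set G), cj g H ≠ H := by
    by_contra hc
    push Not at hc
    have h1 : V ≤ H := h.gen H fun g hg => by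
      have := cj_mono g hYH
      rwa [hc g hg] at this
    exact h.not_V_le (h1.trans (hH ▸ inf_le_right))
  have h1 : H ⊓ cj g H = ⊥ := by
    by_contra h0
    exact hgH (hti g hg h0)
  have hHV : H ≤ V := hH ▸ inf_le_left
  have hHV' : cj g H ≤ V := by
    have := cj_mono g hHV
    rwa [cj_eq_of_mem_normalizer hg] at this
  have h2 : Nat.card H * Nat.card (cj g H) ≤ Nat.card V := by
    rw [← Nat.card_prod]
    refine Nat.card_le_card_of_injective
      (fun x : ↥H × ↥(cj g H) => (⟨x.1 * x.2, mul_mem (hHV x.1.2) (hHV' x.2.2)⟩ : V)) ?_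
    rintro ⟨a, b⟩ ⟨a', b'⟩ hab
    have h3 : (a : G) * b = a' * b' := congrArg Subtype.val hab
    have h4 : (a' : G)⁻¹ * a = b' * (b : G)⁻¹ := by
      rw [eq_mul_inv_iff_mul_eq, mul_assoc, h3]; group
    have h5 : (a' : G)⁻¹ * a ∈ H ⊓ cj g H :=
      mem_inf.2 ⟨mul_mem (inv_mem a'.2) a.2, by rw [h4]; exact mul_mem b'.2 (inv_mem b.2)⟩
    have h6 := h5
    rw [h1, mem_bot] at h5
    rw [h4, h1, mem_bot] at h6
    rw [inv_mul_eq_one] at h5
    rw [mul_inv_eq_one] at h6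
    exact Prod.ext (Subtype.ext h5.symm) (Subtype.ext h6.symm)
  rw [card_cj, h.card_V] at h2
  rw [← hH]
  refine (eq_of_le_of_card_ge hYH ?_).symm
  rw [h.card_Y]
  nlinarith

/-- `N_G(Y) ≤ N_G(J_Y)` -/
theorem normalizer_le (h : YIn S V Y) :
    normalizer (Y : Set G) ≤ normalizer ((jY (S : Subgroup G) Y : Subgroup G) : Set G) := by
  obtain ⟨z, hz, hz1⟩ := h.exists_mem
  intro g hg
  have h1 : g * z * g⁻¹ ∈ Y := (mem_normalizer_iff.1 hg z).1 hz
  rw [mem_normalizer_iff_cj, h.cj_jY (h.Y_le h1) hz hz1]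
  exact h.jy_eq h1 (cj_ne_one hz1)

omit [Finite G] in
theorem jY_le (h : YIn S V Y) : jY (S : Subgroup G) Y ≤ centralizer (Y : Set G) :=
  jcl_le_self (fun x hx => by
    rw [mem_centralizer_iff]
    intro y hy
    exact ((mem_zj.1 (h.Y_le_zj hy)).2.2 x hx).symm)

/-- `N_G(J_Y) = N_G(Y)` -/
theorem normalizer_jY (h : YIn S V Y) :
    normalizer ((jY (S : Subgroup G) Y : Subgroup G) : Set G) = normalizer (Y : Set G) := by
  refine le_antisymm ?_ h.normalizer_le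
  have h1 : jj (S : Subgroup G) ≤ jY (S : Subgroup G) Y := le_jcl _ _
  refine (frattini_jcl S (h1.trans le_normalizer)).trans (sup_le ?_ ?_)
  · refine le_trans (jcl_le fun g hg => ?_) (h.jY_le.trans (centralizer_le_normalizer _))
    have h3 := cj_mono g h1
    rwa [cj_eq_of_mem_normalizer hg] at h3
  · intro g hg
    have h2 := cj_eq_of_mem_normalizer (h.nj_le (mem_inf.1 hg).2)
    have h3 := cj_eq_of_mem_normalizer (normalizer_le_icl (S := S) Y (mem_inf.1 hg).1)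
    rw [mem_normalizer_iff_cj]
    conv_lhs => rw [← h.eq_inf]
    rw [cj_inf, h2, h3, h.eq_inf]

/-- `N_G(Y) = J_Y (N_G(Y) ∩ N_G(J))` -/
theorem frattini (h : YIn S V Y) : normalizer (Y : Set G) ≤
    jY (S : Subgroup G) Y ⊔ (normalizer (Y : Set G) ⊓ normalizer (jj (S : Subgroup G) : Set G)) := by
  have h1 : jj (S : Subgroup G) ≤ jY (S : Subgroup G) Y := le_jcl _ _
  have h2 : jj (S : Subgroup G) ≤ normalizer (Y : Set G) :=
    (h1.trans h.jY_le).trans (centralizer_le_normalizer _)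
  refine (frattini_jcl S h2).trans (sup_le_sup_right ?_ _)
  refine jcl_le fun g hg => ?_
  rw [← h.normalizer_jY] at hg
  have h3 := cj_mono g h1
  rwa [cj_eq_of_mem_normalizer hg] at h3

/-- `C_G(u) ≤ N_G(Y)` for `u ∈ Y#`. -/
theorem cent_le (h : YIn S V Y) {u : G} (hu : u ∈ Y) (hu1 : u ≠ 1) :
    centralizer ({u} : Set G) ≤ normalizer (Y : Set G) := by
  rw [← h.normalizer_jY, ← h.jy_eq hu hu1]
  exact le_normalizer_jcl _ _

/-- `C_G(u) ≤ N_G(V)` for the elements `u` of `V` in no conjugate of `Y`. -/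
theorem cent_le_V (h : YIn S V Y) {u : G} (hu : u ∈ V) (hu1 : u ≠ 1)
    (hY : ∀ g ∈ normalizer (V : Set G), u ∉ cj g Y) :
    centralizer ({u} : Set G) ≤ normalizer (V : Set G) :=
  centralizer_le_of_iy h.nj_le (h.hull u hu hu1 hY)

/-- `Y` is a TI-subgroup of `G`. -/
theorem ti (h : YIn S V Y) {g : G} (hg : Y ⊓ cj g Y ≠ ⊥) : cj g Y = Y := by
  obtain ⟨⟨w, hw⟩, hw1⟩ := ne_bot_iff_exists_ne_one.1 hg
  have hw1 : w ≠ 1 := fun h0 => hw1 (Subtype.ext h0)
  have hw2 := mem_cj.1 hw.2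
  have hw3 : g⁻¹ * w * g ≠ 1 := by
    have := cj_ne_one (g := g⁻¹) hw1
    rwa [inv_inv] at this
  have e : g * (g⁻¹ * w * g) * g⁻¹ = w := by group
  have h1 := h.cj_jY (g := g) (u := g⁻¹ * w * g) (by rw [e]; exact h.Y_le hw.1) hw2 hw3
  rw [e, h.jy_eq hw.1 hw1] at h1
  have h2 : g ∈ normalizer (Y : Set G) := by
    rw [← h.normalizer_jY]
    exact mem_normalizer_iff_cj.2 h1
  exact cj_eq_of_mem_normalizer h2

/-- A conjugate of `Y` meeting `V` nontrivially is an `N_G(V)`-conjugate of `Y`. -/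
theorem exists_cj (h : YIn S V Y) {g : G} (hg : V ⊓ cj g Y ≠ ⊥) :
    ∃ l ∈ normalizer (V : Set G), cj g Y = cj l Y := by
  obtain ⟨⟨w, hw⟩, hw1⟩ := ne_bot_iff_exists_ne_one.1 hg
  have hw1 : w ≠ 1 := fun h0 => hw1 (Subtype.ext h0)
  by_cases hc : ∀ l ∈ normalizer (V : Set G), w ∉ cj l Y
  · have h1 := h.hull w hw.1 hw1 hc
    have h2 := normalizer_jy_le h.nj_le h1
    have hw2 := mem_cj.1 hw.2
    have hw3 : g⁻¹ * w * g ≠ 1 := by
      have := cj_ne_one (g := g⁻¹) hw1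
      rwa [inv_inv] at this
    have e : g * (g⁻¹ * w * g) * g⁻¹ = w := by group
    have h3 := h.cj_jY (g := g) (u := g⁻¹ * w * g) (by rw [e]; exact hw.1) hw2 hw3
    rw [e] at h3
    have h4 : cj g (jj (S : Subgroup G)) ≤ jy (S : Subgroup G) w := by
      rw [← h3]
      exact cj_mono g (le_jcl _ _)
    obtain ⟨x, hx, hxg⟩ := exists_conj_jj S (le_jcl (jj (S : Subgroup G)) _) h4
    have hxV : x ∈ normalizer (V : Set G) := h2 (le_normalizer hx)
    have h5 : x⁻¹ * g ∈ normalizer (jj (S : Subgroup G) : Set G) := by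
      rw [mem_normalizer_iff_cj, ← cj_cj, ← hxg, cj_inv_cj]
    have h6 : g ∈ normalizer (V : Set G) := by
      have := mul_mem hxV (h.nj_le h5)
      rwa [mul_inv_cancel_left] at this
    exact absurd hw.2 (hc g h6)
  · push Not at hc
    obtain ⟨l, hl, hwl⟩ := hc
    refine ⟨l, hl, ?_⟩
    have h1 : Y ⊓ cj (l⁻¹ * g) Y ≠ ⊥ := by
      intro h0
      have h2 : l⁻¹ * w * l ∈ Y ⊓ cj (l⁻¹ * g) Y := by
        refine mem_inf.2 ⟨mem_cj.1 hwl, ?_⟩
        rw [mem_cj]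
        have e : (l⁻¹ * g)⁻¹ * (l⁻¹ * w * l) * (l⁻¹ * g) = g⁻¹ * w * g := by group
        rw [e]
        exact mem_cj.1 hw.2
      rw [h0, mem_bot] at h2
      exact hw1 (by
        have e : w = l * (l⁻¹ * w * l) * l⁻¹ := by group
        rw [e, h2]; group)
    have h2 := congrArg (cj l) (h.ti h1)
    rwa [cj_cj, mul_inv_cancel_left] at h2

theorem cj_le (h : YIn S V Y) {g : G} (hg : V ⊓ cj g Y ≠ ⊥) : cj g Y ≤ V := by
  obtain ⟨l, hl, hgl⟩ := h.exists_cj hg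
  rw [hgl]
  exact h.cj_Y_le hl

/-- `C_G(u) ≤ N_G(V)` for the elements `u` of `V` in no conjugate of `Y`. -/
theorem cent_le_V' (h : YIn S V Y) {u : G} (hu : u ∈ V) (hu1 : u ≠ 1)
    (hY : ∀ g : G, cj g Y ≤ V → u ∉ cj g Y) :
    centralizer ({u} : Set G) ≤ normalizer (V : Set G) :=
  h.cent_le_V hu hu1 fun g hg => hY g (h.cj_Y_le hg)

theorem exists_cj_ne (h : YIn S V Y) : ∃ g ∈ normalizer (V : Set G), cj g Y ≠ Y := by
  by_contra hc
  push Not at hc
  have h1 : V ≤ Y := h.gen Y fun g hg => (hc g hg).le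
  have h2 := Subgroup.card_le_of_le h1
  rw [h.card_V, h.card_Y] at h2
  omega

theorem inf_eq_bot (h : YIn S V Y) {g : G} (hg : cj g Y ≠ Y) : Y ⊓ cj g Y = ⊥ := by
  by_contra h0
  exact hg (h.ti h0)

/-- Two different conjugates of `Y` in `V` generate `V`. -/
theorem sup_eq (h : YIn S V Y) {a b : G} (ha : cj a Y ≤ V) (hb : cj b Y ≤ V)
    (hab : cj a Y ≠ cj b Y) : cj a Y ⊓ cj b Y = ⊥ ∧ cj a Y ⊔ cj b Y = V := by
  have h1 : cj a Y ⊓ cj b Y = ⊥ := by
    have h2 : cj (a⁻¹ * b) Y ≠ Y := by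
      intro h0
      have h2 := congrArg (cj a) h0
      rw [cj_cj, mul_inv_cancel_left] at h2
      exact hab h2.symm
    have h3 := h.inf_eq_bot h2
    have h4 := congrArg (cj a) h3
    rw [cj_inf, cj_cj, mul_inv_cancel_left] at h4
    rw [h4]
    exact Subgroup.map_bot _
  refine ⟨h1, eq_of_le_of_card_ge (sup_le ha hb) ?_⟩
  have h2 : Nat.card (cj a Y) * Nat.card (cj b Y) ≤ Nat.card (cj a Y ⊔ cj b Y : Subgroup G) := by
    rw [← Nat.card_prod]
    refine Nat.card_le_card_of_injective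
      (fun x : ↥(cj a Y) × ↥(cj b Y) =>
        (⟨x.1 * x.2, mul_mem (mem_sup_left x.1.2) (mem_sup_right x.2.2)⟩ :
          (cj a Y ⊔ cj b Y : Subgroup G))) ?_
    rintro ⟨c, d⟩ ⟨c', d'⟩ hcd
    have h3 : (c : G) * d = c' * d' := congrArg Subtype.val hcd
    have h4 : (c' : G)⁻¹ * c = d' * (d : G)⁻¹ := by
      rw [eq_mul_inv_iff_mul_eq, mul_assoc, h3]; group
    have h5 : (c' : G)⁻¹ * c ∈ cj a Y ⊓ cj b Y :=
      mem_inf.2 ⟨mul_mem (inv_mem c'.2) c.2, by rw [h4]; exact mul_mem d'.2 (inv_mem d.2)⟩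
    have h6 := h5
    rw [h1, mem_bot] at h5
    rw [h4, h1, mem_bot] at h6
    rw [inv_mul_eq_one] at h5
    rw [mul_inv_eq_one] at h6
    exact Prod.ext (Subtype.ext h5.symm) (Subtype.ext h6.symm)
  rw [card_cj, card_cj, h.card_Y] at h2
  rw [h.card_V]
  exact h2

/-- `N_G(Y^a) ∩ N_G(Y^b) ≤ N_G(V)` for different conjugates `Y^a, Y^b ≤ V`. -/
theorem inf_normalizer_le (h : YIn S V Y) {a b : G} (ha : cj a Y ≤ V) (hb : cj b Y ≤ V)
    (hab : cj a Y ≠ cj b Y) :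
    normalizer ((cj a Y : Subgroup G) : Set G) ⊓ normalizer ((cj b Y : Subgroup G) : Set G) ≤
      normalizer (V : Set G) := by
  intro g hg
  rw [mem_normalizer_iff_cj, ← (h.sup_eq ha hb hab).2]
  exact (Subgroup.map_sup _ _ _).trans
    (congrArg₂ _ (cj_eq_of_mem_normalizer hg.1) (cj_eq_of_mem_normalizer hg.2))

end YIn

end Cfsg.Agent.MinSimple.EmptyE.YSet
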